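import Cfsg.Agent.SPOR.ML.Main
import Cfsg.Agent.SPOR.MP.RowBase
import Cfsg.Agent.SPOR.MP.Cov

/-!
Maximal 2-local subgroups of the Monster: the hypotheses hold in the Monster.
-/

set_option autoImplicit false
set_option linter.dupNamespace false

namespace CL.ML

open Cfsg CL.Leech CL.MT CL.LX CL.MSS CL.MP CL.Gr CL.MO Subgroup

theorem MH.comap {G K : Type*} [Group G] [Group K] {z : G} {Q : Subgroup G} {R : leechLattice → G → Prop}
    {A : Co0 → G → Prop} {D : Set G} (h : MH z Q R A D) (e : K ≃* G) :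
    MH (e.symm z) (Q.comap e.toMonoidHom) (fun v x => R v (e x)) (fun k c => A k (e c)) (e ⁻¹' D) where
  toMT := Y5.mt_comap h.toMT e
  conj := fun {t} ht g => by simpa using h.conj ht (e g)
  trans := fun {t t'} ht ht' => by simpa using e.symm.toMonoidHom.map_isConj (h.trans ht ht')
  of_R := h.of_R
  L := fun {y} hy hc hm => h.L hy (by simpa using congrArg e hc) (by simpa using hm)
  hB := fun k c hk a e' => h.hB k _ hk a (by simpa using congrArg e e')
  hG := by rw [Nat.card_congr e.toEquiv]; exact h.hG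

theorem mh_GG (P : Pk ℝ) : MH (zz P) (QQ P) (P.dat.R kR) (P.dat.A kR) (DD P) where
  toAX := ax_GG P
  hB := fun k c hk ⟨m, o, a⟩ e => by
    have a2 := a.mul two_ne_zero a
    rw [hk, ← Subgroup.coe_mul, e, ← mul_one neg1] at a2
    exact MR.not_ov two_ne_zero hk o
      (a2.eq_right two_ne_zero ((Gr.Dat.acts_one two_ne_zero).neg two_ne_zero))
  hG := by rw [card_GG]; norm_num

theorem main_monster : ∃ S : Finset (Subgroup Spor.Monster), S.card = 7 ∧ (∀ H ∈ S, IsTwoLocal H) ∧
    ∀ H : Subgroup Spor.Monster, IsMaximalTwoLocal H → ∃ H₀ ∈ S, ∃ g : Spor.Monster, H = g •ᶜ H₀ :=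
  main ((mh_GG P0).comap isoM) fun x hx y hy u hu a b c d =>
    noPure_GG P0 _ hx _ hy _ hu (by simpa using a) (by simpa using b) (by simpa using c) (by simpa using d)

end CL.ML
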