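import Cfsg.Agent.SPOR.ML.FrA

/-!
Maximal 2-local subgroups of the Monster: the group `Q ∩ Q_s` as the even cocode.
-/

set_option autoImplicit false
set_option linter.dupNamespace false

namespace CL.ML

open Cfsg CL.Leech CL.MT CL.LX CL.MSS CL.MP Subgroup
open CL.Golay (Code)
open scoped symmDiff

variable {G : Type*} [Group G] [Finite G] {z : G} {Q : Subgroup G} {R : leechLattice → G → Prop}
  {A : Co0 → G → Prop} {D : Set G}

open scoped Pointwise

namespace FrB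

theorem par {a : GolayPt → ℤ} {S : Finset GolayPt} (h : ∀ p, Odd (a p) ↔ p ∈ S) :
    (∑ i, a i) % 2 = 0 ↔ Even S.card := by
  have e : ∀ i, a i = 2 * (a i / 2) + if i ∈ S then 1 else 0 := fun i => by
    have := h i
    rw [Int.odd_iff] at this
    split_ifs with hi
    · have := this.2 hi; omega
    · have := mt this.1 hi; omega
  rw [Finset.sum_congr rfl fun i _ => e i, Finset.sum_add_distrib, ← Finset.mul_sum, Nat.even_iff]
  simp only [Finset.sum_ite_mem, Finset.univ_inter, Finset.sum_const, nsmul_eq_mul, mul_one]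
  omega

theorem four_sum {v a : GolayPt → ℤ} (hv : v ∈ leechLattice) (ha : ∀ p, v p = 4 * a p) : (∑ i, a i) % 2 = 0 := by
  obtain ⟨m, -, h2, -, h3⟩ := (mem_iff' _).1 hv
  have := h2 none
  simp only [ha, ← Finset.mul_sum] at this h3
  omega

theorem odd_add {a b : GolayPt → ℤ} {S T : Finset GolayPt} (h : ∀ p, Odd (a p) ↔ p ∈ S)
    (h' : ∀ p, Odd (b p) ↔ p ∈ T) (p : GolayPt) : Odd ((a + b) p) ↔ p ∈ S ∆ T := by
  rw [Pi.add_apply, Int.odd_add, ← Int.not_odd_iff_even, h, h', Finset.mem_symmDiff]; tauto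

theorem code_iff {a : GolayPt → ℤ} {S : Finset GolayPt} (h : ∀ p, Odd (a p) ↔ p ∈ S) :
    S ∈ Code ↔ red a ∈ golayCode := by
  rw [red_eq_ind (s := S) fun i => by rw [← h, Int.odd_iff]]
  exact mem_supports_iff S

theorem lift_ind (c : Finset GolayPt) (p : GolayPt) : lift (ind c) p = if p ∈ c then 1 else 0 := by
  unfold lift ind; split_ifs <;> simp_all

theorem norm_of {v a : GolayPt → ℤ} {k : ℤ} {S : Finset GolayPt} (hv : ∀ p, v p = k * a p)
    (ha : ∀ p, a p ^ 2 = if p ∈ S then 1 else 0) : sqNorm v = k ^ 2 * S.card := by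
  simp [sqNorm, hv, mul_pow, ha, ← Finset.mul_sum, mul_comm]

theorem r4_of {v : leechLattice} {x : G} (hx : R v x) (hv : ∀ p, (4 : ℤ) ∣ v.1 p) :
    R4 R (Finset.univ.filter fun p => Odd (v.1 p / 4)) x :=
  ⟨v, fun p => v.1 p / 4, hx, fun p => (Int.mul_ediv_cancel' (hv p)).symm, fun p => by simp⟩

theorem r4_e8 {s : G} (hs : R (e8 none) s) : R4 R ∅ s :=
  ⟨_, Pi.single none 2, hs, fun p => by rw [coe_e8, Pi.single_apply, Pi.single_apply]; split_ifs <;> rfl,
    fun p => by rw [Pi.single_apply]; split_ifs <;> simp <;> decide⟩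

/-- normal form -/
theorem nf (h : MH z Q R A D) {S : Finset GolayPt} {x : G} (e : R4 R S x) (j : GolayPt) :
    ∃ (u : leechLattice) (b : GolayPt → ℤ) (t : ℤ), R u x ∧ (t = 0 ∨ t = 1) ∧ (∀ p, u.1 p = 4 * b p) ∧
      ∀ p, b p = (if p ∈ S then 1 else 0) - if p = j then 2 * t else 0 := by
  obtain ⟨v, a, hx, hv, ha⟩ := e
  let k : GolayPt → ℤ := fun p => a p / 2 + if p = j then (∑ i, a i / 2) % 2 else 0
  have hk : (∑ i, k i) % 2 = 0 := by
    simp only [k, Finset.sum_add_distrib, Finset.sum_ite_eq', Finset.mem_univ, if_true]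
    omega
  refine ⟨v - 2 • ⟨_, four_mem hk⟩, fun p => a p - 2 * k p, (∑ i, a i / 2) % 2,
    h.R_of_cong hx ⟨_, sub_sub_cancel _ _⟩, Int.emod_two_eq_zero_or_one _, fun p => ?_, fun p => ?_⟩
  · show v.1 p - 2 • ((4 : ℤ) * k p) = _
    rw [hv, two_nsmul]; ring
  · have := ha p
    rw [Int.odd_iff] at this
    simp only [k]
    by_cases hi : p ∈ S
    · have := this.2 hi; rw [if_pos hi]; split_ifs <;> omega
    · have := mt this.1 hi; rw [if_neg hi]; split_ifs <;> omega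

theorem nf' (h : MH z Q R A D) {S : Finset GolayPt} {x : G} (e : R4 R S x) (h0 : 0 < S.card) :
    ∃ (u : leechLattice) (b : GolayPt → ℤ), R u x ∧ (∀ p, u.1 p = 4 * b p) ∧ sqNorm u.1 = 16 * S.card ∧
      ∀ p, (p ∈ S ∧ (b p = 1 ∨ b p = -1)) ∨ (p ∉ S ∧ b p = 0) := by
  obtain ⟨j, hj⟩ := Finset.card_pos.1 h0
  obtain ⟨u, b, t, hx, ht, hu, hb⟩ := nf h e j
  have k : ∀ p, (p ∈ S ∧ (b p = 1 ∨ b p = -1)) ∨ (p ∉ S ∧ b p = 0) := fun p => by
    rw [hb]
    by_cases hi : p ∈ S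
    · refine .inl ⟨hi, ?_⟩; rw [if_pos hi]; split_ifs <;> omega
    · refine .inr ⟨hi, ?_⟩; rw [if_neg hi, if_neg (ne_of_mem_of_not_mem hj hi).symm]; rfl
  refine ⟨u, b, hx, hu, norm_of hu fun p => ?_, k⟩
  rcases k p with ⟨hi, e | e⟩ | ⟨hi, e⟩ <;> simp [hi, e]

theorem code_of (h : MH z Q R A D) {S S' : Finset GolayPt} {x : G} (e : R4 R S x) (e' : R4 R S' x) :
    S ∆ S' ∈ Code := by
  obtain ⟨v, a, hx, hv, ha⟩ := e
  obtain ⟨w, b, hy, hw, hb⟩ := e'
  rw [code_iff (odd_add ha hb), red_add]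
  exact Rk.cong4 hv hw (h.cong_of hx hy)

theorem ev_symm (S T d : Finset GolayPt) :
    Even (S ∆ T ∩ d).card ↔ (Even (S ∩ d).card ↔ Even (T ∩ d).card) := by
  have := Golay.card_symmDiff_add (S ∩ d) (T ∩ d)
  rw [show (S ∩ d) ∆ (T ∩ d) = S ∆ T ∩ d from (inf_symmDiff_distrib_right S T d).symm] at this
  simp only [Nat.even_iff]
  omega

end FrB

open FrB

/-- `←`: `four_mem_cj`. `→`: `x` over `v` commutes with all elements over `f44 i j` and `e8` (`f44_mem`,
`inf_comm'`), so `v = 2 a` with all `a i` of the same parity; add `2 • o3` in the odd case. -/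
theorem r4_iff (h : MH z Q R A D) {s x : G} (hs : R (e8 none) s) :
    x ∈ Q ∧ x ∈ O2C s ↔ ∃ S, R4 R S x := by
  obtain ⟨c1, c2, c3⟩ := cj_e8 h hs
  obtain ⟨g, rfl⟩ := isConj_iff.1 c1
  refine ⟨fun ⟨hQ, hP⟩ => ?_, fun ⟨S, v, a, hx, hv, _⟩ => ⟨h.R_mem hx, ?_⟩⟩
  · obtain ⟨v, hx⟩ := h.ex_v x hQ
    have k : ∀ i j, (4 : ℤ) ∣ v.1 i + v.1 j := fun i j => by
      obtain ⟨f, hf⟩ := h.ex_x (f44 i j)
      have := (h.comm_iff hx hf).1 (inf_comm' h (IsConj.refl z) c1 c3 (O2C_z h ▸ hQ) hP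
        (O2C_z h ▸ h.R_mem hf) (O2C_cj h g ▸ f44_mem h.toMT hs hf)).1
      rw [dot_f44] at this
      omega
    by_cases c : (4 : ℤ) ∣ v.1 none
    · exact ⟨_, r4_of hx fun p => by have := k p none; omega⟩
    · refine ⟨_, r4_of (v := v - 2 • ⟨_, odd3_mem none⟩) (h.R_of_cong hx ⟨_, sub_sub_cancel _ _⟩) fun p => ?_⟩
      have := k p none
      have := k none none
      show (4 : ℤ) ∣ v.1 p - 2 • odd3 none p
      rw [two_nsmul]
      unfold odd3
      split_ifs <;> omega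
  · rw [O2C_cj h]
    exact four_mem_cj h.toMT hs (fun i => ⟨_, hv i⟩) hx

theorem r4_one (h : MH z Q R A D) : R4 R ∅ (1 : G) := by
  exact ⟨0, 0, h.R_zero, fun p => rfl, fun p => by simp⟩

theorem r4_f44 (h : MH z Q R A D) {i j : GolayPt} (hij : i ≠ j) {x : G} (hx : R (f44 i j) x) :
    R4 R {i, j} x := by
  refine ⟨_, fun p => (if p = i then 1 else 0) + if p = j then 1 else 0, hx, fun p => ?_, fun p => ?_⟩
  · rw [f44_apply]; beta_reduce; split_ifs <;> rfl
  · by_cases h1 : p = i <;> by_cases h2 : p = j <;> simp_all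

theorem exists_r4 (h : MH z Q R A D) {S : Finset GolayPt} (hS : Even S.card) : ∃ x : G, R4 R S x := by
  have ha : ∀ p, Odd (lift (ind S) p) ↔ p ∈ S := fun p => by rw [lift_ind]; split_ifs <;> simp [*]
  obtain ⟨x, hx⟩ := h.ex_x ⟨_, four_mem ((par ha).2 hS)⟩
  exact ⟨x, _, _, hx, fun p => rfl, ha⟩

namespace R4
variable {S S' T : Finset GolayPt} {s t x x' g : G}

theorem even (e : R4 R S x) : Even S.card := by
  obtain ⟨v, a, -, hv, ha⟩ := e
  exact (par ha).1 (four_sum v.2 hv)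

theorem mem (h : MH z Q R A D) (e : R4 R S x) : x ∈ Q := by
  exact let ⟨_, _, hx, _⟩ := e; h.R_mem hx

theorem sq (h : MH z Q R A D) (e : R4 R S x) : x * x = 1 := by
  have := e.even
  obtain ⟨v, a, hx, hv, ha⟩ := e
  have := (par (a := fun p => a p ^ 2) fun p => by rw [Int.odd_pow' two_ne_zero, ha]).2 this
  rw [h.sq_iff hx]
  simp only [sqNorm, hv, mul_pow, ← Finset.mul_sum]
  omega

theorem comm (h : MH z Q R A D) (e : R4 R S x) (e' : R4 R S' x') : x * x' = x' * x := by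
  obtain ⟨v, a, hx, hv, -⟩ := e
  obtain ⟨w, b, hy, hw, -⟩ := e'
  rw [h.comm_iff hx hy]
  exact Finset.dvd_sum fun i _ => ⟨a i * b i, by rw [hv, hw]; ring⟩

theorem mul (h : MH z Q R A D) (e : R4 R S x) (e' : R4 R S' x') : R4 R (S ∆ S') (x * x') := by
  obtain ⟨v, a, hx, hv, ha⟩ := e
  obtain ⟨w, b, hy, hw, hb⟩ := e'
  exact ⟨_, a + b, h.R_mul hx hy, fun p => by simp [hv, hw, mul_add], odd_add ha hb⟩

theorem mul_z (h : MH z Q R A D) (e : R4 R S x) : R4 R S (x * z) := by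
  exact let ⟨v, a, hx, k⟩ := e; ⟨v, a, h.R_z hx, k⟩

theorem mul_s (h : MH z Q R A D) (hs : R (e8 none) s) (e : R4 R S x) : R4 R S (x * s) := by
  have := e.mul h (r4_e8 hs)
  rwa [show S ∆ ∅ = S from symmDiff_bot S] at this

/-- add twice a lattice vector `2 c + 4 b` -/
theorem code (h : MH z Q R A D) (e : R4 R S x) {c : Finset GolayPt} (hc : c ∈ Code) :
    R4 R (S ∆ c) x := by
  obtain ⟨v, a, hx, hv, ha⟩ := e
  refine ⟨v + 2 • ⟨_, two_lift_mem ((mem_supports_iff c).1 hc)⟩, a + lift (ind c),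
    h.R_of_cong hx (Cong.symm ⟨_, add_sub_cancel_left _ _⟩), fun p => ?_,
    odd_add ha fun p => by rw [lift_ind]; split_ifs <;> simp [*]⟩
  show v.1 p + 2 • ((2 : ℤ) * lift (ind c) p) = _
  rw [hv, two_nsmul, Pi.add_apply]; ring

/-- `Rk.cong4`, `Rk.cong_of4` -/
theorem eq_cases (h : MH z Q R A D) (hs : R (e8 none) s) (e : R4 R S x) (e' : R4 R S' x') :
    S ∆ S' ∈ Code ↔ x' = x ∨ x' = x * z ∨ x' = x * s ∨ x' = x * s * z := by
  refine ⟨fun hc => ?_, ?_⟩
  · obtain ⟨v, a, hx, hv, ha⟩ := e.mul h e'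
    have k : ∀ y, x * x' = y → x' = x * y := fun y q => by rw [← q, ← mul_assoc, e.sq h, one_mul]
    rcases Rk.cong_of4 hv ((code_iff ha).1 hc) with c | c
    · rcases h.cases_of (h.R_of_cong h.R_zero c) hx with q | q
      · exact .inl ((k _ q).trans (mul_one _))
      · exact .inr (.inl (k _ (q.trans (one_mul _))))
    · rcases h.cases_of (h.R_of_cong hs c) hx with q | q
      · exact .inr (.inr (.inl (k _ q)))
      · exact .inr (.inr (.inr ((k _ q).trans (mul_assoc _ _ _).symm)))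
  · rintro (rfl | rfl | rfl | rfl)
    exacts [code_of h e e', code_of h (e.mul_z h) e', code_of h (e.mul_s h hs) e',
      code_of h ((e.mul_s h hs).mul_z h) e']

/-- the vector is congruent to `4 e_i ± 4 e_j` -/
theorem two (h : MH z Q R A D) (e : R4 R S x) (hS : S.card = 2) : x ∈ D := by
  obtain ⟨u, b, hx, -, hn, -⟩ := nf' h e (by omega)
  exact h.of_R hx (by rw [hn, hS]; rfl)

/-- the vector is congruent to `(±4)^4` -/
theorem four (h : MH z Q R A D) (hs : R (e8 none) s) (e : R4 R T x) (hT : T.card = 4) :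
    IsConj z x ∧ x ≠ z ∧ x ≠ s ∧ x ≠ s * z := by
  obtain ⟨u, b, hx, -, hn, -⟩ := nf' h e (by omega)
  rw [hT] at hn
  have k : ¬ R4 R ∅ x := fun e' => by
    have := Golay.card_of_mem_code (code_of h e e')
    rw [show T ∆ ∅ = T from symmDiff_bot T] at this
    omega
  exact ⟨h.conj_of_64 hx hn, (h.ne_of_norm hx hn.le (by rw [hn]; decide)).2, fun c => k (c ▸ r4_e8 hs),
    fun c => k (c ▸ (r4_e8 hs).mul_z h)⟩

/-- every even set is congruent modulo the code to a set of size `0`, `2` or `4` -/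
theorem tetrad (h : MH z Q R A D) (hs : R (e8 none) s) (e : R4 R S x) (hx : IsConj z x) (n1 : x ≠ z)
    (n2 : x ≠ s) (n3 : x ≠ s * z) : ∃ T, T.card = 4 ∧ R4 R T x := by
  obtain ⟨T, h4, hT⟩ := Golay.exists_small_Syn S
  have e' := e.code h (Golay.Syn_eq_iff.1 hT.symm)
  rw [symmDiff_symmDiff_cancel_left] at e'
  have ev := Nat.even_iff.1 e'.even
  rcases (by omega : T.card = 0 ∨ T.card = 2 ∨ T.card = 4) with c | c | c
  · rw [Finset.card_eq_zero.1 c] at e'
    have := ((r4_one h).eq_cases h hs e').1 (by simpa using Golay.empty_mem_code)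
    simp only [one_mul] at this
    have := (sq_of h hx).2
    tauto
  · exact absurd hx (not_conj_of_D h (e'.two h c))
  · exact ⟨T, c, e'⟩

theorem comm_two (h : MH z Q R A D) (e : R4 R S x) {q : G} {v : leechLattice} {a : GolayPt → ℤ}
    {d : Finset GolayPt} (hq : R v q) (hv : ∀ i, v.1 i = 2 * a i) (ha : ∀ i, Odd (a i) ↔ i ∈ d) :
    x * q = q * x ↔ Even (S ∩ d).card := by
  obtain ⟨w, b, hx, hw, hb⟩ := e
  rw [h.comm_iff hx hq, ← par (a := fun p => b p * a p) fun p => by rw [Int.odd_mul, hb, ha, Finset.mem_inter],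
    show dotInt w.1 v.1 = 8 * ∑ p, b p * a p by
      rw [Finset.mul_sum]; exact Finset.sum_congr rfl fun p _ => by rw [hw, hv]; ring]
  omega

/-- `t` lies over `u = (±4)^4` on `T`; choose `v = (±2)^8` on `d` in the lattice with `v = u / 2` on `T`;
then `v - u` has norm `32`, so `q, q t ∈ D` and `lemL` applies. -/
theorem exists_two (h : MH z Q R A D) (e : R4 R T t) (hT : T.card = 4) {d : Finset GolayPt} (hd : d ∈ Code)
    (h8 : d.card = 8) (hTd : T ⊆ d) : ∃ (q : G) (v : leechLattice) (a : GolayPt → ℤ), R v q ∧ q ∈ O2C t ∧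
      (∀ i, v.1 i = 2 * a i) ∧ (∀ i, Odd (a i) ↔ i ∈ d) := by
  obtain ⟨u, b, hx, hu, -, hb⟩ := nf' h e (by omega)
  obtain ⟨j, jd, jT⟩ := Finset.exists_mem_notMem_of_card_lt_card (s := T) (t := d) (by omega)
  let r0 : GolayPt → ℤ := fun p => if b p = -1 then 1 else 0
  let r : GolayPt → ℤ := fun p => r0 p + if p = j then (∑ i, r0 i) % 2 else 0
  have hr : (∑ i, r i) % 2 = 0 := by
    simp only [r, Finset.sum_add_distrib, Finset.sum_ite_eq', Finset.mem_univ, if_true]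
    omega
  let a : GolayPt → ℤ := fun p => lift (ind d) p - 2 * r p
  let v : leechLattice := ⟨_, sub_mem (two_lift_mem ((mem_supports_iff d).1 hd)) (four_mem hr)⟩
  have hv : ∀ p, v.1 p = 2 * a p := fun p => by simp only [v, a, Pi.sub_apply, Pi.smul_apply, smul_eq_mul]; ring
  have ha : ∀ p, (p ∈ d ∧ (a p = 1 ∨ a p = -1) ∧ (a p - 2 * b p = 1 ∨ a p - 2 * b p = -1)) ∨
      (p ∉ d ∧ a p = 0 ∧ a p - 2 * b p = 0) := fun p => by
    simp only [a, r, r0, lift_ind]
    generalize (∑ i, if b i = -1 then (1 : ℤ) else 0) = n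
    by_cases hp : p ∈ d
    · refine .inl ⟨hp, ?_⟩
      rw [if_pos hp]
      rcases hb p with ⟨hi, c⟩ | ⟨-, c⟩
      · rw [if_neg (ne_of_mem_of_not_mem hi jT)]; split_ifs <;> omega
      · split_ifs <;> omega
    · refine .inr ⟨hp, ?_⟩
      rw [if_neg hp, if_neg (ne_of_mem_of_not_mem jd hp).symm]
      have := ((hb p).resolve_left fun c => hp (hTd c.1)).2
      split_ifs <;> omega
  have n1 : sqNorm v.1 = 2 ^ 2 * d.card := norm_of hv fun p => by
    rcases ha p with ⟨hi, c | c, -⟩ | ⟨hi, c, -⟩ <;> simp [hi, c]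
  have n2 : sqNorm (v - u).1 = 2 ^ 2 * d.card := norm_of (a := fun p => a p - 2 * b p)
    (fun p => by rw [AddSubgroup.coe_sub, Pi.sub_apply, hv, hu]; ring) fun p => by
    rcases ha p with ⟨hi, -, c | c⟩ | ⟨hi, -, c⟩ <;> simp [hi, c]
  have od : ∀ i, Odd (a i) ↔ i ∈ d := fun p => by
    rcases ha p with ⟨hi, c | c, -⟩ | ⟨hi, c, -⟩ <;> simp [hi, c]
  rw [h8] at n1 n2
  obtain ⟨q, hq⟩ := h.ex_x v
  obtain ⟨s, hs⟩ := h.ex_x (e8 none)
  refine ⟨q, v, a, hq, lemL h (e.four h hs hT).1 (h.of_R hq n1) ((e.comm_two h hq hv od).2 ?_).symm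
    (h.of_R (h.R_of_cong (h.R_mul hq hx) ⟨u, by abel⟩) n2), hv, od⟩
  rw [Finset.inter_eq_left.2 hTd, hT]
  decide

/-- `exists_two`, `inf_comm'`, `comm_two` -/
theorem ev (h : MH z Q R A D) (e : R4 R T t) (hT : T.card = 4) (e' : R4 R S g) (hg : g ∈ O2C t)
    {d : Finset GolayPt} (hd : d ∈ Code) (h8 : d.card = 8) (hTd : T ⊆ d) : Even (S ∩ d).card := by
  obtain ⟨q, v, a, hq, hqt, hv, ha⟩ := e.exists_two h hT hd h8 hTd
  obtain ⟨s, hs⟩ := h.ex_x (e8 none)
  obtain ⟨c1, c2, -⟩ := e.four h hs hT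
  exact (e'.comm_two h hq hv ha).1 (inf_comm' h (IsConj.refl z) c1 c2 (O2C_z h ▸ e'.mem h) hg
    (O2C_z h ▸ h.R_mem hq) hqt).1

/-- `S` meets the six tetrads of the sextet of `T` with the same parity; after adding a code word with odd
parity on `T` all parities are even, so `S` is a sum of pairs inside tetrads `T'`; an element `f` over such a
pair has `f ∈ D`, `f t ∈ D` (`code`, `mul`, `two`), so `lemL`; `z, s ∈ Q_t`. -/
theorem mem_of_ev (h : MH z Q R A D) (e : R4 R T t) (hT : T.card = 4) (e' : R4 R S g)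
    (hv : ∀ d ∈ Code, d.card = 8 → T ⊆ d → Even (S ∩ d).card) : g ∈ O2C t := by
  obtain ⟨s, hs⟩ := h.ex_x (e8 none)
  obtain ⟨c1, -⟩ := e.four h hs hT
  have hz : z ∈ O2C t := perp_symm h (IsConj.refl z) c1 (O2C_z h ▸ e.mem h)
  have hst : s ∈ O2C t := perp_symm h (cj_e8 h hs).1 c1 ((r4_iff h hs).2 ⟨T, e⟩).2
  have sub : ∀ T' ∈ Golay.sextetOf T, ∀ U ⊆ T', Even U.card → ∃ f, R4 R U f ∧ f ∈ O2C t := fun T' hT' U hU ev => by
    obtain ⟨k4, ks⟩ := Golay.mem_sextetOf.1 hT'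
    have e1 := e.code h (Golay.Syn_eq_iff.1 ks.symm)
    rw [symmDiff_symmDiff_cancel_left] at e1
    have le := Finset.card_le_card hU
    rcases (by rw [Nat.even_iff] at ev; omega : U.card = 0 ∨ U.card = 2 ∨ U.card = 4) with c | c | c
    · exact ⟨1, Finset.card_eq_zero.1 c ▸ r4_one h, one_mem _⟩
    · obtain ⟨f, hf⟩ := exists_r4 h ev
      refine ⟨f, hf, lemL h c1 (hf.two h c) (hf.comm h e) ((hf.mul h e1).two h ?_)⟩
      have := Golay.card_symmDiff_add U T'
      rw [Finset.inter_eq_left.2 hU] at this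
      omega
    · exact ⟨t, Finset.eq_of_subset_of_card_le hU (by omega) ▸ e1, (lx_of h c1).z_mem⟩
  have key : ∀ S g, R4 R S g → (∀ d ∈ Code, d.card = 8 → T ⊆ d → Even (S ∩ d).card) → Even (S ∩ T).card →
      g ∈ O2C t := fun S g e' hv h0 => by
    have all : ∀ T' ∈ Golay.sextetOf T, Even (S ∩ T').card := fun T' hT' => by
      obtain ⟨k4, ks⟩ := Golay.mem_sextetOf.1 hT'
      by_cases c : T = T'
      · exact c ▸ h0
      have o := (Golay.union_mem_octads_iff hT k4).2 ⟨c, ks.symm⟩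
      have := hv _ (Golay.mem_octads.1 o).1 (Golay.mem_octads.1 o).2 Finset.subset_union_left
      rw [Finset.inter_union_distrib_left, Finset.card_union_of_disjoint
        ((Golay.disjoint_of_union_mem_octads hT k4 o).mono Finset.inter_subset_right Finset.inter_subset_right),
        Nat.even_add] at this
      exact this.1 h0
    have ind : ∀ W : Finset (Finset GolayPt), W ⊆ Golay.sextetOf T →
        ∃ f, R4 R (W.biUnion fun T' => S ∩ T') f ∧ f ∈ O2C t := fun W => by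
      induction W using Finset.induction_on with
      | empty => exact fun _ => ⟨1, r4_one h, one_mem _⟩
      | insert T' W n ih =>
        intro hW
        obtain ⟨hT', hW⟩ := Finset.insert_subset_iff.1 hW
        obtain ⟨f, hf, ft⟩ := ih hW
        obtain ⟨f', hf', ft'⟩ := sub T' hT' _ Finset.inter_subset_right (all T' hT')
        refine ⟨f' * f, ?_, mul_mem ft' ft⟩
        have := hf'.mul h hf
        rwa [Disjoint.symmDiff_eq_sup ((Finset.disjoint_biUnion_right _ _ _).2 fun U hU =>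
          (Golay.disjoint_of_mem_sextet (Golay.sextetOf_mem hT) hT' (hW hU) (ne_of_mem_of_not_mem hU n).symm).mono
            Finset.inter_subset_right Finset.inter_subset_right), Finset.sup_eq_union,
          ← Finset.biUnion_insert (t := fun T' => S ∩ T')] at this
    obtain ⟨f, hf, ft⟩ := ind _ le_rfl
    rw [show ((Golay.sextetOf T).biUnion fun T' => S ∩ T') = S from Finset.ext fun p => by
      obtain ⟨U, hU, hp⟩ := Golay.exists_tetrad_mem (Golay.sextetOf_mem hT) p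
      simp only [Finset.mem_biUnion, Finset.mem_inter]
      exact ⟨fun ⟨_, _, c, _⟩ => c, fun c => ⟨U, hU, c, hp⟩⟩] at hf
    rcases (hf.eq_cases h hs e').1 (by simpa using Golay.empty_mem_code) with rfl | rfl | rfl | rfl
    exacts [ft, mul_mem ft hz, mul_mem ft hst, mul_mem (mul_mem ft hst) hz]
  by_cases h0 : Even (S ∩ T).card
  · exact key S g e' hv h0
  obtain ⟨w, hw, n⟩ : ∃ w ∈ golayCode, ∑ i, w i * ind T i ≠ 0 := by
    by_contra! c
    have := Golay.card_of_mem_code ((mem_supports_iff T).2 (mem_code_of_orth c))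
    omega
  rw [Golay.dot_eq_card_inter, support_ind, Ne, ZMod.natCast_eq_zero_iff, ← even_iff_two_dvd] at n
  have hc := (support_mem_supports_iff w).2 hw
  exact key _ g (e'.code h hc) (fun d hd h8 hTd => (ev_symm _ _ _).2
    (iff_of_true (hv d hd h8 hTd) (Golay.even_card_inter hc hd))) ((ev_symm _ _ _).2 (iff_of_false h0 n))

theorem perm (h : MH z Q R A D) (e : R4 R S x) {σ : M24} {c : G} (hc : A (permHom σ) c) :
    R4 R (σ.1 • S) (c * x * c⁻¹) := by
  obtain ⟨v, a, hx, hv, ha⟩ := e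
  exact ⟨_, fun p => a (σ.1.symm p), h.R_conj hc hx, fun p => by rw [permHom_apply, hv], fun p => by
    rw [ha, ← Finset.inv_smul_mem_iff]; rfl⟩

theorem sgn_iff (h : MH z Q R A D) (e : R4 R S x) {c : Code} {p : G} (hp : A (sgn c) p) :
    (p * x * p⁻¹ = x ∨ p * x * p⁻¹ = x * z) ↔ Even (S ∩ c.1).card := by
  obtain ⟨v, a, hx, hv, ha⟩ := e
  have k : ∀ i, (v.1 - (sgn c • v).1) i = 8 * if i ∈ c.1 then a i else 0 := fun i => by
    rw [Pi.sub_apply, sgn_apply, hv]; split_ifs <;> ring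
  rw [← h.R_cong hx (h.R_conj hp hx), cong_iff_coe, ← par (a := fun i => if i ∈ c.1 then a i else 0) fun i => by
    rw [Finset.mem_inter, ← ha]; split_ifs <;> simp [*]]
  refine ⟨fun ⟨w, hw, e⟩ => four_sum hw fun i => ?_, fun e => ⟨_, four_mem e, funext fun i => ?_⟩⟩
  · have := k i
    rw [e, Pi.smul_apply, nsmul_eq_mul] at this
    push_cast at this
    omega
  · rw [k, Pi.smul_apply, Pi.smul_apply, nsmul_eq_mul, smul_eq_mul]
    push_cast; ring

theorem mem_oa {h : MH z Q R A D} {O : Code} {E : Subgroup G} (o : OA h O E) (e : R4 R S x)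
    (hS : S ⊆ O.1) : x ∈ E := by
  obtain ⟨j, hj⟩ := Finset.card_pos.1 (o.card ▸ (by norm_num : 0 < 8))
  obtain ⟨u, b, t, hx, -, hu, hb⟩ := nf h e j
  refine ((o.inf x).2 ⟨u, fun p hp => ?_, hx⟩).1
  rw [hu, hb, if_neg fun c => hp (hS c), if_neg (ne_of_mem_of_not_mem hj hp).symm]
  rfl

end R4

/-- `LO.four_or`; a vector `≡ 2` on the octad does not commute with all elements over `f44 i j` -/
theorem OA.r4 {h : MH z Q R A D} {O : Code} {E : Subgroup G} (o : OA h O E) {s x : G}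
    (hs : R (e8 none) s) (hx : x ∈ E) (hQ : x ∈ Q) (hP : x ∈ O2C s) : ∃ S ⊆ O.1, R4 R S x := by
  obtain ⟨v, hv, hx⟩ := (o.inf x).1 ⟨hx, hQ⟩
  rcases LO.four_or o.card hv with c | c
  · refine ⟨_, fun p hp => by_contra fun n => ?_, r4_of hx c⟩
    simpa [hv p n] using hp
  obtain ⟨i, hi⟩ := Finset.card_pos.1 (o.card ▸ (by norm_num : 0 < 8))
  obtain ⟨j, -, hj⟩ := Finset.exists_mem_notMem_of_card_lt_card (s := O.1) (t := Finset.univ)
    (by rw [o.card, Finset.card_univ, card_pt]; norm_num)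
  obtain ⟨f, hf⟩ := h.ex_x (f44 i j)
  obtain ⟨f1, f2⟩ := (r4_iff h hs).2 ⟨_, r4_f44 h (ne_of_mem_of_not_mem hi hj) hf⟩
  obtain ⟨c1, -, c3⟩ := cj_e8 h hs
  have := (h.comm_iff hx hf).1 (inf_comm' h (IsConj.refl z) c1 c3 (O2C_z h ▸ hQ) hP (O2C_z h ▸ f1) f2).1
  rw [dot_f44, hv j hj] at this
  have := c i hi
  omega

end CL.ML
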