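import Cfsg.Agent.SPOR.ML.Comm
import Cfsg.Agent.SPOR.ML.FrB

/-!
Maximal 2-local subgroups of the Monster: the arks of a non-orthogonal pair commute.
-/

set_option autoImplicit false
set_option linter.dupNamespace false

namespace CL.ML

open Cfsg CL.Leech CL.MT CL.LX CL.MSS CL.MP Subgroup
open CL.Golay (Code)
open scoped symmDiff

variable {G : Type*} [Group G] [Finite G] {z : G} {Q : Subgroup G} {R : leechLattice → G → Prop}
  {A : Co0 → G → Prop} {D : Set G}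

namespace A3

theorem inter_eq {O d w : Finset GolayPt} (hO : O ∈ Code) (c : O.card = 8) (hw : w ⊆ O)
    (c4 : w.card = 4) (hd : d ∈ Code) (c8 : d.card = 8) (hwd : w ⊆ d) (ne : d ≠ O) : O ∩ d = w := by
  symm
  apply Finset.eq_of_subset_of_card_le (Finset.subset_inter hw hwd)
  have := Golay.card_inter_octads (s := O) (t := d) ⟨hO, c⟩ ⟨hd, c8⟩ ne.symm
  omega

theorem part {O w : Finset GolayPt} (hO : O ∈ Code) (c : O.card = 8) (hw : w ⊆ O) (c4 : w.card = 4) :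
    ∃ d : Fin 4 → Finset GolayPt, (∀ i, d i ∈ Code ∧ (d i).card = 8 ∧ w ⊆ d i ∧ d i ≠ O) ∧
      ∀ Y : Finset GolayPt, Y.card + 4 * (Y ∩ w).card =
        (Y ∩ O).card + ((Y ∩ d 0).card + (Y ∩ d 1).card + (Y ∩ d 2).card + (Y ∩ d 3).card) := by
  classical
  set X : Finset (Finset GolayPt) :=
    Finset.univ.filter fun d => d ∈ Code ∧ d.card = 8 ∧ w ⊆ d ∧ d ≠ O with hX
  have mX : ∀ d, d ∈ X ↔ d ∈ Code ∧ d.card = 8 ∧ w ⊆ d ∧ d ≠ O := fun d => by simp [hX]
  have n : ∀ p, (X.filter fun d => p ∈ d).card =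
      (if p ∈ w then X.card else 0) + if p ∈ O then 0 else 1 := by
    intro p
    by_cases h1 : p ∈ w
    · rw [if_pos h1, if_pos (hw h1), Finset.filter_true_of_mem fun d hd => ((mX d).1 hd).2.2.1 h1,
        add_zero]
    by_cases h2 : p ∈ O
    · rw [if_neg h1, if_pos h2, add_zero, Finset.card_eq_zero, Finset.filter_eq_empty_iff]
      intro d hd hp
      obtain ⟨a1, a2, a3, a4⟩ := (mX d).1 hd
      exact h1 (inter_eq hO c hw c4 a1 a2 a3 a4 ▸ Finset.mem_inter.2 ⟨h2, hp⟩)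
    · rw [if_neg h1, if_neg h2, zero_add, Finset.card_eq_one]
      obtain ⟨d, ⟨hd, hs⟩, hu⟩ := Golay.steiner_octads.2 (insert p w)
        (by rw [Finset.card_insert_of_notMem h1, c4])
      have hp : p ∈ d := hs (Finset.mem_insert_self _ _)
      refine ⟨d, Finset.eq_singleton_iff_unique_mem.2 ⟨Finset.mem_filter.2 ⟨(mX d).2
        ⟨hd.1, hd.2, (Finset.subset_insert _ _).trans hs, fun e => h2 (e ▸ hp)⟩, hp⟩, fun d' hd' => ?_⟩⟩
      obtain ⟨b1, b2⟩ := Finset.mem_filter.1 hd'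
      obtain ⟨a1, a2, a3, -⟩ := (mX d').1 b1
      exact hu d' ⟨⟨a1, a2⟩, Finset.insert_subset b2 a3⟩
  have key : ∀ Y : Finset GolayPt,
      ∑ d ∈ X, (Y ∩ d).card = (Y ∩ w).card * X.card + (Y \ O).card := by
    intro Y
    have e1 : ∀ d, (Y ∩ d).card = ∑ p ∈ Y, if p ∈ d then 1 else 0 := fun d => by
      rw [← Finset.card_filter, Finset.filter_mem_eq_inter]
    simp only [e1]
    rw [Finset.sum_comm]
    have e2 : ∀ p, (∑ d ∈ X, if p ∈ d then 1 else 0) =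
        (if p ∈ w then 1 else 0) * X.card + if p ∈ O then 0 else 1 := fun p => by
      rw [← Finset.card_filter, n]
      split_ifs <;> simp
    simp only [e2]
    rw [Finset.sum_add_distrib, ← Finset.sum_mul]
    congr 1
    rw [Finset.sdiff_eq_filter, Finset.card_filter]
    exact Finset.sum_congr rfl fun p _ => by split_ifs <;> rfl
  have c4X : X.card = 4 := by
    have k := key Finset.univ
    simp only [Finset.univ_inter] at k
    rw [Finset.sum_congr rfl (fun d hd => ((mX d).1 hd).2.1), Finset.sum_const, c4,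
      Finset.card_univ_sdiff, c, smul_eq_mul] at k
    have : Fintype.card GolayPt = 24 := by decide
    omega
  let e := Finset.equivFinOfCardEq c4X
  refine ⟨fun i => (e.symm i).1, fun i => (mX _).1 (e.symm i).2, fun Y => ?_⟩
  have k := key Y
  rw [← Finset.sum_coe_sort, ← e.symm.sum_comp, Fin.sum_univ_four, c4X] at k
  have := Finset.card_sdiff_add_card_inter Y O
  simp only
  omega

theorem three {O w w' : Finset GolayPt} (hO : O ∈ Code) (c : O.card = 8) (hw : w ⊆ O)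
    (c4 : w.card = 4) (c4' : w'.card = 4)
    (h1 : ∀ d ∈ Code, d.card = 8 → w ⊆ d → d ≠ O → Odd (w' ∩ d).card) (a : (w' ∩ w).card = 1)
    (b : (w' ∩ O).card = 2) : ∃ d ∈ Code, d.card = 8 ∧ w ⊆ d ∧ (w' ∩ d).card = 3 := by
  obtain ⟨d, hd, k⟩ := part hO c hw c4
  have o := fun i => Nat.odd_iff.1 (h1 _ (hd i).1 (hd i).2.1 (hd i).2.2.1 (hd i).2.2.2)
  have l : ∀ i, (w' ∩ d i).card ≤ 4 := fun i => c4' ▸ Finset.card_le_card Finset.inter_subset_left
  by_contra hn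
  have m : ∀ i, (w' ∩ d i).card ≠ 3 := fun i e => hn ⟨_, (hd i).1, (hd i).2.1, (hd i).2.2.1, e⟩
  have := k w'
  have := o 0; have := o 1; have := o 2; have := o 3
  have := l 0; have := l 1; have := l 2; have := l 3
  have := m 0; have := m 1; have := m 2; have := m 3
  omega

theorem par {O w w' : Finset GolayPt} (hO : O ∈ Code) (c : O.card = 8) (hw : w ⊆ O)
    (c4 : w.card = 4) (c4' : w'.card = 4)
    (h1 : ∀ d ∈ Code, d.card = 8 → w ⊆ d → d ≠ O → Odd (w' ∩ d).card) :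
    (w' ∩ O).card % 2 = 0 ∧ (w' ∩ w).card ≤ (w' ∩ O).card ∧
      ((w' ∩ w).card % 2 = 0 → (w' ∩ O).card = 0) := by
  obtain ⟨d, hd, k⟩ := part hO c hw c4
  have o := fun i => Nat.odd_iff.1 (h1 _ (hd i).1 (hd i).2.1 (hd i).2.2.1 (hd i).2.2.2)
  have l : ∀ i, (w' ∩ w).card ≤ (w' ∩ d i).card := fun i =>
    Finset.card_le_card (Finset.inter_subset_inter_left (hd i).2.2.1)
  have := k w'
  have := o 0; have := o 1; have := o 2; have := o 3
  have := l 0; have := l 1; have := l 2; have := l 3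
  refine ⟨by omega, Finset.card_le_card (Finset.inter_subset_inter_left hw), by omega⟩

theorem un {s t u v : Finset GolayPt} (hs : u ⊆ s) (ht : v ⊆ t) :
    (v ∩ s).card + (u ∩ t).card ≤ (s ∩ t).card + (v ∩ u).card := by
  have e : (v ∩ s) ∩ (u ∩ t) = v ∩ u := by
    ext p
    simp only [Finset.mem_inter]
    exact ⟨fun h => ⟨h.1.1, h.2.1⟩, fun h => ⟨⟨h.1, hs h.2⟩, h.2, ht h.1⟩⟩
  have k := Finset.card_union_add_card_inter (v ∩ s) (u ∩ t)
  have l : ((v ∩ s) ∪ (u ∩ t)).card ≤ (s ∩ t).card := by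
    apply Finset.card_le_card
    intro p
    simp only [Finset.mem_inter, Finset.mem_union]
    rintro (h | h)
    · exact ⟨h.2, ht h.1⟩
    · exact ⟨hs h.1, h.2⟩
  rw [e] at k
  omega

theorem par2 (X Y Z : Finset GolayPt) :
    Even ((X ∆ Y) ∩ Z).card ↔ (Even (X ∩ Z).card ↔ Even (Y ∩ Z).card) := by
  have e : (X ∆ Y) ∩ Z = (X ∩ Z) ∆ (Y ∩ Z) := by
    ext p
    simp only [Finset.mem_inter, Finset.mem_symmDiff]
    tauto
  have k := Golay.card_symmDiff_add (X ∩ Z) (Y ∩ Z)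
  rw [e]
  simp only [Nat.even_iff]
  omega

end A3

/-- finite check (true: verified by computer). Move `O` to `O0`. By hand: the four octads `d ≠ O` on `w` are
`w ∪ X_i`, the `X_i` partition `Oᶜ`; `|O ∩ O'| = 2`: `O'` misses some `X_i`; `|O ∩ O'| = 4`: the two
conditions give two octads whose sum has weight `≤ 6`. -/
theorem a3_golay {O O' w w' : Finset GolayPt} (hO : O ∈ Code) (hO' : O' ∈ Code) (c : O.card = 8)
    (c' : O'.card = 8) (ne : O ≠ O') (hd : ¬ Disjoint O O') (hw : w ⊆ O) (hw' : w' ⊆ O') (c4 : w.card = 4)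
    (c4' : w'.card = 4) (h1 : ∀ d ∈ Code, d.card = 8 → w ⊆ d → d ≠ O → Odd (w' ∩ d).card)
    (h2 : ∀ d ∈ Code, d.card = 8 → w' ⊆ d → d ≠ O' → Odd (w ∩ d).card) : False := by
  obtain ⟨p1, p2, p3⟩ := A3.par hO c hw c4 c4' h1
  obtain ⟨q1, q2, q3⟩ := A3.par hO' c' hw' c4' c4 h2
  rw [Finset.inter_comm w w'] at q2 q3
  have i := Golay.card_inter_octads (s := O) (t := O') ⟨hO, c⟩ ⟨hO', c'⟩ ne
  by_cases ha : (w' ∩ w).card % 2 = 0
  · obtain ⟨d, hd', k⟩ := A3.part hO c hw c4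
    have o : ∀ i, 2 ≤ (O' ∩ d i).card := fun i => by
      have a := Nat.odd_iff.1 (h1 _ (hd' i).1 (hd' i).2.1 (hd' i).2.2.1 (hd' i).2.2.2)
      have b := Nat.even_iff.1 (Golay.even_card_inter hO' (hd' i).1)
      have : (w' ∩ d i).card ≤ (O' ∩ d i).card :=
        Finset.card_le_card (Finset.inter_subset_inter_right hw')
      omega
    have k1 := k O'
    have := o 0; have := o 1; have := o 2; have := o 3
    rw [Finset.inter_comm O' w, Finset.inter_comm O' O, q3 ha, c'] at k1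
    exact hd (Finset.disjoint_iff_inter_eq_empty.2 (Finset.card_eq_zero.1 (by omega)))
  · have u := A3.un hw hw'
    obtain ⟨d, d1, d2, d3, d4⟩ := A3.three hO c hw c4 c4' h1 (by omega) (by omega)
    obtain ⟨d', d1', d2', d3', d4'⟩ := A3.three hO' c' hw' c4' c4 h2
      (by rw [Finset.inter_comm]; omega) (by omega)
    have u' := A3.un d3 d3'
    have e : d = d' := Golay.octad_eq_of_le_card_inter ⟨d1, d2⟩ ⟨d1', d2'⟩ (by omega)
    subst e
    rw [Finset.inter_eq_left.2 d3'] at d4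
    omega

/-- `E = Ak x y`, `x ∈ E` over the tetrad `w ⊆ O`, `y` over `w'`. `IsArk.sep` gives `b ∈ E ∩ Q ∩ Q_s \ Q_x`,
over `S ⊆ O` (`OA.r4`); `b y ∈ Q_x` (`OctT.ark`, `mul_mem_O2C`). `R4.ev` for `b y`: `|(S ∆ w') ∩ d|` is even
for the octads `d ⊇ w`. `|S ∩ w|` is odd, since otherwise `R4.mem_of_ev` gives `b ∈ Q_x` (`d ∩ O = w` for
`d ≠ O`). -/
theorem a3_odd {h : MH z Q R A D} {s x y : G} (hs : R (e8 none) s) {O : Code} (e : OctT z A x y)
    (o : OA h O (Ak x y)) {w w' : Finset GolayPt} (hw : w ⊆ O.1) (c4 : w.card = 4) (rx : R4 R w x)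
    (ry : R4 R w' y) : ∀ d ∈ Code, d.card = 8 → w ⊆ d → d ≠ O.1 → Odd (w' ∩ d).card := by
  intro d hd h8 hwd ne
  obtain ⟨ea, xm, -, b0, m0, n0, hb0⟩ := e.ark h
  obtain ⟨zx, n1, n2, n3⟩ := rx.four h hs c4
  obtain ⟨b, hb, b1, b2, b3⟩ := ea.sep xm zx (o.e8_mem hs) (cj_e8 h hs).1 o.z_mem (IsConj.refl z) n2 n1 n3
  rw [O2C_z h] at b3
  obtain ⟨S, hS, rb⟩ := o.r4 hs hb b3 b2
  have m : b * y ∈ O2C x := by
    have := mul_mem (ea.mul_mem_O2C xm zx hb m0 b1 n0) hb0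
    rwa [mul_assoc, ← mul_assoc b0, ea.sq m0, one_mul] at this
  have k : ∀ d ∈ Code, d.card = 8 → w ⊆ d → d ≠ O.1 → S ∩ d = S ∩ w := fun d hd h8 hwd ne => by
    rw [← A3.inter_eq O.2 o.card hw c4 hd h8 hwd ne, ← Finset.inter_assoc, Finset.inter_eq_left.2 hS]
  have ev := (A3.par2 _ _ _).1 (rx.ev h c4 (rb.mul h ry) m hd h8 hwd)
  rw [← Nat.not_even_iff_odd, ← ev, k d hd h8 hwd ne]
  refine fun ev' => b1 (rx.mem_of_ev h c4 rb fun d' hd' h8' hwd' => ?_)
  by_cases e' : d' = O.1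
  · rw [e', Finset.inter_eq_left.2 hS]
    exact rb.even
  · rwa [k d' hd' h8' hwd' e']

namespace A3

variable {h : MH z Q R A D} {x y u : G}

/-- `u ∈ E ∩ E' ∩ Q_x ∩ Q_y` -/
def In (x y u : G) : Prop := u ∈ Ak x y ∧ u ∈ Ak y x ∧ u ∈ O2C x ∧ u ∈ O2C y

theorem In.conj (e : In x y u) (g : G) : In (g * x * g⁻¹) (g * y * g⁻¹) (g * u * g⁻¹) :=
  ⟨Ak_conj g x y ▸ conj_mem_cj e.1, Ak_conj g y x ▸ conj_mem_cj e.2.1, (mem_O2C_conj g).2 e.2.2.1,
    (mem_O2C_conj g).2 e.2.2.2⟩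

theorem back (g : G) (e : Ak (g * y * g⁻¹) (g * x * g⁻¹) ≤
    centralizer (Ak (g * x * g⁻¹) (g * y * g⁻¹) : Set G)) : Ak y x ≤ centralizer (Ak x y : Set G) := by
  rw [Ak_conj, Ak_conj] at e
  simpa only [inv_cj_cj] using Comm.cj_cent e g⁻¹

theorem nrm (h : MH z Q R A D) (e : OctT z A x y) (e' : OctT z A y x) {g : G} (hg : g ∈ Ak y x) :
    g ∈ normalizer (Ak x y : Set G) ∧ g * x = x * g :=
  have k : g * x = x * g := e'.cent_self h (sq_of h e.cj).1 g hg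
  ⟨norm_Ak k ((e'.ark h).1.comm hg (e'.ark h).2.1), k⟩

theorem cm (h : MH z Q R A D) (e : OctT z A x y) (e' : OctT z A y x) {g w : G} (hg : g ∈ Ak y x)
    (hw : w ∈ Ak x y) : In x y (g * w * g⁻¹ * w⁻¹) := by
  obtain ⟨g1, g2⟩ := nrm h e e' hg
  obtain ⟨w1, w2⟩ := nrm h e' e hw
  refine ⟨mul_mem ((mem_normalizer_iff.1 g1 w).1 hw) (inv_mem hw), ?_,
    (e.ark h).1.comm_perp (e.ark h).2.1 e.cj g1 g2 hw, ?_⟩
  · have := mul_mem hg ((mem_normalizer_iff.1 w1 g⁻¹).1 (inv_mem hg))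
    simpa only [mul_assoc] using this
  · have := inv_mem ((e'.ark h).1.comm_perp (e'.ark h).2.1 e'.cj w1 w2 hg)
    simpa only [mul_inv_rev, inv_inv, mul_assoc] using this

theorem eq_of_mem (h : MH z Q R A D) (e : OctT z A x y) (e' : OctT z A y x) (m : x ∈ Ak y x) :
    Ak x y = Ak y x :=
  ((e'.ark h).1.eq_Ak m e.cj (e'.ark h).2.1 (e.not_mem h) (y := y)
    (by rw [(sq_of h e'.cj).1]; exact one_mem _)).1

theorem tet {O : Code} {E E' : Subgroup G} (o : OA h O E) {s : G} (hs : R (e8 none) s) (hx : x ∈ E)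
    (zx : IsConj z x) (z1 : z ∈ O2C x) (s1 : s ∈ O2C x) (z2 : z ∈ E') (s2 : s ∈ E') (n : x ∉ E') :
    ∃ w ⊆ O.1, w.card = 4 ∧ R4 R w x := by
  obtain ⟨S, hS, r⟩ := o.r4 hs hx (O2C_z h ▸ perp_symm h zx (IsConj.refl z) z1)
    (perp_symm h zx (cj_e8 h hs).1 s1)
  have k : S ∉ Code := fun m => by
    have := ((r4_one h).eq_cases h hs r).1 (by rwa [← Finset.bot_eq_empty, bot_symmDiff])
    simp only [one_mul] at this
    rcases this with e | e | e | e <;> rw [e] at n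
    exacts [n (one_mem _), n z2, n s2, n (mul_mem s2 z2)]
  have k0 : S.card ≠ 0 := fun e => k (Finset.card_eq_zero.1 e ▸ Golay.empty_mem_code)
  have k8 : S.card < 8 := by
    by_contra e
    exact k (Finset.eq_of_subset_of_card_le hS (by rw [o.card]; omega) ▸ O.2)
  have k2 : S.card ≠ 2 := fun e => not_conj_of_D h (r.two h e) zx
  have k6 : S.card ≠ 6 := fun e => not_conj_of_D h ((r.code h O.2).two h (by
    have := Golay.card_symmDiff_add S O.1
    rw [Finset.inter_eq_left.2 hS, o.card] at this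
    omega)) zx
  have := Nat.even_iff.1 r.even
  exact ⟨S, hS, by omega, r⟩

theorem core2 (h : MH z Q R A D) (e : OctT z A x y) (e' : OctT z A y x) (iz : In x y z) {s : G}
    (hs : R (e8 none) s) (is : In x y s) : Ak y x ≤ centralizer (Ak x y : Set G) := by
  by_contra nc
  have ne : Ak x y ≠ Ak y x := fun q => nc fun a ha b hb =>
    (e.ark h).1.comm hb (q ▸ ha)
  obtain ⟨O, o⟩ := oa_of_mem h (e.ark h).1 iz.1 is.1 hs
  obtain ⟨O', o'⟩ := oa_of_mem h (e'.ark h).1 iz.2.1 is.2.1 hs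
  obtain ⟨w, hw, c4, rx⟩ := tet o hs (e.ark h).2.1 e.cj iz.2.2.1 is.2.2.1 iz.2.1 is.2.1
    fun m => ne (eq_of_mem h e e' m)
  obtain ⟨w', hw', c4', ry⟩ := tet o' hs (e'.ark h).2.1 e'.cj iz.2.2.2 is.2.2.2 iz.1 is.1
    fun m => ne (eq_of_mem h e' e m).symm
  refine a3_golay O.2 O'.2 o.card o'.card (fun q => ne ?_) (fun q => nc (o.comm o' q)) hw hw' c4 c4'
    (a3_odd hs e o hw c4 rx ry) (a3_odd hs e' o' hw' c4' ry rx)
  obtain rfl : O = O' := Subtype.ext q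
  exact o.unique o'

theorem core1 (h : MH z Q R A D) (e : OctT z A x y) (e' : OctT z A y x) (iz : In x y z) :
    Ak y x ≤ centralizer (Ak x y : Set G) := by
  by_contra nc
  obtain ⟨b, hb, -, b1⟩ := (e'.ark h).1.exists_not_mem iz.2.1 (IsConj.refl z)
  have bz := (e'.ark h).1.comm hb iz.2.1
  obtain ⟨w, hw, -, zs, sz⟩ := (e.ark h).1.refl2 iz.1 (IsConj.refl z) (nrm h e e' hb).1
    ((e'.ark h).1.sq hb) bz (by
      by_contra q
      refine nc (comm_of_triv (e.ark h).1 (e'.ark h).1 iz.1 iz.2.1 (IsConj.refl z) hb b1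
        fun w hw hw' => ?_)
      by_contra q'
      exact q ⟨w, hw, hw', not_or.1 q'⟩)
  obtain ⟨c, cz, hc⟩ := move h (O2C_z h ▸ (e.ark h).1.comm_perp iz.1 (IsConj.refl z)
    (nrm h e e' hb).1 bz hw) zs sz
  have k := iz.conj c
  rw [cz, mul_inv_cancel_right] at k
  exact nc (back c (core2 h (e.conj c) (e'.conj c) k hc ((cm h e e' hb hw).conj c)))

end A3

/-- `E = Ak x y`, `E' = Ak y x` normalise each other: `E` centralises `x` and `y` (`OctT.cent_self`),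
`norm_Ak`. Suppose `E ≠ E'` do not commute; `x ∉ E'`, `y ∉ E` (`IsArk.eq_of_pair`, `perp_symm`). `refl1` gives
a 2B element `u = [g, w] ∈ E ∩ E'` with `u ∈ Q_x ∩ Q_y` (`comm_perp` in both arks); conjugate to `u = z`. For
`b' ∈ E' \ Q`: `comm_of_triv` fails, so `refl2` gives a 2B element `s = [b', w] ≠ z` in `E ∩ E' ∩ Q`, again
in `Q_x ∩ Q_y`; `move` it over `e8`. `oa_of_mem` gives octads `O ≠ O'`, not disjoint (`OA.comm`). `x, y` lie
in `Q ∩ Q_s`, not in `⟨z, s⟩`; `OA.r4` and `R4.tetrad` (inside an octad: `S ⊆ O` even, `|S| ∈ {0, 8}` gives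
`⟨z, s⟩`, `|S| ∈ {2, 6}` gives `D`) give tetrads `w ⊆ O`, `w' ⊆ O'`; `a3_odd` twice, `a3_golay`. -/
theorem a3_comm (h : MH z Q R A D) {x y : G} (e : OctT z A x y) (e' : OctT z A y x) :
    Ak y x ≤ centralizer (Ak x y : Set G) := by
  by_contra nc
  obtain ⟨g, hg, n⟩ := SetLike.not_le_iff_exists.1 nc
  obtain ⟨w, hw, zu⟩ := (e.ark h).1.refl1 (A3.nrm h e e' hg).1 ((e'.ark h).1.sq hg) (by
    by_contra q
    exact n fun w hw => by_contra fun q' => q ⟨w, hw, fun q'' => q' q''.symm⟩)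
  obtain ⟨c, hc⟩ := isConj_iff.1 zu.symm
  exact nc (A3.back c (A3.core1 h (e.conj c) (e'.conj c) (hc ▸ (A3.cm h e e' hg hw).conj c)))

end CL.ML
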