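import Cfsg.Agent.SPOR.ML.Comm
import Cfsg.Agent.SPOR.ML.FrB

/-!
Maximal 2-local subgroups of the Monster: reduction of `a3_comm` to the Golay code.
-/

set_option autoImplicit false
set_option linter.dupNamespace false

namespace CL.ML.A3c

open Cfsg CL.Leech CL.MT CL.LX CL.MSS CL.MP Subgroup
open CL.Golay (Code)
open scoped symmDiff

variable {G : Type*} [Group G] [Finite G] {z : G} {Q : Subgroup G} {R : leechLattice → G → Prop}
  {A : Co0 → G → Prop} {D : Set G}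

theorem tet {h : MH z Q R A D} {s x : G} (hs : R (e8 none) s) {O : Code} {E E' : Subgroup G} (o : OA h O E)
    (hx : x ∈ E) (hz : IsConj z x) (zx : z ∈ O2C x) (sx : s ∈ O2C x) (z' : z ∈ E') (s' : s ∈ E')
    (hn : x ∉ E') : ∃ w ⊆ O.1, w.card = 4 ∧ R4 R w x := by
  obtain ⟨S, hS, r⟩ := o.r4 hs hx (O2C_z h ▸ perp_symm h hz (IsConj.refl z) zx)
    (perp_symm h hz (cj_e8 h hs).1 sx)
  have k0 : S ∉ Code := fun hc => by
    rcases (R4.eq_cases h hs (r4_one h) r).1 (by rwa [← Finset.bot_eq_empty, bot_symmDiff]) with e | e | e | e <;> rw [e] at hn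
    · exact hn (one_mem _)
    · exact hn (mul_mem (one_mem _) z')
    · exact hn (mul_mem (one_mem _) s')
    · exact hn (mul_mem (mul_mem (one_mem _) s') z')
  have k1 : S.card ≠ 0 := fun e => k0 (by rw [Finset.card_eq_zero.1 e]; exact Golay.empty_mem_code)
  have k2 : S.card ≠ 2 := fun e => not_conj_of_D h (r.two h e) hz
  have k3 : S.card ≠ 6 := fun e => not_conj_of_D h ((r.code h O.2).two h (by
    rw [symmDiff_of_le hS, Finset.card_sdiff_of_subset hS, o.card, e])) hz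
  have k4 : S.card ≠ 8 := fun e => k0 (by
    rw [Finset.eq_of_subset_of_card_le hS (by rw [o.card, e])]; exact O.2)
  have k5 := Finset.card_le_card hS
  obtain ⟨n, k6⟩ := r.even
  rw [o.card] at k5
  exact ⟨S, hS, by omega, r⟩

theorem norm (h : MH z Q R A D) {x y : G} (e : OctT z A x y) (e' : OctT z A y x) {g : G}
    (hg : g ∈ Ak y x) : g * x = x * g ∧ g ∈ normalizer (Ak x y : Set G) := by
  have k := mem_centralizer_iff.1 (e'.cent_self h (sq_of h e.cj).1) g hg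
  exact ⟨k, norm_Ak k ((e'.ark h).1.comm hg (e'.ark h).2.1)⟩

theorem com (h : MH z Q R A D) {x y : G} (e : OctT z A x y) (e' : OctT z A y x) {g w : G}
    (hg : g ∈ Ak y x) (hw : w ∈ Ak x y) :
    g * w * g⁻¹ * w⁻¹ ∈ Ak x y ∧ g * w * g⁻¹ * w⁻¹ ∈ O2C x := by
  obtain ⟨k, n⟩ := norm h e e' hg
  exact ⟨mul_mem ((mem_normalizer_iff.1 n w).1 hw) (inv_mem hw),
    (e.ark h).1.comm_perp (e.ark h).2.1 e.cj n k hw⟩

theorem com' (h : MH z Q R A D) {x y : G} (e : OctT z A x y) (e' : OctT z A y x) {g w : G}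
    (hg : g ∈ Ak y x) (hw : w ∈ Ak x y) :
    g * w * g⁻¹ * w⁻¹ ∈ Ak y x ∧ g * w * g⁻¹ * w⁻¹ ∈ O2C y := by
  rw [show g * w * g⁻¹ * w⁻¹ = (w * g * w⁻¹ * g⁻¹)⁻¹ by group, inv_mem_iff, inv_mem_iff]
  exact com h e' e hw hg

theorem not_mem (h : MH z Q R A D) {x y : G} (e : OctT z A x y) (e' : OctT z A y x)
    (ne : Ak x y ≠ Ak y x) : x ∉ Ak y x := fun hx =>
  ne ((e'.ark h).1.eq_Ak hx e.cj (e'.ark h).2.1 (e.not_mem h)
    (by rw [(sq_of h e'.cj).1]; exact one_mem _)).1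

variable (h : MH z Q R A D)
  (hg : ∀ {O O' w w' : Finset GolayPt}, O ∈ Code → O' ∈ Code → O.card = 8 → O'.card = 8 → O ≠ O' →
    ¬ Disjoint O O' → w ⊆ O → w' ⊆ O' → w.card = 4 → w'.card = 4 →
    (∀ d ∈ Code, d.card = 8 → w ⊆ d → d ≠ O → Odd (w' ∩ d).card) →
    (∀ d ∈ Code, d.card = 8 → w' ⊆ d → d ≠ O' → Odd (w ∩ d).card) → False)
  (ho : ∀ {s x y : G}, R (e8 none) s → ∀ {O : Code}, OctT z A x y → OA h O (Ak x y) →
    ∀ {w w' : Finset GolayPt}, w ⊆ O.1 → w.card = 4 → R4 R w x → R4 R w' y →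
    ∀ d ∈ Code, d.card = 8 → w ⊆ d → d ≠ O.1 → Odd (w' ∩ d).card)
include hg ho

theorem std {s x y : G} (e : OctT z A x y) (e' : OctT z A y x) (hs : R (e8 none) s)
    (z1 : z ∈ Ak x y ∧ z ∈ O2C x) (z2 : z ∈ Ak y x ∧ z ∈ O2C y) (s1 : s ∈ Ak x y ∧ s ∈ O2C x)
    (s2 : s ∈ Ak y x ∧ s ∈ O2C y) : Ak y x ≤ centralizer (Ak x y : Set G) := by
  by_contra nc
  have ne : Ak x y ≠ Ak y x := fun e0 => nc fun g hg =>
    mem_centralizer_iff.2 fun w hw => (e.ark h).1.comm hw (e0 ▸ hg)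
  obtain ⟨O, o⟩ := oa_of_mem h (e.ark h).1 z1.1 s1.1 hs
  obtain ⟨O', o'⟩ := oa_of_mem h (e'.ark h).1 z2.1 s2.1 hs
  obtain ⟨w, hw, c4, rx⟩ := tet hs o (e.ark h).2.1 e.cj z1.2 s1.2 z2.1 s2.1 (not_mem h e e' ne)
  obtain ⟨w', hw', c4', ry⟩ := tet hs o' (e'.ark h).2.1 e'.cj z2.2 s2.2 z1.1 s1.1 (not_mem h e' e ne.symm)
  exact hg O.2 O'.2 o.card o'.card (fun e0 => ne (o.unique (Subtype.ext e0 ▸ o')))
    (fun hd => nc (o.comm o' hd)) hw hw' c4 c4' (ho hs e o hw c4 rx ry) (ho hs e' o' hw' c4' ry rx)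

theorem comm {x y : G} (e : OctT z A x y) (e' : OctT z A y x) :
    Ak y x ≤ centralizer (Ak x y : Set G) := by
  by_contra nc
  have a := (e.ark h).1
  have a' := (e'.ark h).1
  obtain ⟨g, hg', n⟩ := SetLike.not_le_iff_exists.1 nc
  rw [mem_centralizer_iff] at n
  push Not at n
  obtain ⟨w0, hw0, n⟩ := n
  obtain ⟨w, hw, hu⟩ := a.refl1 (norm h e e' hg').2 (a'.sq hg') ⟨w0, hw0, n.symm⟩
  have u1 := com h e e' hg' hw
  have u2 := com' h e e' hg' hw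
  generalize g * w * g⁻¹ * w⁻¹ = u at hu u1 u2
  obtain ⟨b, hb, -, b1⟩ := a'.exists_not_mem u2.1 hu
  obtain ⟨v, hv, v1, zs, ne⟩ := a.refl2 u1.1 hu (norm h e e' hb).2 (a'.sq hb) (a'.comm hb u2.1) (by
    by_contra ht
    push Not at ht
    exact nc (comm_of_triv a a' u1.1 u2.1 hu hb b1 fun w hw w1 => or_iff_not_imp_left.2 (ht w hw w1)))
  have s0 := mul_mem (conj_mem_O2C (a'.comm hb u2.1) v1) (inv_mem v1)
  have s1 := com h e e' hb hv
  have s2 := com' h e e' hb hv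
  generalize b * v * b⁻¹ * v⁻¹ = s at zs ne s0 s1 s2
  obtain ⟨k, hk⟩ := isConj_iff.1 hu.symm
  obtain ⟨c, hc, hs⟩ := move h (x := k * s * k⁻¹) (by rw [← O2C_z h, ← hk]; exact (mem_O2C_conj k).2 s0)
    (zs.trans (isConj_iff.2 ⟨k, rfl⟩)) (by rw [← hk]; simpa using ne)
  have hz : c * k * u * (c * k)⁻¹ = z := by
    rw [show c * k * u * (c * k)⁻¹ = c * (k * u * k⁻¹) * c⁻¹ by group, hk, hc, mul_inv_cancel_right]
  rw [show c * (k * s * k⁻¹) * c⁻¹ = c * k * s * (c * k)⁻¹ by group] at hs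
  generalize c * k = m at hz hs
  have t : ∀ {p q t : G}, t ∈ Ak p q ∧ t ∈ O2C p →
      m * t * m⁻¹ ∈ Ak (m * p * m⁻¹) (m * q * m⁻¹) ∧ m * t * m⁻¹ ∈ O2C (m * p * m⁻¹) := fun ht =>
    ⟨by rw [Ak_conj]; exact conj_mem_cj ht.1, (mem_O2C_conj m).2 ht.2⟩
  have k := std h hg ho (e.conj m) (e'.conj m) hs (hz ▸ t u1) (hz ▸ t u2) (t s1) (t s2)
  rw [Ak_conj, Ak_conj] at k
  have k2 := Comm.cj_cent k m⁻¹
  rw [← cj_mul, ← cj_mul, inv_mul_cancel, cj_one, cj_one] at k2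
  exact nc k2

end CL.ML.A3c
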