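import Cfsg.Agent.SPOR.ML.FrB

/-!
Maximal 2-local subgroups of the Monster: two tetrads in two octads cannot meet all other octads oddly.
-/

set_option autoImplicit false
set_option linter.dupNamespace false

namespace CL.ML.A3g

open Cfsg CL.Golay Finset

theorem big {O w Y : Finset GolayPt} (hO : O ∈ Code) (c : O.card = 8) (hw : w ⊆ O) (c4 : w.card = 4) {k : ℕ}
    (h : ∀ X, Disjoint w X → w ∪ X ∈ octads → w ∪ X ≠ O → k ≤ (Y ∩ X).card) : 4 * k ≤ (Y \ O).card := by
  have u4 : (O \ w).card = 4 := by rw [card_sdiff_of_subset hw]; omega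
  have e : w ∪ O \ w = O := union_sdiff_of_subset hw
  obtain ⟨n, s⟩ := (union_mem_octads_iff c4 u4).1 (e.symm ▸ mem_octads.2 ⟨hO, c⟩)
  have m1 := self_mem_sextetOf c4
  have m2 := mem_sextetOf.2 ⟨u4, s.symm⟩
  have hS := sextetOf_mem c4
  have cS : (((sextetOf w).erase w).erase (O \ w)).card = 4 := by
    rw [card_erase_of_mem (mem_erase.2 ⟨n.symm, m2⟩), card_erase_of_mem m1, card_sextetOf c4]
  have := card_nsmul_le_sum (((sextetOf w).erase w).erase (O \ w)) (fun X => (Y ∩ X).card) k fun X hX => by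
    obtain ⟨n2, n1, hX⟩ : X ≠ O \ w ∧ X ≠ w ∧ X ∈ sextetOf w := by simpa using hX
    have d := disjoint_of_mem_sextet hS m1 hX n1.symm
    exact h X d (hS.2.2 _ m1 _ hX n1.symm) fun q => n2 (by rw [← q, union_sdiff_cancel_left d])
  rw [cS, smul_eq_mul, ← card_biUnion fun X hX X' hX' ne => (disjoint_of_mem_sextet hS
    (mem_of_mem_erase (mem_of_mem_erase hX)) (mem_of_mem_erase (mem_of_mem_erase hX')) ne).mono
      inter_subset_right inter_subset_right] at this
  refine this.trans (card_le_card (biUnion_subset.2 fun X hX p hp => ?_))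
  obtain ⟨n2, n1, hX⟩ : X ≠ O \ w ∧ X ≠ w ∧ X ∈ sextetOf w := by simpa using hX
  obtain ⟨p1, p2⟩ := mem_inter.1 hp
  refine mem_sdiff.2 ⟨p1, fun q => ?_⟩
  rcases mem_union.1 (e.symm ▸ q) with q | q
  · exact disjoint_left.1 (disjoint_of_mem_sextet hS hX m1 n1) p2 q
  · exact disjoint_left.1 (disjoint_of_mem_sextet hS hX m2 n2) p2 q

theorem ev {O w w' : Finset GolayPt} (h1 : ∀ d ∈ Code, d.card = 8 → w ⊆ d → d ≠ O → Odd (w' ∩ d).card)
    (a : Even (w' ∩ w).card) (X : Finset GolayPt) (d : Disjoint w X) (o : w ∪ X ∈ octads) (n : w ∪ X ≠ O) :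
    1 ≤ (w' ∩ X).card := by
  have := h1 _ (mem_octads.1 o).1 (mem_octads.1 o).2 subset_union_left n
  rw [inter_union_distrib_left, card_union_of_disjoint (d.mono inter_subset_right inter_subset_right),
    Nat.odd_iff] at this
  rw [Nat.even_iff] at a
  omega

theorem od {O w w' : Finset GolayPt} (hw : w ⊆ O) (c4 : w.card = 4) (c4' : w'.card = 4)
    (h1 : ∀ d ∈ Code, d.card = 8 → w ⊆ d → d ≠ O → Odd (w' ∩ d).card) (n : ¬ w' ⊆ O)
    (a : Odd (w' ∩ w).card) : (w' ∩ w).card = 1 ∧ ∃ d ∈ octads, w ⊆ d ∧ (w' ∩ d).card = 3 := by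
  obtain ⟨p, p1, p2⟩ := not_subset.1 n
  have p3 : p ∉ w := fun q => p2 (hw q)
  obtain ⟨d, ⟨o, s⟩, -⟩ := steiner_octads.2 (insert p w) (by rw [card_insert_of_notMem p3, c4])
  obtain ⟨s1, s2⟩ := insert_subset_iff.1 s
  have k := h1 d (mem_octads.1 o).1 (mem_octads.1 o).2 s2 fun q => p2 (q ▸ s1)
  have l1 : (w' ∩ d).card ≤ 4 := c4' ▸ card_le_card inter_subset_left
  have l2 := card_le_card (insert_subset (mem_inter.2 ⟨p1, s1⟩) (inter_subset_inter_left (s := w') s2))
  rw [card_insert_of_notMem fun q => p3 (mem_inter.1 q).2] at l2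
  rw [Nat.odd_iff] at k a
  exact ⟨by omega, d, o, s2, by omega⟩

theorem a3_golay {O O' w w' : Finset GolayPt} (hO : O ∈ Code) (hO' : O' ∈ Code) (c : O.card = 8)
    (c' : O'.card = 8) (ne : O ≠ O') (hd : ¬ Disjoint O O') (hw : w ⊆ O) (hw' : w' ⊆ O') (c4 : w.card = 4)
    (c4' : w'.card = 4) (h1 : ∀ d ∈ Code, d.card = 8 → w ⊆ d → d ≠ O → Odd (w' ∩ d).card)
    (h2 : ∀ d ∈ Code, d.card = 8 → w' ⊆ d → d ≠ O' → Odd (w ∩ d).card) : False := by
  rcases Nat.even_or_odd (w' ∩ w).card with a | a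
  · have k := big hO' c' hw' c4' (ev h2 (inter_comm w w' ▸ a))
    have k1 := card_sdiff_add_card_inter w O'
    have k2 := big (Y := O') (k := 2) hO c hw c4 fun X d o n => by
      have e1 := (ev h1 a X d o n).trans (card_le_card (inter_subset_inter_right hw'))
      have e2 := even_card_inter hO' (mem_octads.1 o).1
      rw [inter_union_distrib_left, card_union_of_disjoint (d.mono inter_subset_right inter_subset_right),
        inter_comm O' w, Nat.even_iff] at e2
      omega
    have k3 := card_sdiff_add_card_inter O' O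
    exact hd (disjoint_iff_inter_eq_empty.2 (by rw [inter_comm]; exact card_eq_zero.1 (by omega)))
  · have n1 : ¬ w' ⊆ O := fun q => by
      have := h2 O hO c q ne
      rw [inter_eq_left.2 hw, c4] at this
      exact absurd this (by decide)
    have n2 : ¬ w ⊆ O' := fun q => by
      have := h1 O' hO' c' q ne.symm
      rw [inter_eq_left.2 hw', c4'] at this
      exact absurd this (by decide)
    obtain ⟨a1, d, o, s, e⟩ := od hw c4 c4' h1 n1 a
    obtain ⟨-, d', o', s', e'⟩ := od hw' c4' c4 h2 n2 (inter_comm w w' ▸ a)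
    have k := card_union_add_card_inter (w' ∩ d) (w ∩ d')
    have k1 : ((w' ∩ d) ∩ (w ∩ d')).card ≤ (w' ∩ w).card :=
      card_le_card (inter_subset_inter inter_subset_left inter_subset_left)
    have k2 : ((w' ∩ d) ∪ (w ∩ d')).card ≤ (d ∩ d').card := card_le_card (union_subset
      (subset_inter inter_subset_right (inter_subset_left.trans s'))
      (subset_inter (inter_subset_left.trans s) inter_subset_right))
    rw [octad_eq_of_le_card_inter o o' (by omega), inter_eq_left.2 s'] at e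
    omega

end CL.ML.A3g
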