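import Cfsg.Agent.SPOR.ML.Bas

/-!
Maximal 2-local subgroups of the Monster: arks, part one.
-/

set_option autoImplicit false
set_option linter.dupNamespace false

namespace CL.ML

open Cfsg CL.Leech CL.MT CL.LX CL.MSS CL.MP Subgroup
open CL.Golay (Code)
open scoped symmDiff

variable {G : Type*} [Group G] [Finite G] {z : G} {Q : Subgroup G} {R : leechLattice → G → Prop}
  {A : Co0 → G → Prop} {D : Set G}

/-- `A0 h = img K.add` by `Ark.mem_E`, `Ark.P_le`. -/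
theorem A0_eq (h : MH z Q R A D) {p y : G} {φ : V10 → G} (Y : YD h.toMT p y) (K : Ark h.toMT y φ) :
    A0 h = img K.add := by
  exact le_antisymm (fun c hc => K.mem_E Y fun q hq => (hc q hq).symm) fun c hc q hq => (K.P_le Y hq c hc).symm

namespace ArkA

theorem hq : (QuadraticMap.polarBilin q10).Nondegenerate := Orth.QPlus_nondeg 5 (ZMod 2)

theorem h5 : 5 ≤ Module.finrank (ZMod 2) V10 := by simp

omit [Finite G] in
theorem ex_cj (g x : G) : ∃ y, x = g * y * g⁻¹ := ⟨g⁻¹ * x * g, by group⟩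

omit [Finite G] in
theorem std' {a : G} {E E' : Subgroup G} (e : ∃ g, g * a * g⁻¹ = z ∧ g •ᶜ E = E') :
    ∃ g, a = g * z * g⁻¹ ∧ E = g •ᶜ E' :=
  let ⟨g, h1, h2⟩ := e
  ⟨g⁻¹, by rw [← h1]; group, cj_eq_iff.1 h2⟩

theorem ac (h : MH z Q R A D) {p y : G} {φ : V10 → G} (Y : YD h.toMT p y) (K : Ark h.toMT y φ) :
    AC z (A0 h) φ := by
  obtain ⟨ρ, hρ⟩ := K.exists_rho Y
  have uniq : ∀ {n g}, (∀ v, n.1 * φ v * n.1⁻¹ = φ (g.1 v)) → ρ n = g := fun e =>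
    Orth.O_ext fun v => K.inj Y ((hρ _ v).symm.trans (e v))
  have h1 : OrthE.E q10 ≤ ρ.range := by
    obtain ⟨n, hn, e⟩ := K.exists_move Y
    refine E_le_of_pair hq (q10_single _) (q10_single _) (polar_e10 f10) (fun u hu => ?_)
      ⟨_, ⟨⟨n, hn⟩, rfl⟩, K.inj Y (by rw [← hρ, K.e, K.f, e])⟩
    obtain ⟨m, hm, e⟩ := K.eich u (polar_e10 u ▸ hu)
    exact ⟨⟨m, K.C0_mem Y (one_mem _) (h.toMT.A_one hm)⟩, uniq e⟩
  obtain ⟨a0, ha0, e0⟩ := K.not_refl Y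
  have h2 : ρ.range ≤ OrthE.E q10 := fun g hg => (E_or hq h5 ha0 g).resolve_right fun m => by
    obtain ⟨n, hn⟩ := (mul_mem_cancel_left hg).1 (h1 m)
    exact e0 n (hn ▸ hρ n)
  have surj : ∀ g ∈ OrthE.E q10, ∃ n ∈ normalizer (img K.add : Set G), ∀ v, n * φ v * n⁻¹ = φ (g.1 v) :=
    fun g hg => by
      obtain ⟨n, rfl⟩ := h1 hg
      exact ⟨n.1, n.2, hρ n⟩
  rw [A0_eq h Y K]
  refine ⟨K.add, K.inj Y, fun x => Iff.rfl, K.fus Y, fun a v a0 a1 => ?_,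
    fun n hn => ⟨ρ ⟨n, hn⟩, h2 ⟨_, rfl⟩, hρ ⟨n, hn⟩⟩, surj, fun a ha n hn => ?_⟩
  · obtain ⟨g, hg, rfl⟩ := OrthE.exists_E_apply_eq hq h5 (a := e10) (by decide) a0 ((q10_single _).trans a1.symm)
    obtain ⟨n, -, hn⟩ := surj g hg
    rw [Orth.O_polar_inv, polar_e10]
    conv_lhs => rw [← Orth.O_apply_inv g v, ← hn, ← hn, mem_O2C_conj, K.e, O2C_z h]
    exact ⟨K.zero_of Y, fun e => WE_le _ (K.mem_W e)⟩
  · obtain ⟨g, hg, rfl⟩ := OrthE.exists_E_apply_eq hq h5 (a := a0) (b := a) (by rintro rfl; simp at ha0)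
      (by rintro rfl; simp at ha) (ha0.trans ha.symm)
    obtain ⟨m, -, hm⟩ := surj g hg
    refine e0 (m⁻¹ * n * m) fun v => ?_
    have e1 : (Orth.refl q10 (g.1 a0)).1 (g.1 v) = g.1 ((Orth.refl q10 a0).1 v) := by
      rw [← Orth.conj_refl, ← Orth.O_mul_apply, inv_mul_cancel_right, Orth.O_mul_apply]
    calc _ = m⁻¹ * (n * (m * φ v * m⁻¹) * n⁻¹) * m := by group
      _ = _ := by rw [hm, hn, e1, ← hm]; group

/-- the centraliser of `WE` centralises the standard ark -/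
theorem cent0 (h : MH z Q R A D) {c : G} (hc : ∀ w ∈ WE h.toMT, c * w = w * c) :
    c ∈ centralizer (A0 h : Set G) := by
  obtain ⟨p, y, Y⟩ := exists_y h.toMT
  obtain ⟨φ, K⟩ := Y.exists_ark
  obtain ⟨s, hs⟩ := h.ex_x (e8 none)
  obtain ⟨k, hk, hk'⟩ := (CF.of h.toMT hs hc).lift h.toMT hs
  obtain ⟨ρ, hρ⟩ := K.exists_rho Y
  have e := hρ ⟨c, K.C0_mem Y (E8C.Q0_le hk) hk'⟩
  generalize ρ _ = g at e
  have h1 : ∀ v : V10, v (.inr 0) = 0 → g.1 v = v := fun v hv =>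
    K.inj Y ((e v).symm.trans (mul_inv_eq_of_eq_mul (hc _ (K.mem_W hv))))
  have h2 : ∀ i, i ≠ .inr 0 → QuadraticMap.polar q10 (g.1 f10) (Pi.single i 1) =
      QuadraticMap.polar q10 f10 (Pi.single i 1) := fun i hi => by
    conv_lhs => rw [← h1 (Pi.single i 1) (Pi.single_eq_of_ne' hi _), Orth.O_polar]
  have h3 : ∀ j, j ≠ .inl 0 → g.1 f10 j = f10 j := by
    rintro (j | j) hj
    · exact (Orth.polar_QPlus_single_inr _ _ _ j).symm.trans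
        ((h2 _ (by simpa using hj)).trans (Orth.polar_QPlus_single_inr _ _ _ j))
    · exact (Orth.polar_QPlus_single_inl _ _ _ j).symm.trans
        ((h2 _ (by simp)).trans (Orth.polar_QPlus_single_inl _ _ _ j))
  have h4 : g.1 f10 = f10 := funext fun j => by
    by_cases hj : j = .inl 0
    · have h5 := Orth.O_map g f10
      rw [q10_eq, q10_eq, h3 (.inr 0) (by simp), show g.1 f10 ∘ ex8 = f10 ∘ ex8 from funext fun i =>
        h3 _ (by revert i; decide), add_left_inj, show f10 (.inr 0) = 1 from rfl, mul_one, mul_one] at h5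
      rw [hj, h5]
    · exact h3 j hj
  rw [A0_eq h Y K]
  rintro _ ⟨v, rfl⟩
  have := conj_of_basis K.add (g := id) (n := c) (fun _ _ => rfl) (fun i => by
    by_cases hi : i = .inr 0
    · rw [hi]; exact (e _).trans (by rw [h4]; rfl)
    · exact (e _).trans (by rw [h1 _ (Pi.single_eq_of_ne' hi _)]; rfl)) v
  exact (mul_inv_eq_iff_eq_mul.1 this).symm

end ArkA

/-- `exists_y`, `YD.exists_ark`; `act`, `surj`: steps `h1`, `h2` of the proof of `row_ten` (P10F);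
`perp`: for `a = e10` it is `Ark.zero_of`, `Ark.mem_W`, `polar_e10`; move `e10` to `a` by
`exists_E_apply_eq` and `surj`; `nrefl`: `Ark.not_refl` and transitivity of `E` on vectors with `q = 1`. -/
theorem ac_A0 (h : MH z Q R A D) : ∃ φ, AC z (A0 h) φ ∧ φ e10 = z := by
  obtain ⟨p, y, Y⟩ := exists_y h.toMT
  obtain ⟨φ, K⟩ := Y.exists_ark
  exact ⟨φ, ArkA.ac h Y K, K.e⟩

theorem AC.conj {E : Subgroup G} {φ : V10 → G} (K : AC z E φ) (g : G) :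
    AC z (g •ᶜ E) fun v => g * φ v * g⁻¹ := by
  refine ⟨fun u v => by rw [K.add]; group, fun u v e => K.inj (by simpa using e), fun x => ?_, fun v => ?_,
    fun a v h0 h1 => (mem_O2C_conj g).trans (K.perp a v h0 h1), fun n hn => ?_, fun k hk => ?_, fun a ha n hn => ?_⟩
  · exact ⟨fun ⟨y, hy, e⟩ => let ⟨v, hv⟩ := (K.mem y).1 hy; ⟨v, hv ▸ e⟩,
      fun ⟨v, e⟩ => e ▸ conj_mem_cj ((K.mem _).2 ⟨v, rfl⟩)⟩
  · rw [← K.fus]
    exact ⟨fun a => a.trans (isConj_iff.2 ⟨g, rfl⟩).symm, fun a => a.trans (isConj_iff.2 ⟨g, rfl⟩)⟩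
  · rw [← cj_normalizer, mem_cj] at hn
    obtain ⟨k, hk, e⟩ := K.act _ hn
    exact ⟨k, hk, fun v => by rw [← e]; group⟩
  · obtain ⟨n, hn, e⟩ := K.surj k hk
    exact ⟨g * n * g⁻¹, cj_normalizer g E ▸ conj_mem_cj hn, fun v => by rw [← e]; group⟩
  · refine K.nrefl a ha (g⁻¹ * n * g) fun v => ?_
    calc _ = g⁻¹ * (n * (g * φ v * g⁻¹) * n⁻¹) * g := by group
      _ = _ := by rw [hn v]; group

theorem z_mem_A0 (h : MH z Q R A D) : z ∈ A0 h := by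
  obtain ⟨φ, K, e⟩ := ac_A0 h
  exact (K.mem z).2 ⟨_, e⟩

theorem mem_A0_inf (h : MH z Q R A D) {x : G} : x ∈ A0 h ∧ x ∈ Q ↔ x ∈ WE h.toMT := by
  obtain ⟨p, y, Y⟩ := exists_y h.toMT
  obtain ⟨φ, K⟩ := Y.exists_ark
  rw [A0_eq h Y K]
  exact ⟨fun ⟨⟨v, e⟩, m⟩ => e ▸ K.mem_W (K.zero_of Y (e ▸ m)), fun m => ⟨K.W_le m, WE_le _ m⟩⟩

theorem A0_ovr (h : MH z Q R A D) {b : G} (hb : b ∈ A0 h) (hQ : b ∉ Q) : A E8C.t b := by
  obtain ⟨p, y, Y⟩ := exists_y h.toMT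
  obtain ⟨φ, K⟩ := Y.exists_ark
  rw [A0_eq h Y K] at hb
  obtain ⟨v, rfl⟩ := hb
  have h1 : v (.inr 0) ≠ 0 := fun e => hQ (WE_le _ (K.mem_W e))
  have h2 := WE_le _ (K.mem_W (x := v + f10) (by
    rw [Pi.add_apply, (by decide : ∀ a : ZMod 2, a ≠ 0 → a = 1) _ h1]; decide))
  have h3 := h.A_mul (h.toMT.A_one h2) Y.hy
  rwa [one_mul, K.add, K.f, mul_assoc, Y.sq, mul_one] at h3

/-- `[q, y]` lies over `w - t w ∈ L` up to congruence with ... ; use `R_comm`, `MR.exists_w` (every `a ∈ L` is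
`w + t w`, and `w + t w ∈ L`, `w + t w ≡ t w - w`). -/
theorem Wk_std (h : MH z Q R A D) {y : G} (hy : A E8C.t y) : Wk z y = WE h.toMT := by
  have key : ∀ {v q}, R v q → R (v + E8C.t • v) (q * y * q⁻¹ * y⁻¹) := fun {v q} hq => by
    simpa [mul_assoc] using h.R_mul hq (h.R_conj hy (h.toMT.R_inv hq))
  rw [Wk, O2C_z h]
  refine le_antisymm ((closure_le _).2 ?_) ?_
  · rintro _ (rfl | ⟨q, hq, rfl⟩)
    · exact z_WE _
    · obtain ⟨v, hv⟩ := h.ex_v q hq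
      exact ⟨_, show E8C.t • _ = _ by rw [smul_add, ← mul_smul, E8C.t_sq, one_smul, add_comm], key hv⟩
  · rintro x ⟨a, ha, hx⟩
    obtain ⟨w, rfl⟩ := MR.exists_w ha
    obtain ⟨q, hq⟩ := h.ex_x w
    have h1 : q * y * q⁻¹ * y⁻¹ ∈ closure ({z} ∪ {w | ∃ q ∈ Q, w = q * y * q⁻¹ * y⁻¹}) :=
      subset_closure (Or.inr ⟨q, h.R_mem hq, rfl⟩)
    rcases h.toMT.cases_of (key hq) hx with rfl | rfl
    exacts [h1, mul_mem h1 (subset_closure (Or.inl rfl))]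

theorem Ak_std (h : MH z Q R A D) {y : G} (hy : A E8C.t y) : Ak z y = A0 h := by
  rw [Ak, Wk_std h hy, O2C_z h]
  rfl

namespace IsArk
variable {h : MH z Q R A D} {E : Subgroup G}

theorem ac (e : IsArk h E) : ∃ φ, AC z E φ := by
  obtain ⟨g, rfl⟩ := e
  obtain ⟨φ, K, -⟩ := ac_A0 h
  exact ⟨_, K.conj g⟩

theorem sq (e : IsArk h E) {x : G} (hx : x ∈ E) : x * x = 1 := by
  obtain ⟨φ, K⟩ := e.ac
  obtain ⟨v, rfl⟩ := (K.mem x).1 hx
  exact add_sq K.add v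

theorem comm (e : IsArk h E) {x y : G} (hx : x ∈ E) (hy : y ∈ E) : x * y = y * x := by
  obtain ⟨φ, K⟩ := e.ac
  obtain ⟨v, rfl⟩ := (K.mem x).1 hx
  obtain ⟨w, rfl⟩ := (K.mem y).1 hy
  exact add_comm' K.add v w

theorem card (e : IsArk h E) : Nat.card E = 2 ^ 10 := by
  obtain ⟨φ, K⟩ := e.ac
  rw [show E = img K.add from Subgroup.ext K.mem, card_img K.add K.inj]
  rfl

/-- transitivity of `N(E)` on the singular vectors -/
theorem std (e : IsArk h E) {a : G} (ha : a ∈ E) (hz : IsConj z a) :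
    ∃ g, g * a * g⁻¹ = z ∧ g •ᶜ E = A0 h := by
  obtain ⟨g, rfl⟩ := e
  obtain ⟨a, rfl⟩ := ArkA.ex_cj g a
  rw [conj_mem_cj_iff] at ha
  obtain ⟨φ, K, e⟩ := ac_A0 h
  obtain ⟨v, rfl⟩ := (K.mem a).1 ha
  obtain ⟨h0, h1⟩ := (K.fus v).1 (hz.trans (isConj_iff.2 ⟨g, rfl⟩).symm)
  obtain ⟨k, hk, e'⟩ := OrthE.exists_E_apply_eq ArkA.hq ArkA.h5 (b := e10) h0 (by decide) (h1.trans (q10_single _).symm)
  obtain ⟨n, hn, hn'⟩ := K.surj k hk
  refine ⟨n * g⁻¹, ?_, by rw [cj_mul, inv_cj_cj, cj_eq_of_mem_normalizer hn]⟩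
  rw [← e, ← e', ← hn']
  group

theorem exists_not_mem (e : IsArk h E) {a : G} (ha : a ∈ E) (hz : IsConj z a) :
    ∃ b ∈ E, IsConj z b ∧ b ∉ O2C a := by
  obtain ⟨φ, K⟩ := e.ac
  obtain ⟨v, rfl⟩ := (K.mem a).1 ha
  obtain ⟨h0, h1⟩ := (K.fus v).1 hz
  obtain ⟨k, -, rfl⟩ := OrthE.exists_E_apply_eq ArkA.hq ArkA.h5 (a := e10) (by decide) h0 ((q10_single _).trans h1.symm)
  refine ⟨φ (k.1 f10), (K.mem _).2 ⟨_, rfl⟩, (K.fus _).2 ⟨k.1.map_ne_zero_iff.2 (by decide), ?_⟩, fun m => ?_⟩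
  · rw [Orth.O_map, q10_single]
  · rw [K.perp _ _ h0 h1, Orth.O_polar, polar_e10] at m
    exact absurd m (by decide)

theorem mul_mem_O2C (e : IsArk h E) {a b c : G} (ha : a ∈ E) (hz : IsConj z a) (hb : b ∈ E) (hc : c ∈ E)
    (b1 : b ∉ O2C a) (c1 : c ∉ O2C a) : b * c ∈ O2C a := by
  obtain ⟨φ, K⟩ := e.ac
  obtain ⟨u, rfl⟩ := (K.mem a).1 ha
  obtain ⟨v, rfl⟩ := (K.mem b).1 hb
  obtain ⟨w, rfl⟩ := (K.mem c).1 hc
  obtain ⟨h0, h1⟩ := (K.fus u).1 hz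
  rw [K.perp _ _ h0 h1] at b1 c1
  rw [← K.add, K.perp _ _ h0 h1, QuadraticMap.polar_add_right]
  exact (by decide : ∀ a b : ZMod 2, a ≠ 0 → b ≠ 0 → a + b = 0) _ _ b1 c1

theorem relIndex_O2C (e : IsArk h E) {a : G} (ha : a ∈ E) (hz : IsConj z a) :
    (O2C a).relIndex E = 2 := by
  obtain ⟨b, hb, -, b1⟩ := e.exists_not_mem ha hz
  refine relIndex_eq_two_iff.2 ⟨b, hb, fun c hc => ?_⟩
  by_cases m : c ∈ O2C a
  · exact Or.inr ⟨m, fun m' => b1 ((mul_mem_cancel_left m).1 m')⟩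
  · exact Or.inl ⟨e.mul_mem_O2C ha hz hc hb m b1, m⟩

/-- `Ark.C0_mem` with `k = 1` -/
theorem O2C_le (e : IsArk h E) {a : G} (ha : a ∈ E) (hz : IsConj z a) :
    O2C a ≤ normalizer (E : Set G) := by
  obtain ⟨g, rfl, rfl⟩ := ArkA.std' (e.std ha hz)
  obtain ⟨p, y, Y⟩ := exists_y h.toMT
  obtain ⟨φ, K⟩ := Y.exists_ark
  rw [O2C_cj h, ← cj_normalizer, A0_eq h Y K]
  exact cj_mono g fun q hq => K.C0_mem Y (one_mem _) (h.toMT.A_one hq)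

/-- standard position: `c` centralises `WE`, so `CF.of`, `CF.lift`, `Q0_le`, `Ark.C0_mem` give `c ∈ N(E)`;
`g ∈ O(q)` fixing `e^⊥` pointwise has `g f - f ∈ ⟨e⟩` and `q (f + e) = 1`, so `g = 1`. -/
theorem cent (e : IsArk h E) {a c : G} (ha : a ∈ E) (hz : IsConj z a)
    (hc : ∀ w ∈ E, w ∈ O2C a → c * w = w * c) : c ∈ centralizer (E : Set G) := by
  obtain ⟨g, rfl, rfl⟩ := ArkA.std' (e.std ha hz)
  obtain ⟨c, rfl⟩ := ArkA.ex_cj g c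
  rw [← cj_centralizer, conj_mem_cj_iff]
  refine ArkA.cent0 h fun w hw => (MulAut.conj g).injective ?_
  have m := (mem_A0_inf h).2 hw
  rw [map_mul, map_mul]
  exact hc _ (conj_mem_cj m.1) (O2C_cj h g ▸ conj_mem_cj m.2)

theorem octT (e : IsArk h E) {a b y : G} (ha : a ∈ E) (hz : IsConj z a) (hb : b ∈ E) (b1 : b ∉ O2C a)
    (hy : b * y ∈ O2C a) : OctT z A a y := by
  obtain ⟨g, rfl, rfl⟩ := ArkA.std' (e.std ha hz)
  obtain ⟨b, rfl⟩ := ArkA.ex_cj g b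
  rw [conj_mem_cj_iff] at hb
  obtain ⟨y, rfl⟩ := ArkA.ex_cj g y
  rw [O2C_cj h, conj_mem_cj_iff] at b1
  rw [O2C_cj h, show g * b * g⁻¹ * (g * y * g⁻¹) = g * (b * y) * g⁻¹ by group, conj_mem_cj_iff] at hy
  have h1 := h.A_mul (h.A_inv (A0_ovr h hb b1)) (h.toMT.A_one hy)
  rw [mul_one, inv_eq_of_mul_eq_one_right E8C.t_sq, inv_mul_cancel_left] at h1
  exact ⟨g, rfl, by simpa [mul_assoc] using h1⟩

/-- an ark is determined by a singular `a` and the image in `C(a) / Q_a` -/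
theorem eq_Ak (e : IsArk h E) {a b y : G} (ha : a ∈ E) (hz : IsConj z a) (hb : b ∈ E) (b1 : b ∉ O2C a)
    (hy : b * y ∈ O2C a) : Ak a y = E ∧ Wk a y = E ⊓ O2C a := by
  obtain ⟨g, rfl, rfl⟩ := ArkA.std' (e.std ha hz)
  obtain ⟨b, rfl⟩ := ArkA.ex_cj g b
  rw [conj_mem_cj_iff] at hb
  obtain ⟨y, rfl⟩ := ArkA.ex_cj g y
  rw [O2C_cj h, conj_mem_cj_iff] at b1
  rw [O2C_cj h, show g * b * g⁻¹ * (g * y * g⁻¹) = g * (b * y) * g⁻¹ by group, conj_mem_cj_iff] at hy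
  have h1 := h.A_mul (h.A_inv (A0_ovr h hb b1)) (h.toMT.A_one hy)
  rw [mul_one, inv_eq_of_mul_eq_one_right E8C.t_sq, inv_mul_cancel_left] at h1
  rw [Ak_conj, Wk_conj, Ak_std h h1, Wk_std h h1, O2C_cj h, ← cj_inf]
  exact ⟨rfl, congrArg _ (Subgroup.ext fun x => (mem_A0_inf h).symm)⟩

theorem eq_of_pair (e : IsArk h E) {E' : Subgroup G} (e' : IsArk h E') {a b : G} (ha : a ∈ E)
    (ha' : a ∈ E') (hz : IsConj z a) (hb : b ∈ E) (hb' : b ∈ E') (b1 : b ∉ O2C a) : E = E' := by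
  have h1 : b * b ∈ O2C a := by rw [e.sq hb]; exact one_mem _
  exact (e.eq_Ak ha hz hb b1 h1).1.symm.trans (e'.eq_Ak ha' hz hb' b1 h1).1

/-- standard position `a = z`. For `p ∈ PE ≤ C(E)` the commutator `[p, q] = [p, q']` lies in `⟨z⟩` and in
`Q_b` (`p` centralises `b`), `z ∉ Q_b` (`perp_symm`); so `q` centralises `PE` and `mem_WE` applies. -/
theorem mem_of_pair (e : IsArk h E) {a b q q' x x' : G} (ha : a ∈ E) (hz : IsConj z a) (hb : b ∈ E)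
    (hz' : IsConj z b) (b1 : b ∉ O2C a) (hq : q ∈ O2C a) (hq' : q' ∈ O2C b) (hx : x ∈ E) (hx' : x' ∈ E)
    (eq : q * x = q' * x') : q ∈ E := by
  have h0 : a ∉ O2C b := fun m => b1 (perp_symm h hz' hz m)
  obtain ⟨g, rfl, rfl⟩ := ArkA.std' (e.std ha hz)
  have hP := h.lx.conj g
  rw [O2C_cj h] at hq
  have hE : g •ᶜ A0 h = centralizer ((g •ᶜ PE h.toMT : Subgroup G) : Set G) := cj_centralizer _ _
  rw [hE] at hb hx hx' ⊢
  intro p hp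
  have hp' : p ∈ g •ᶜ Q := cj_mono g inf_le_left hp
  have h1 : p * q * p⁻¹ * q⁻¹ = p * q' * p⁻¹ * q'⁻¹ := by
    have h2 : p * (x' * x⁻¹) = x' * x⁻¹ * p := mul_mem hx' (inv_mem hx) p hp
    rw [show q = q' * (x' * x⁻¹) by rw [← mul_assoc, ← eq]; group]
    calc _ = p * q' * p⁻¹ * (p * (x' * x⁻¹)) * p⁻¹ * (x' * x⁻¹)⁻¹ * q'⁻¹ := by group
      _ = _ := by rw [h2]; group
  rcases hP.commutator_cases hp' hq with e1 | e1
  · rwa [mul_inv_eq_one, mul_inv_eq_iff_eq_mul] at e1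
  · exact absurd (e1 ▸ h1 ▸ mul_mem (conj_mem_O2C (hb p hp) hq') (inv_mem hq')) h0

/-- squares of `C(E)` lie in `E` (`Ark.decomp`) -/
theorem comm_mem (e : IsArk h E) {c d : G} (hc : c ∈ centralizer (E : Set G))
    (hd : d ∈ centralizer (E : Set G)) : c * d * c⁻¹ * d⁻¹ ∈ E := by
  have key : ∀ c ∈ centralizer (E : Set G), c * c ∈ E := fun c hc => by
    obtain ⟨g, rfl⟩ := e
    obtain ⟨p, y, Y⟩ := exists_y h.toMT
    obtain ⟨φ, K⟩ := Y.exists_ark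
    rw [← cj_centralizer] at hc
    obtain ⟨c, rfl⟩ := ArkA.ex_cj g c
    rw [conj_mem_cj_iff] at hc
    rw [A0_eq h Y K] at hc ⊢
    rw [show g * c * g⁻¹ * (g * c * g⁻¹) = g * (c * c) * g⁻¹ by group]
    exact conj_mem_cj ((K.decomp Y).2 c hc)
  rw [show c * d * c⁻¹ * d⁻¹ = c * c * (c⁻¹ * d * (c⁻¹ * d)) * (d⁻¹ * d⁻¹) by group]
  exact mul_mem (mul_mem (key _ hc) (key _ (mul_mem (inv_mem hc) hd))) (key _ (inv_mem hd))

end IsArk

theorem OctT.ark (h : MH z Q R A D) {a y : G} (e : OctT z A a y) :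
    IsArk h (Ak a y) ∧ a ∈ Ak a y ∧ Wk a y = Ak a y ⊓ O2C a ∧
      ∃ b ∈ Ak a y, b ∉ O2C a ∧ b * y ∈ O2C a := by
  obtain ⟨g, rfl, hy⟩ := e
  obtain ⟨y, rfl⟩ := ArkA.ex_cj g y
  rw [show g⁻¹ * (g * y * g⁻¹) * g = y by group] at hy
  obtain ⟨p, y1, Y⟩ := exists_y h.toMT
  obtain ⟨φ, K⟩ := Y.exists_ark
  rw [Ak_conj, Wk_conj, Ak_std h hy, Wk_std h hy, O2C_cj h, ← cj_inf]
  refine ⟨⟨g, rfl⟩, conj_mem_cj (z_mem_A0 h), congrArg _ (Subgroup.ext fun x => (mem_A0_inf h).symm),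
    g * y1 * g⁻¹, conj_mem_cj (A0_eq h Y K ▸ K.y_mem), fun m => Y.not_mem (conj_mem_cj_iff.1 m), ?_⟩
  rw [show g * y1 * g⁻¹ * (g * y * g⁻¹) = g * (y1 * y) * g⁻¹ by group]
  exact conj_mem_cj ((h.A_ker (h.A_mul Y.hy hy)).2 (E8C.t_sq ▸ one_mem _))

/-- `q` over `v` with `t v ≡ v` is orthogonal to `L` (`MR.dvd_of_fix`), so `q ∈ PE`; `Ark.P_le` -/
theorem OctT.cent_of_Q (h : MH z Q R A D) {a y q : G} (e : OctT z A a y) (hq : q ∈ O2C a)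
    (hc : y * q * y⁻¹ = q ∨ y * q * y⁻¹ = q * a) : q ∈ centralizer (Ak a y : Set G) := by
  obtain ⟨g, rfl, hy⟩ := e
  obtain ⟨y, rfl⟩ := ArkA.ex_cj g y
  obtain ⟨q, rfl⟩ := ArkA.ex_cj g q
  rw [show g⁻¹ * (g * y * g⁻¹) * g = y by group] at hy
  rw [O2C_cj h, conj_mem_cj_iff] at hq
  rw [Ak_conj, Ak_std h hy, ← cj_centralizer, conj_mem_cj_iff]
  obtain ⟨v, hv⟩ := h.ex_v q hq
  have h1 : Cong v (E8C.t • v) := (h.R_cong hv (h.R_conj hy hv)).2 (hc.imp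
    (fun e => (MulAut.conj g).injective (by simpa [mul_assoc] using e))
    fun e => (MulAut.conj g).injective (by simpa [mul_assoc] using e))
  have h2 : q ∈ PE h.toMT := ⟨hq, fun x ⟨a, ha, hx⟩ => ((h.toMT.comm_iff hv hx).2 (MR.dvd_of_fix h1.symm ha)).symm⟩
  exact fun x hx => (hx q h2).symm

/-- `y = b q` with `b` in the ark, `q ∈ Q_a`; `y² = 1` gives `y q y⁻¹ = q⁻¹`; `cent_of_Q` -/
theorem OctT.cent_self (h : MH z Q R A D) {a y : G} (e : OctT z A a y) (h2 : y * y = 1) :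
    y ∈ centralizer (Ak a y : Set G) := by
  obtain ⟨k, -, -, b, hb, -, hq⟩ := e.ark h
  have hL := lx_of h e.cj
  have h1 : y * (b * y) * y⁻¹ = (b * y)⁻¹ := by
    rw [mul_inv_rev, inv_eq_of_mul_eq_one_right (k.sq hb), ← mul_assoc, mul_inv_cancel_right,
      inv_eq_of_mul_eq_one_right h2]
  have h3 := e.cent_of_Q h hq (h1 ▸ (hL.sq _ hq).imp (fun e => inv_eq_of_mul_eq_one_right e) fun e =>
    inv_eq_of_mul_eq_one_right (by rw [← mul_assoc, e, hL.z_sq]))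
  have h4 : b ∈ centralizer (Ak a y : Set G) := fun x hx => k.comm hx hb
  simpa using mul_mem (inv_mem h4) h3

end CL.ML
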