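import Cfsg.Agent.SPOR.ML.Bas

/-!
Maximal 2-local subgroups of the Monster: consequences of the coordinates on an ark.
-/

set_option autoImplicit false
set_option linter.dupNamespace false
set_option linter.unusedSectionVars false

namespace CL.ML.ArkA2

open Cfsg CL.Leech CL.MT CL.LX CL.MSS CL.MP Subgroup QuadraticMap

variable {G : Type*} [Group G] [Finite G] {z : G} {E : Subgroup G} {φ : V10 → G}

theorem conj (K : AC z E φ) (g : G) : AC z (g •ᶜ E) fun v => g * φ v * g⁻¹ := by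
  have nm : ∀ n, n ∈ normalizer ((g •ᶜ E : Subgroup G) : Set G) ↔ g⁻¹ * n * g ∈ normalizer (E : Set G) :=
    fun n => by rw [← cj_normalizer, mem_cj]
  have cv : ∀ n a b : G, n * (g * a * g⁻¹) * n⁻¹ = g * b * g⁻¹ ↔ g⁻¹ * n * g * a * (g⁻¹ * n * g)⁻¹ = b :=
    fun n a b => ⟨fun e => by
      rw [show g⁻¹ * n * g * a * (g⁻¹ * n * g)⁻¹ = g⁻¹ * (n * (g * a * g⁻¹) * n⁻¹) * g by group, e]; group,
      fun e => by rw [← e]; group⟩
  refine ⟨fun u v => by rw [K.add, conj_mul], fun u v e => K.inj (by simpa using e), fun x => ?_, fun v => ?_,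
    fun a v h0 h1 => by rw [mem_O2C_conj, K.perp a v h0 h1], fun n hn => ?_, fun k hk => ?_, fun a ha n e => ?_⟩
  · rw [mem_cj, K.mem]
    exact exists_congr fun v => ⟨fun e => by rw [e]; group, fun e => by rw [← e]; group⟩
  · rw [← K.fus]
    have c : IsConj (φ v) (g * φ v * g⁻¹) := isConj_iff.2 ⟨g, rfl⟩
    exact ⟨fun e => e.trans c.symm, fun e => e.trans c⟩
  · obtain ⟨k, hk, e⟩ := K.act _ ((nm n).1 hn)
    exact ⟨k, hk, fun v => (cv _ _ _).2 (e v)⟩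
  · obtain ⟨n, hn, e⟩ := K.surj k hk
    have q : g⁻¹ * (g * n * g⁻¹) * g = n := by group
    exact ⟨g * n * g⁻¹, (nm _).2 (q.symm ▸ hn), fun v => (cv _ _ _).2 (q.symm ▸ e v)⟩
  · exact K.nrefl a ha _ fun v => (cv _ _ _).1 (e v)

theorem zero (K : AC z E φ) : φ 0 = 1 := by
  have := K.add 0 0
  rw [add_zero] at this
  exact left_eq_mul.1 this

theorem add_self (v : V10) : v + v = 0 := funext fun i => (by decide : ∀ a : ZMod 2, a + a = 0) (v i)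

theorem sq (K : AC z E φ) {x : G} (hx : x ∈ E) : x * x = 1 := by
  obtain ⟨v, rfl⟩ := (K.mem x).1 hx
  rw [← K.add, add_self, zero K]

theorem comm (K : AC z E φ) {x y : G} (hx : x ∈ E) (hy : y ∈ E) : x * y = y * x := by
  obtain ⟨v, rfl⟩ := (K.mem x).1 hx
  obtain ⟨w, rfl⟩ := (K.mem y).1 hy
  rw [← K.add, add_comm, K.add]

theorem card (K : AC z E φ) : Nat.card E = 2 ^ 10 := by
  rw [← Nat.card_eq_of_bijective (fun v : V10 => (⟨φ v, (K.mem _).2 ⟨v, rfl⟩⟩ : E))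
    ⟨fun u v e => K.inj (congrArg Subtype.val e), fun x => let ⟨v, e⟩ := (K.mem _).1 x.2; ⟨v, Subtype.ext e⟩⟩]
  simp

theorem ex_single {a : V10} (h : a ≠ 0) : ∃ i, polar q10 a (Pi.single i 1) ≠ 0 := by
  obtain ⟨i, hi⟩ := Function.ne_iff.1 h
  rcases i with i | i
  · exact ⟨.inr i, by rwa [Orth.polar_QPlus_single_inr]⟩
  · exact ⟨.inl i, by rwa [Orth.polar_QPlus_single_inl]⟩

theorem exists_not_mem (K : AC z E φ) {a : G} (ha : a ∈ E) (hz : IsConj z a) :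
    ∃ b ∈ E, IsConj z b ∧ b ∉ O2C a := by
  obtain ⟨v, rfl⟩ := (K.mem a).1 ha
  obtain ⟨h0, h1⟩ := (K.fus v).1 hz
  obtain ⟨i, hi⟩ := ex_single h0
  exact ⟨φ (Pi.single i 1), (K.mem _).2 ⟨_, rfl⟩, (K.fus _).2 ⟨by simp, q10_single i⟩,
    fun e => hi ((K.perp _ _ h0 h1).1 e)⟩

theorem mul_mem_O2C (K : AC z E φ) {a b c : G} (ha : a ∈ E) (hz : IsConj z a) (hb : b ∈ E) (hc : c ∈ E)
    (b1 : b ∉ O2C a) (c1 : c ∉ O2C a) : b * c ∈ O2C a := by
  obtain ⟨v, rfl⟩ := (K.mem a).1 ha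
  obtain ⟨u, rfl⟩ := (K.mem b).1 hb
  obtain ⟨w, rfl⟩ := (K.mem c).1 hc
  obtain ⟨h0, h1⟩ := (K.fus v).1 hz
  rw [K.perp _ _ h0 h1] at b1 c1
  rw [← K.add, K.perp _ _ h0 h1, polar_add_right]
  exact (by decide : ∀ a b : ZMod 2, a ≠ 0 → b ≠ 0 → a + b = 0) _ _ b1 c1

theorem relIndex_O2C (K : AC z E φ) {a : G} (ha : a ∈ E) (hz : IsConj z a) : (O2C a).relIndex E = 2 := by
  obtain ⟨b, hb, -, n⟩ := exists_not_mem K ha hz
  refine index_eq_two_iff.2 ⟨⟨b, hb⟩, fun c => ?_⟩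
  simp only [mem_subgroupOf, coe_mul]
  by_cases h : (c : G) ∈ O2C a
  · exact .inr ⟨h, fun e => n ((mul_mem_cancel_left h).1 e)⟩
  · exact .inl ⟨mul_mem_O2C K ha hz c.2 hb h n, h⟩

end CL.ML.ArkA2
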