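import Cfsg.Agent.SPOR.ML.ArkA

/-!
Maximal 2-local subgroups of the Monster: arks, counting in the orthogonal space `V10`.
-/

set_option autoImplicit false
set_option linter.dupNamespace false
set_option linter.unusedSectionVars false

namespace CL.ML.ArkB2

open Cfsg CL.Leech CL.MT CL.LX CL.MSS CL.MP Subgroup Module QuadraticMap

theorem z2 (c : ZMod 2) : c = 0 ∨ c = 1 := by revert c; decide

theorem rk10 : finrank (ZMod 2) V10 = 10 := by simp [V10]

/-- totally singular subspaces have dimension at most five -/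
theorem ts {M : Submodule (ZMod 2) V10} (h : ∀ v ∈ M, q10 v = 0) : finrank (ZMod 2) M ≤ 5 := by
  have h1 := LinearMap.BilinForm.finrank_orthogonal (B := polarBilin q10) (Orth.QPlus_nondeg 5 (ZMod 2)) M
  have h2 : M ≤ LinearMap.BilinForm.orthogonal (polarBilin q10) M := fun v hv w hw => by
    change polar q10 w v = 0
    rw [polar, h _ (M.add_mem hw hv), h _ hw, h _ hv, sub_zero, sub_zero]
  have h3 := Submodule.finrank_mono h2
  rw [rk10] at h1
  omega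

theorem ker_ge {n : ℕ} (f : V10 →ₗ[ZMod 2] (Fin n → ZMod 2)) (T : Submodule (ZMod 2) V10) :
    finrank (ZMod 2) T ≤ finrank (ZMod 2) ↥(T ⊓ LinearMap.ker f) + n := by
  have h1 := LinearMap.finrank_range_add_finrank_ker f
  have h2 := Submodule.finrank_le (LinearMap.range f)
  have h3 := Submodule.finrank_sup_add_finrank_inf_eq T (LinearMap.ker f)
  have h4 := Submodule.finrank_le (T ⊔ LinearMap.ker f)
  rw [rk10] at h1 h4
  rw [finrank_fin_fun] at h2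
  omega

theorem hyp0 {T : Submodule (ZMod 2) V10} (h : 8 ≤ finrank (ZMod 2) T) :
    ∃ a ∈ T, ∃ b ∈ T, q10 a = 0 ∧ q10 b = 0 ∧ polar q10 a b ≠ 0 := by
  by_contra! n
  let X := T ⊓ LinearMap.ker (LinearMap.funLeft (ZMod 2) (ZMod 2) (Sum.inr : Fin 5 → Fin 5 ⊕ Fin 5))
  let Y := T ⊓ LinearMap.ker (LinearMap.funLeft (ZMod 2) (ZMod 2) (Sum.inl : Fin 5 → Fin 5 ⊕ Fin 5))
  have hX : ∀ v ∈ X, ∀ i, v (.inr i) = 0 := fun v hv i => congrFun hv.2 i
  have hY : ∀ v ∈ Y, ∀ i, v (.inl i) = 0 := fun v hv i => congrFun hv.2 i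
  have qX : ∀ v ∈ X, q10 v = 0 := fun v hv => by simp [Orth.QPlus_apply, hX v hv]
  have qY : ∀ v ∈ Y, q10 v = 0 := fun v hv => by simp [Orth.QPlus_apply, hY v hv]
  have h1 : finrank (ZMod 2) T ≤ finrank (ZMod 2) X + 5 := ker_ge _ T
  have h2 : finrank (ZMod 2) T ≤ finrank (ZMod 2) Y + 5 := ker_ge _ T
  have h3 := Submodule.finrank_sup_add_finrank_inf_eq X Y
  have h4 : X ⊓ Y = ⊥ := eq_bot_iff.2 fun v hv => funext fun i => by
    rcases i with i | i
    exacts [hY v hv.2 i, hX v hv.1 i]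
  have h5 : finrank (ZMod 2) ↥(X ⊔ Y) ≤ 5 := ts fun v hv => by
    obtain ⟨x, hx, y, hy, rfl⟩ := Submodule.mem_sup.1 hv
    have := n x hx.1 y hy.1 (qX x hx) (qY y hy)
    rwa [polar, qX x hx, qY y hy, sub_zero, sub_zero] at this
  rw [h4, finrank_bot] at h3
  omega

theorem sing0 {M : Submodule (ZMod 2) V10} (h : 8 ≤ Nat.card M) : ∃ v ∈ M, v ≠ 0 ∧ q10 v = 0 := by
  classical
  by_contra! n
  have k : ∀ s : Finset V10, s.card ≤ 4 → ∃ v ∈ M, v ∉ s := fun s hs => by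
    obtain ⟨v, hv, nv⟩ := Set.exists_mem_notMem_of_ncard_lt_ncard (s := (s : Set V10)) (t := (M : Set V10))
      (by rw [Set.ncard_coe_finset]; exact lt_of_lt_of_le (by omega) (h.trans_eq (Nat.card_coe_set_eq _)))
    exact ⟨v, hv, nv⟩
  have aa : ∀ x y : V10, x + y = 0 → y = x := fun x y e => by
    rw [← neg_eq_of_add_eq_zero_right e, ZModModule.neg_eq_self]
  have q1 : ∀ v ∈ M, v ≠ 0 → q10 v = 1 := fun v hv v0 => (z2 _).resolve_left (n v hv v0)
  obtain ⟨a, ha, na⟩ := k {0} (by simp)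
  obtain ⟨b, hb, nb⟩ := k {0, a} (Finset.card_le_two.trans (by omega))
  obtain ⟨c, hc, nc⟩ := k {0, a, b, a + b} Finset.card_le_four
  simp only [Finset.mem_insert, Finset.mem_singleton, not_or] at na nb nc
  have e := map_add_add_add_map q10 a b c
  rw [q1 a ha na, q1 b hb nb.1, q1 c hc nc.1, q1 _ (M.add_mem ha hb) fun e => nb.2 (aa _ _ e),
    q1 _ (M.add_mem hb hc) fun e => nc.2.2.1 (aa _ _ e), q1 _ (M.add_mem hc ha) fun e => nc.2.1 (aa _ _ e).symm,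
    q1 _ (M.add_mem (M.add_mem ha hb) hc) fun e => nc.2.2.2 (aa _ _ e)] at e
  exact absurd e (by decide)

variable {G : Type*} [Group G] [Finite G] {z : G} {Q : Subgroup G} {R : leechLattice → G → Prop}
  {A : Co0 → G → Prop} {D : Set G} {E : Subgroup G} {φ : V10 → G}

theorem zero (K : AC z E φ) : φ 0 = 1 := by
  have := K.add 0 0
  rw [add_zero] at this
  exact mul_eq_left.1 this.symm

/-- the coordinates of a subgroup -/
def sub (K : AC z E φ) (U : Subgroup G) : Submodule (ZMod 2) V10 where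
  carrier := {v | φ v ∈ U}
  add_mem' := fun {u v} hu hv => by
    change φ (u + v) ∈ U
    rw [K.add]
    exact U.mul_mem hu hv
  zero_mem' := by
    change φ 0 ∈ U
    rw [zero K]
    exact U.one_mem
  smul_mem' := fun c v hv => by
    change φ (c • v) ∈ U
    rcases z2 c with rfl | rfl
    · rw [zero_smul, zero K]
      exact U.one_mem
    · rwa [one_smul]

theorem card_sub (K : AC z E φ) (U : Subgroup G) : Nat.card (sub K U) = Nat.card ↥(U ⊓ E) :=
  Nat.card_congr (Equiv.ofBijective (fun v => ⟨φ v.1, v.2, (K.mem _).2 ⟨_, rfl⟩⟩)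
    ⟨fun _ _ e => Subtype.ext (K.inj (congrArg Subtype.val e)), fun x =>
      let ⟨v, e⟩ := (K.mem _).1 x.2.2
      ⟨⟨v, show φ v ∈ U from e ▸ x.2.1⟩, Subtype.ext e⟩⟩)

theorem card_pow (M : Submodule (ZMod 2) V10) : Nat.card M = 2 ^ finrank (ZMod 2) M := by
  rw [natCard_eq_pow_finrank (K := ZMod 2), Nat.card_zmod]

/-- the subgroup with given coordinates -/
def img (K : AC z E φ) (M : Submodule (ZMod 2) V10) : Subgroup G where
  carrier := φ '' M
  mul_mem' := by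
    rintro _ _ ⟨u, hu, rfl⟩ ⟨v, hv, rfl⟩
    exact ⟨u + v, M.add_mem hu hv, K.add u v⟩
  one_mem' := ⟨0, M.zero_mem, zero K⟩
  inv_mem' := by
    rintro _ ⟨u, hu, rfl⟩
    refine ⟨u, hu, eq_inv_of_mul_eq_one_left ?_⟩
    rw [← K.add, ZModModule.add_self, zero K]

theorem card_img (K : AC z E φ) (M : Submodule (ZMod 2) V10) : Nat.card (img K M) = Nat.card M :=
  Nat.card_image_of_injective K.inj (M : Set V10)

theorem half0 (K : AC z E φ) {U : Subgroup G} (hU : U ≤ E) (f : V10 →ₗ[ZMod 2] ZMod 2) :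
    ∃ U0 ≤ U, Nat.card U ≤ 2 * Nat.card U0 ∧ ∀ v, φ v ∈ U0 → f v = 0 := by
  refine ⟨img K (sub K U ⊓ LinearMap.ker (LinearMap.pi fun _ : Fin 1 => f)), ?_, ?_, ?_⟩
  · rintro _ ⟨v, hv, rfl⟩
    exact hv.1
  · have := card_sub K U
    rw [inf_of_le_left hU] at this
    rw [← this, card_img, card_pow, card_pow, ← pow_succ']
    exact Nat.pow_le_pow_right two_pos (ker_ge _ _)
  · rintro v ⟨w, hw, e⟩
    exact K.inj e ▸ congrFun hw.2 0

variable {h : MH z Q R A D}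

theorem hyp (e : IsArk h E) {T : Subgroup G} (hT : T.relIndex E ≤ 4) :
    ∃ a ∈ E, ∃ b ∈ E, a ∈ T ∧ b ∈ T ∧ IsConj z a ∧ IsConj z b ∧ b ∉ O2C a := by
  obtain ⟨φ, K⟩ := e.ac
  have h1 := card_mul_index (T.subgroupOf E)
  rw [e.card, ← inf_subgroupOf_right, Nat.card_congr (subgroupOfEquivOfLe inf_le_right).toEquiv, ← card_sub K, card_pow,
    inf_subgroupOf_right] at h1
  have h2 : 2 ^ 8 ≤ 2 ^ finrank (ZMod 2) (sub K T) := by
    have := Nat.mul_le_mul_left (2 ^ finrank (ZMod 2) (sub K T)) hT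
    rw [relIndex, h1] at this
    omega
  obtain ⟨a, ha, b, hb, qa, qb, n⟩ := hyp0 ((Nat.pow_le_pow_iff_right one_lt_two).1 h2)
  have a0 : a ≠ 0 := fun k => n (by rw [k, polar_zero_left])
  have b0 : b ≠ 0 := fun k => n (by rw [k, polar_zero_right])
  exact ⟨φ a, (K.mem _).2 ⟨a, rfl⟩, φ b, (K.mem _).2 ⟨b, rfl⟩, ha, hb, (K.fus a).2 ⟨a0, qa⟩, (K.fus b).2 ⟨b0, qb⟩,
    fun k => n ((K.perp a b a0 qa).1 k)⟩

theorem mem_of_index (e : IsArk h E) {u : G} (hz : IsConj z u) (hi : (O2C u).relIndex E ≤ 4) : u ∈ E := by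
  obtain ⟨a, ha, b, hb, ua, ub, za, zb, n⟩ := hyp e hi
  exact e.mem_of_pair ha za hb zb n (perp_symm h hz za ua) (perp_symm h hz zb ub) E.one_mem E.one_mem rfl

theorem card_le_of_sing (e : IsArk h E) {U : Subgroup G} (hU : U ≤ E) (hz : ∀ u ∈ U, u ≠ 1 → IsConj z u) :
    Nat.card U ≤ 32 := by
  obtain ⟨φ, K⟩ := e.ac
  have := card_sub K U
  rw [inf_of_le_left hU, card_pow] at this
  rw [← this]
  refine Nat.pow_le_pow_right two_pos (ts (M := sub K U) fun v hv => ?_)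
  by_cases v0 : v = 0
  · rw [v0, QuadraticMap.map_zero]
  · exact ((K.fus v).1 (hz _ hv fun k => v0 (K.inj (k.trans (zero K).symm)))).2

theorem exists_sing (e : IsArk h E) {U : Subgroup G} (hU : U ≤ E) (h8 : 8 ≤ Nat.card U) :
    ∃ u ∈ U, IsConj z u := by
  obtain ⟨φ, K⟩ := e.ac
  have := card_sub K U
  rw [inf_of_le_left hU] at this
  obtain ⟨v, hv, k⟩ := sing0 (this ▸ h8)
  exact ⟨φ v, hv, (K.fus v).2 k⟩

theorem exists_sing_ne (e : IsArk h E) {U : Subgroup G} (hU : U ≤ E) (h16 : 16 ≤ Nat.card U) (a : G) :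
    ∃ u ∈ U, IsConj z u ∧ u ≠ a := by
  obtain ⟨u, hu, zu⟩ := exists_sing e hU (by omega)
  by_cases ua : u = a
  · obtain ⟨φ, K⟩ := e.ac
    obtain ⟨v, rfl⟩ := (K.mem u).1 (hU hu)
    obtain ⟨i, hi⟩ := Function.ne_iff.1 ((K.fus v).1 zu).1
    obtain ⟨U0, h0, h1, h2⟩ := half0 K hU (LinearMap.proj i)
    obtain ⟨w, hw, zw⟩ := exists_sing e (h0.trans hU) (by omega)
    exact ⟨w, h0 hw, zw, fun k => hi (h2 v (by rwa [ua, ← k]))⟩
  · exact ⟨u, hu, zu, ua⟩

theorem half (e : IsArk h E) {W : Subgroup G} (hW : W ≤ E) (hs : Sing z W) {b : G} (hb : b ∈ E) :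
    ∃ W0 ≤ W, Nat.card W ≤ 2 * Nat.card W0 ∧ ∀ u ∈ W0, u ≠ 1 → b ∈ O2C u := by
  obtain ⟨φ, K⟩ := e.ac
  obtain ⟨w, rfl⟩ := (K.mem b).1 hb
  obtain ⟨W0, h0, h1, h2⟩ := half0 K hW (polarBilin q10 w)
  refine ⟨W0, h0, h1, fun u hu u1 => ?_⟩
  obtain ⟨v, rfl⟩ := (K.mem u).1 (hW (h0 hu))
  obtain ⟨v0, qv⟩ := (K.fus v).1 (hs _ (h0 hu) u1).1
  exact (K.perp v w v0 qv).2 ((polar_comm _ _ _).trans (h2 v hu))

end CL.ML.ArkB2
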