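import Cfsg.Agent.SPOR.ML.ArkA
import Cfsg.Agent.SPOR.ML.ArkB2
import Cfsg.Agent.SPOR.MP.P5G

/-!
Maximal 2-local subgroups of the Monster: arks, linear algebra in the orthogonal space `V10` (use `IsArk.ac`).
-/

set_option autoImplicit false
set_option linter.dupNamespace false

namespace CL.ML

open Cfsg CL.Leech CL.MT CL.LX CL.MSS CL.MP Subgroup
open CL.Golay (Code)
open scoped symmDiff

variable {G : Type*} [Group G] [Finite G] {z : G} {Q : Subgroup G} {R : leechLattice → G → Prop}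
  {A : Co0 → G → Prop} {D : Set G}

namespace ArkB1
open QuadraticMap CL.Orth

theorem z2 (a : ZMod 2) : a = 0 ∨ a = 1 := by revert a; decide

theorem aa (a : ZMod 2) : a + a = 0 := CharTwo.add_self_eq_zero a

theorem eq_of_add {u v : V10} (h : u + v = 0) : u = v := by
  have : u + v + v = v := by rw [h, zero_add]
  rwa [add_assoc, add_self2, add_zero] at this

theorem pself (v : V10) : polar q10 v v = 0 := by
  rw [polar_self', show (2 : ZMod 2) = 0 from rfl, zero_mul]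

theorem refl_eq {n v : V10} (hn : q10 n = 1) :
    (Orth.refl q10 n).1 v = v + polar q10 n v • n := by
  rw [refl_apply, hn, inv_one, one_mul, sub_eq_add_neg, neg_eq_of_add_eq_zero_left (add_self2 _)]

theorem fix_perp (γ : O q10) {x : V10} (hx : γ.1 x = x) (v : V10) : polar q10 x (γ.1 v + v) = 0 := by
  rw [polar_add_right]
  nth_rewrite 1 [← hx]
  rw [O_polar, aa]

theorem iso (γ : O q10) (h2 : ∀ v, γ.1 (γ.1 v) = v) (u v : V10) :
    polar q10 (γ.1 u + u) (γ.1 v + v) = 0 := by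
  refine fix_perp γ ?_ v
  rw [map_add, h2, add_comm]

theorem pol_one (γ : O q10) {v : V10} (h : q10 (γ.1 v + v) = 1) : polar q10 (γ.1 v + v) v = 1 := by
  have h1 : q10 (γ.1 v + v + v) = q10 v := by rw [add_assoc, add_self2, add_zero, O_map]
  rw [Q_add, h] at h1
  rcases z2 (polar q10 (γ.1 v + v) v) with e | e
  · rw [e] at h1; exfalso; revert h1; generalize q10 v = c; revert c; decide
  · exact e

theorem triv (ρ : O q10) {x : V10} (hq : q10 x = 0) (h : ∀ v, polar q10 x v = 0 → ρ.1 v = v) (f : V10) :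
    ρ.1 f = f := by
  rcases z2 (polar q10 x f) with e | e
  · exact h f e
  have h1 : ρ.1 f + f ∈ perp q10 (perp q10 ((ZMod 2) ∙ x)) := by
    refine mem_perp.2 fun w hw => ?_
    exact fix_perp ρ (h w (mem_perp_singleton.1 hw)) f
  rw [perp_perp (QPlus_nondeg 5 (ZMod 2)), Submodule.mem_span_singleton] at h1
  obtain ⟨c, hc⟩ := h1
  rcases z2 c with rfl | rfl
  · rw [zero_smul] at hc; exact eq_of_add hc.symm
  · rw [one_smul] at hc
    have h2 : ρ.1 f = x + f := by rw [hc, add_assoc, add_self2, add_zero]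
    have h3 := O_map ρ f
    rw [h2, Q_add, hq, e] at h3
    exfalso; revert h3; generalize q10 f = c; revert c; decide

variable {E : Subgroup G} {φ : V10 → G}

omit [Finite G] in
theorem inv' (K : AC z E φ) (v : V10) : (φ v)⁻¹ = φ v := inv_eq_of_mul_eq_one_right (add_sq K.add v)

omit [Finite G] in
theorem one_iff (K : AC z E φ) {v : V10} : φ v = 1 ↔ v = 0 :=
  ⟨fun e => K.inj (e.trans (add_zero' K.add).symm), fun e => e ▸ add_zero' K.add⟩

omit [Finite G] in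
theorem invol (K : AC z E φ) {g : G} {γ : O q10} (hγ : ∀ v, g * φ v * g⁻¹ = φ (γ.1 v)) (h2 : g * g = 1)
    (v : V10) : γ.1 (γ.1 v) = v := by
  apply K.inj
  rw [← hγ, ← hγ]
  calc _ = (g * g) * φ v * (g * g)⁻¹ := by group
    _ = _ := by rw [h2]; group

omit [Finite G] in
theorem cm (K : AC z E φ) {g : G} {γ : O q10} (hγ : ∀ v, g * φ v * g⁻¹ = φ (γ.1 v)) (v : V10) :
    g * φ v * g⁻¹ * (φ v)⁻¹ = φ (γ.1 v + v) := by rw [hγ, inv' K, K.add]

/-- the image of a subspace given by two functionals -/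
def H2 (K : AC z E φ) (x n : V10) : Subgroup G where
  carrier := {w | ∃ v, polar q10 x v = 0 ∧ polar q10 n v = 0 ∧ φ v = w}
  one_mem' := ⟨0, polar_zero_right _ _, polar_zero_right _ _, add_zero' K.add⟩
  mul_mem' := by
    rintro _ _ ⟨u, a, b, rfl⟩ ⟨v, c, d, rfl⟩
    exact ⟨u + v, by rw [polar_add_right, a, c, add_zero], by rw [polar_add_right, b, d, add_zero],
      K.add u v⟩
  inv_mem' := by rintro _ ⟨u, a, b, rfl⟩; exact ⟨u, a, b, (inv' K u).symm⟩

end ArkB1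

open QuadraticMap CL.Orth ArkB1

namespace IsArk
variable {h : MH z Q R A D} {E : Subgroup G}

/-- `q (a + b) = polar a b` -/
theorem perp_iff (e : IsArk h E) {a b : G} (ha : a ∈ E) (hz : IsConj z a) (hb : b ∈ E) (hz' : IsConj z b) :
    b ∈ O2C a ↔ a * b = 1 ∨ IsConj z (a * b) := by
  obtain ⟨φ, K⟩ := e.ac
  obtain ⟨u, rfl⟩ := (K.mem a).1 ha
  obtain ⟨v, rfl⟩ := (K.mem b).1 hb
  obtain ⟨u0, qu⟩ := (K.fus u).1 hz
  obtain ⟨-, qv⟩ := (K.fus v).1 hz'
  have hq : q10 (u + v) = polar q10 u v := by rw [Q_add, qu, qv, zero_add, zero_add]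
  rw [K.perp u v u0 qu, ← K.add, one_iff K, K.fus, hq]
  refine ⟨fun e => (em (u + v = 0)).imp_right fun e' => ⟨e', e⟩, ?_⟩
  rintro (e | e)
  · rw [← hq, e, map_zero]
  · exact e.2

theorem sing_of (e : IsArk h E) {U : Subgroup G} (hU : U ≤ E) (hz : ∀ u ∈ U, u ≠ 1 → IsConj z u) :
    Sing z U := by
  intro u hu h1
  refine ⟨hz u hu h1, fun w hw => ?_⟩
  by_cases w1 : w = 1
  · exact w1 ▸ one_mem _
  refine (e.perp_iff (hU hu) (hz u hu h1) (hU hw) (hz w hw w1)).2 ?_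
  exact (em (u * w = 1)).imp_right fun e' => hz _ (mul_mem hu hw) e'

/-- non-degeneracy: a functional `polar a` vanishing on `s₁^⊥ ∩ s₂^⊥` is in the span -/
theorem sep (e : IsArk h E) {a s t : G} (ha : a ∈ E) (hz : IsConj z a) (hs : s ∈ E) (zs : IsConj z s)
    (ht : t ∈ E) (zt : IsConj z t) (n1 : a ≠ s) (n2 : a ≠ t) (n3 : a ≠ s * t) :
    ∃ b ∈ E, b ∉ O2C a ∧ b ∈ O2C s ∧ b ∈ O2C t := by
  obtain ⟨φ, K⟩ := e.ac
  obtain ⟨x, rfl⟩ := (K.mem a).1 ha
  obtain ⟨y, rfl⟩ := (K.mem s).1 hs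
  obtain ⟨w, rfl⟩ := (K.mem t).1 ht
  obtain ⟨x0, qx⟩ := (K.fus x).1 hz
  obtain ⟨y0, qy⟩ := (K.fus y).1 zs
  obtain ⟨w0, qw⟩ := (K.fus w).1 zt
  have hx : x ∉ Submodule.span (ZMod 2) ({y, w} : Set V10) := by
    rw [Submodule.mem_span_pair]
    rintro ⟨c, d, hcd⟩
    rcases z2 c with rfl | rfl <;> rcases z2 d with rfl | rfl
    · exact x0 (by rw [← hcd, zero_smul, zero_smul, add_zero])
    · exact n2 (by rw [← hcd, zero_smul, one_smul, zero_add])
    · exact n1 (by rw [← hcd, zero_smul, one_smul, add_zero])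
    · exact n3 (by rw [← hcd, one_smul, one_smul, K.add])
  obtain ⟨b, hb, hb'⟩ := exists_polar_ne_zero_of_notMem (QPlus_nondeg 5 (ZMod 2)) hx
  rw [mem_perp_span] at hb
  refine ⟨φ b, (K.mem _).2 ⟨b, rfl⟩, fun e' => hb' ?_, (K.perp y b y0 qy).2 (hb y (by simp)),
    (K.perp w b w0 qw).2 (hb w (by simp))⟩
  rw [polar_comm]
  exact (K.perp x b x0 qx).1 e'

/-- `polar a (g w - w) = 0` -/
theorem comm_perp (e : IsArk h E) {a g w : G} (ha : a ∈ E) (hz : IsConj z a)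
    (hg : g ∈ normalizer (E : Set G)) (hc : g * a = a * g) (hw : w ∈ E) : g * w * g⁻¹ * w⁻¹ ∈ O2C a := by
  obtain ⟨φ, K⟩ := e.ac
  obtain ⟨x, rfl⟩ := (K.mem a).1 ha
  obtain ⟨v, rfl⟩ := (K.mem w).1 hw
  obtain ⟨x0, qx⟩ := (K.fus x).1 hz
  obtain ⟨γ, -, hγ⟩ := K.act g hg
  have hx : γ.1 x = x := K.inj (by rw [← hγ, hc, mul_inv_cancel_right])
  rw [cm K hγ]
  exact (K.perp x _ x0 qx).2 (fix_perp γ hx v)

/-- `U = [V, g]` is totally isotropic as `g² = 1`, so `q` is additive on it; without singular vectors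
`U = ⟨n⟩`, `q n = 1`, and `q (g v) = q v` forces `g = refl n`, against `nrefl`. -/
theorem refl1 (e : IsArk h E) {g : G} (hg : g ∈ normalizer (E : Set G)) (h2 : g * g = 1)
    (hw : ∃ w ∈ E, g * w ≠ w * g) : ∃ w ∈ E, IsConj z (g * w * g⁻¹ * w⁻¹) := by
  obtain ⟨φ, K⟩ := e.ac
  obtain ⟨γ, -, hγ⟩ := K.act g hg
  have h2' := invol K hγ h2
  obtain ⟨w, hw, hne⟩ := hw
  obtain ⟨v0, rfl⟩ := (K.mem w).1 hw
  by_contra hcon
  have hc : ∀ v, q10 (γ.1 v + v) = 0 → γ.1 v + v = 0 := fun v hv => by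
    by_contra e'
    exact hcon ⟨φ v, (K.mem _).2 ⟨v, rfl⟩, by rw [cm K hγ]; exact (K.fus _).2 ⟨e', hv⟩⟩
  have n0 : γ.1 v0 + v0 ≠ 0 := fun e' => hne (by
    have := hγ v0
    rw [eq_of_add e'] at this
    exact mul_inv_eq_iff_eq_mul.1 this)
  have qn : q10 (γ.1 v0 + v0) = 1 := (z2 _).resolve_left fun e' => n0 (hc _ e')
  refine K.nrefl _ qn g fun v => ?_
  rw [hγ, refl_eq qn]
  congr 1
  rcases z2 (q10 (γ.1 v + v)) with e' | e'
  · have e1 := eq_of_add (hc v e')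
    rw [polar_comm, fix_perp γ e1, zero_smul, add_zero, e1]
  · have e1 : γ.1 (v + v0) + (v + v0) = (γ.1 v + v) + (γ.1 v0 + v0) := by rw [map_add]; abel
    have e2 := hc (v + v0) (by rw [e1, Q_add, e', qn, iso γ h2']; decide)
    rw [e1] at e2
    have e3 := eq_of_add e2
    rw [← e3, pol_one γ e', one_smul, add_comm (γ.1 v), ← add_assoc, add_self2, zero_add]

/-- As `refl1` modulo `a`: otherwise `[a^⊥, g] ≤ ⟨a, n⟩`, `q n = 1`, `g` acts on the hyperplane
`H = a^⊥ ∩ n^⊥` of `a^⊥` trivially modulo `a`; `exists_adjust` (P5G, for `Q_a` and `E := H`) gives `y ∈ Q_a`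
with `g' = y⁻¹ g` centralising `H`; for `v ∈ a^⊥ \ H`, `n' = g' v - v ∈ {n, n + a}`; `g' · refl n'` fixes `a^⊥`
pointwise, hence is trivial, against `nrefl`. -/
theorem refl2 (e : IsArk h E) {a g : G} (ha : a ∈ E) (hz : IsConj z a) (hg : g ∈ normalizer (E : Set G))
    (h2 : g * g = 1) (hc : g * a = a * g)
    (hw : ∃ w ∈ E, w ∈ O2C a ∧ g * w * g⁻¹ ≠ w ∧ g * w * g⁻¹ ≠ w * a) :
    ∃ w ∈ E, w ∈ O2C a ∧ IsConj z (g * w * g⁻¹ * w⁻¹) ∧ g * w * g⁻¹ * w⁻¹ ≠ a := by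
  obtain ⟨φ, K⟩ := e.ac
  obtain ⟨γ, -, hγ⟩ := K.act g hg
  have h2' := invol K hγ h2
  obtain ⟨x, rfl⟩ := (K.mem a).1 ha
  obtain ⟨x0, qx⟩ := (K.fus x).1 hz
  have hx : γ.1 x = x := K.inj (by rw [← hγ, hc, mul_inv_cancel_right])
  obtain ⟨w, hw, hwa, n1, n2⟩ := hw
  obtain ⟨v0, rfl⟩ := (K.mem w).1 hw
  have p0 := (K.perp x v0 x0 qx).1 hwa
  by_contra hcon
  have hc : ∀ v, polar q10 x v = 0 → q10 (γ.1 v + v) = 0 → γ.1 v + v = 0 ∨ γ.1 v + v = x := fun v pv hv => by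
    by_contra e'
    push Not at e'
    exact hcon ⟨φ v, (K.mem _).2 ⟨v, rfl⟩, (K.perp x v x0 qx).2 pv,
      by rw [cm K hγ]; exact (K.fus _).2 ⟨e'.1, hv⟩, by rw [cm K hγ]; exact fun e2 => e'.2 (K.inj e2)⟩
  have qn : q10 (γ.1 v0 + v0) = 1 := (z2 _).resolve_left fun e' => by
    rcases hc v0 p0 e' with e1 | e1
    · exact n1 (by rw [hγ, eq_of_add e1])
    · exact n2 (by rw [hγ, ← K.add, ← e1, add_comm (γ.1 v0), ← add_assoc, add_self2, zero_add])
  have xn : polar q10 x (γ.1 v0 + v0) = 0 := fix_perp γ hx v0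
  have es := (lx_of h hz).toES
  have hH : H2 K x (γ.1 v0 + v0) ≤ O2C (φ x) := by
    rintro _ ⟨v, pv, -, rfl⟩
    exact (K.perp x v x0 qx).2 pv
  obtain ⟨y, hy, hyc⟩ := exists_adjust (c := g) es hH ⟨x, pself x, by rw [polar_comm, xn], rfl⟩ (by
    rintro _ ⟨v, pv, nv, rfl⟩
    have key : γ.1 v + v = 0 ∨ γ.1 v + v = x := by
      refine hc v pv ((z2 _).resolve_right fun e' => ?_)
      have e1 : γ.1 (v + v0) + (v + v0) = (γ.1 v + v) + (γ.1 v0 + v0) := by rw [map_add]; abel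
      have e2 := hc (v + v0) (by rw [polar_add_right, pv, p0, add_zero])
        (by rw [e1, Q_add, e', qn, iso γ h2']; decide)
      have e3 := pol_one γ e'
      rw [e1] at e2
      rcases e2 with e2 | e2
      · rw [eq_of_add e2, nv] at e3; exact zero_ne_one e3
      · have e4 : γ.1 v + v = x + (γ.1 v0 + v0) := by
          rw [← e2, add_assoc (γ.1 v + v), add_self2, add_zero]
        rw [e4, polar_add_left, pv, nv, add_zero] at e3; exact zero_ne_one e3
    rw [hγ, ← K.add]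
    refine key.imp (fun e' => by rw [eq_of_add e']) fun e' => ?_
    rw [← e', add_comm (γ.1 v), ← add_assoc, add_self2, zero_add])
  have hN : y⁻¹ * g ∈ normalizer (E : Set G) := mul_mem (inv_mem (e.O2C_le ha hz hy)) hg
  obtain ⟨γ', -, hγ'⟩ := K.act _ hN
  have fixH : ∀ v, polar q10 x v = 0 → polar q10 (γ.1 v0 + v0) v = 0 → γ'.1 v = v := fun v pv nv => by
    apply K.inj
    rw [← hγ', ← hyc (φ v) ⟨v, pv, nv, rfl⟩, mul_inv_cancel_right]
  have hn' : γ'.1 v0 + v0 = γ.1 v0 + v0 ∨ γ'.1 v0 + v0 = x + (γ.1 v0 + v0) := by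
    have m : φ (γ.1 v0) ∈ O2C (φ x) := (K.perp x _ x0 qx).2 (by
      nth_rewrite 1 [← hx]; rw [O_polar, p0])
    have e1 : φ (γ'.1 v0) = y⁻¹ * φ (γ.1 v0) * y⁻¹⁻¹ := by rw [← hγ', ← hγ]; group
    rcases es.conj_cases m (inv_mem hy) with e2 | e2
    · left; rw [K.inj (e1.trans e2)]
    · right; rw [← K.add] at e2; rw [K.inj (e1.trans e2)]; abel
  have qn' : q10 (γ'.1 v0 + v0) = 1 := by
    rcases hn' with e1 | e1
    · rw [e1, qn]
    · rw [e1, Q_add, qx, qn, xn, zero_add, add_zero]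
  have pn : ∀ v, polar q10 x v = 0 → polar q10 (γ'.1 v0 + v0) v = polar q10 (γ.1 v0 + v0) v := fun v pv => by
    rcases hn' with e1 | e1
    · rw [e1]
    · rw [e1, polar_add_left q10 x, pv, zero_add]
  have hρ := triv (Orth.refl q10 (γ'.1 v0 + v0) * γ') qx fun v pv => by
    have e0 : γ'.1 v = (Orth.refl q10 (γ'.1 v0 + v0)).1 v := by
      rw [refl_eq qn', pn v pv]
      rcases z2 (polar q10 (γ.1 v0 + v0) v) with e1 | e1
      · rw [e1, zero_smul, add_zero, fixH v pv e1]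
      · have e2 := fixH (v + v0) (by rw [polar_add_right, pv, p0, add_zero])
          (by rw [polar_add_right, e1, pol_one γ qn, aa])
        rw [map_add] at e2
        rw [e1, one_smul, add_comm (γ'.1 v0), ← add_assoc, ← e2, add_assoc, add_self2, add_zero]
    rw [O_mul_apply, e0, refl_refl_apply]
  refine K.nrefl _ qn' (y⁻¹ * g) fun v => ?_
  rw [hγ']
  congr 1
  have := hρ v
  rw [O_mul_apply] at this
  rw [← this, refl_refl_apply, this]

/-- `T` meets the two standard totally singular 5-spaces in at least `8` vectors each; these are in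
duality, `3 + 3 > 5`. -/
theorem hyp (e : IsArk h E) {T : Subgroup G} (hT : T.relIndex E ≤ 4) :
    ∃ a ∈ E, ∃ b ∈ E, a ∈ T ∧ b ∈ T ∧ IsConj z a ∧ IsConj z b ∧ b ∉ O2C a := by
  exact ArkB2.hyp e hT

/-- `hyp`, `perp_symm` and `mem_of_pair` with `q = q' = u`, `x = x' = 1` -/
theorem mem_of_index (e : IsArk h E) {u : G} (hz : IsConj z u) (hi : (O2C u).relIndex E ≤ 4) : u ∈ E := by
  exact ArkB2.mem_of_index e hz hi

/-- `U ≤ U^⊥` -/
theorem card_le_of_sing (e : IsArk h E) {U : Subgroup G} (hU : U ≤ E) (hz : ∀ u ∈ U, u ≠ 1 → IsConj z u) :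
    Nat.card U ≤ 32 := by
  exact ArkB2.card_le_of_sing e hU hz

/-- three independent vectors: `q = 1` on all seven sums is impossible -/
theorem exists_sing (e : IsArk h E) {U : Subgroup G} (hU : U ≤ E) (h8 : 8 ≤ Nat.card U) :
    ∃ u ∈ U, IsConj z u := by
  exact ArkB2.exists_sing e hU h8

/-- intersect `U` with a hyperplane missing `a` -/
theorem exists_sing_ne (e : IsArk h E) {U : Subgroup G} (hU : U ≤ E) (h16 : 16 ≤ Nat.card U) (a : G) :
    ∃ u ∈ U, IsConj z u ∧ u ≠ a := by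
  exact ArkB2.exists_sing_ne e hU h16 a

/-- every `b ∈ E` is orthogonal to a subgroup of index at most two of a singular `W ≤ E` -/
theorem half (e : IsArk h E) {W : Subgroup G} (hW : W ≤ E) (hs : Sing z W) {b : G} (hb : b ∈ E) :
    ∃ W0 ≤ W, Nat.card W ≤ 2 * Nat.card W0 ∧ ∀ u ∈ W0, u ≠ 1 → b ∈ O2C u := by
  exact ArkB2.half e hW hs hb

end IsArk

end CL.ML
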