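import Cfsg.Agent.SPOR.ML.Defs

/-!
Maximal 2-local subgroups of the Monster: basic facts on the groups `Q_x`, conjugation, fixed points.
-/

set_option autoImplicit false
set_option linter.dupNamespace false

namespace CL.ML

open Cfsg CL.Leech CL.MT CL.LX CL.MSS CL.MP Subgroup
open CL.Golay (Code)
open scoped symmDiff

variable {G : Type*} [Group G] [Finite G] {z : G} {Q : Subgroup G} {R : leechLattice → G → Prop}
  {A : Co0 → G → Prop} {D : Set G}

/-- `Q ≤ O2C z` by `le_O2C`; the image of `O2C z` in `Co1` (`h.exists_hom`) is a normal 2-subgroup of the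
simple group `Co1`. -/
theorem O2C_z (h : MH z Q R A D) : O2C z = Q := by
  refine le_antisymm ?_ (le_O2C h.lx.isPGroup (fun x hx => mem_centralizer_singleton_iff.2 (h.lx.z_comm x hx))
    h.lx.centralizer_le_normalizer)
  obtain ⟨φ, hs, hk, -⟩ := h.toMT.exists_hom
  have := simple_Co1
  rcases (Subgroup.Normal.map (inferInstance : (pCore 2 (centralizer ({z} : Set G))).Normal) φ hs).eq_bot_or_eq_top
    with e | e
  · rw [Subgroup.map_eq_bot_iff, hk] at e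
    rintro _ ⟨x, hx, rfl⟩
    exact e hx
  · have : Finite (Co0 ⧸ center Co0) := Nat.finite_of_card_ne_zero (by rw [card_Co1]; norm_num)
    have h1 := (oP_pCore_isPGroup (p := 2) (G := centralizer ({z} : Set G))).map φ
    rw [e] at h1
    obtain ⟨n, hn⟩ := IsPGroup.iff_card.1 h1
    rw [card_top, card_Co1] at hn
    have h3 : 3 ∣ 2 ^ n := hn ▸ by norm_num
    exact absurd (Nat.prime_three.dvd_of_dvd_pow h3) (by norm_num)

theorem O2C_cj (h : MH z Q R A D) (g : G) : O2C (g * z * g⁻¹) = g •ᶜ Q := by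
  rw [O2C_conj, O2C_z h]

theorem lx_of (h : MH z Q R A D) {x : G} (hx : IsConj z x) : LX (O2C x) x := by
  obtain ⟨g, rfl⟩ := isConj_iff.1 hx
  rw [O2C_cj h]
  exact h.lx.conj g

theorem card_O2C (h : MH z Q R A D) {x : G} (hx : IsConj z x) : Nat.card (O2C x) = 2 ^ 25 := by
  obtain ⟨g, rfl⟩ := isConj_iff.1 hx
  rw [O2C_cj h, card_cj, h.card]

theorem sq_of (h : MH z Q R A D) {x : G} (hx : IsConj z x) : x * x = 1 ∧ x ≠ 1 := by
  exact ⟨(lx_of h hx).z_sq, (lx_of h hx).z_ne⟩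

theorem comm_of_mem {x y : G} (hy : y ∈ O2C x) : x * y = y * x := by
  exact (mem_centralizer_singleton_iff.1 (O2C_le x hy)).symm

theorem conj_mem_O2C {x y c : G} (hc : c * x = x * c) (hy : y ∈ O2C x) : c * y * c⁻¹ ∈ O2C x := by
  exact (mem_normalizer_iff.1 (centralizer_le_normalizer_O2C x (mem_centralizer_singleton_iff.2 hc)) y).1 hy

theorem mem_O2C_conj {x y : G} (g : G) : g * y * g⁻¹ ∈ O2C (g * x * g⁻¹) ↔ y ∈ O2C x := by
  rw [O2C_conj, conj_mem_cj_iff]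

/-- `LX.symm_of_card` -/
theorem perp_symm (h : MH z Q R A D) {x y : G} (hx : IsConj z x) (hy : IsConj z y) (e : y ∈ O2C x) :
    x ∈ O2C y := by
  obtain ⟨g, rfl⟩ := isConj_iff.1 (hx.symm.trans hy)
  rw [O2C_conj]
  exact (lx_of h hx).symm_of_card (by rw [card_O2C h hx]; norm_num) e

/-- `y ≠ 1, x` is not central in `Q_x`, so some `q ∈ Q_x` has `q y q⁻¹ = y x`. -/
theorem exists_swap (h : MH z Q R A D) {x y : G} (hx : IsConj z x) (e : y ∈ O2C x) (h1 : y ≠ 1)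
    (hne : y ≠ x) : ∃ q ∈ O2C x, q * y * q⁻¹ = y * x := by
  obtain ⟨q, hq, hn⟩ := (lx_of h hx).exists_not_comm e h1 hne
  refine ⟨q, hq, ?_⟩
  rw [((lx_of h hx).comm q hq y e).resolve_left fun e => hn e.symm, mul_assoc y, ← comm_of_mem hq]
  group

theorem isConj_mul (h : MH z Q R A D) {x y : G} (hx : IsConj z x) (hy : IsConj z y) (e : y ∈ O2C x)
    (hne : y ≠ x) : IsConj z (y * x) := by
  obtain ⟨q, -, hq⟩ := exists_swap h hx e (sq_of h hy).2 hne
  exact hy.trans (isConj_iff.2 ⟨q, hq⟩)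

/-- `q ∈ Q_x` with `q y q⁻¹ = y x` normalises `Q_x ∩ Q_y` (it contains `x`, `Q_x / x` is abelian). -/
theorem tri (h : MH z Q R A D) {x y : G} (hx : IsConj z x) (hy : IsConj z y) (e : y ∈ O2C x)
    (hne : y ≠ x) {g : G} (h1 : g ∈ O2C x) (h2 : g ∈ O2C y) : g ∈ O2C (y * x) := by
  obtain ⟨q, hq, e1⟩ := exists_swap h hx e (sq_of h hy).2 hne
  have k := (mem_O2C_conj q).2 h2
  rw [e1] at k
  have hx' := perp_symm h hx (isConj_mul h hx hy e hne) (mul_mem e (lx_of h hx).z_mem)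
  rcases (lx_of h hx).comm q hq g h1 with e2 | e2
  · rwa [e2, mul_inv_cancel_right] at k
  · rw [e2, mul_assoc g, ← comm_of_mem hq, ← mul_assoc, mul_inv_cancel_right] at k
    exact (Subgroup.mul_mem_cancel_right _ hx').1 k

/-- `tri` for `s` and `s x` -/
theorem tri' (h : MH z Q R A D) {x s : G} (hx : IsConj z x) (hs : IsConj z s) (e : s ∈ O2C x)
    (hne : s ≠ x) {g : G} (h1 : g ∈ O2C s) (h2 : g ∈ O2C (s * x)) : g ∈ O2C x := by
  have k := tri h hs (isConj_mul h hx hs e hne) (mul_mem (lx_of h hs).z_mem (perp_symm h hx hs e))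
    (fun e => (sq_of h hx).2 (mul_eq_left.1 e)) h1 h2
  rwa [mul_assoc, comm_of_mem e, ← mul_assoc, (sq_of h hs).1, one_mul] at k

/-- commutators lie in `⟨x⟩ ∩ ⟨y⟩` (`inf_comm`, `inf_sq`) -/
theorem inf_comm' (h : MH z Q R A D) {x y : G} (hx : IsConj z x) (hy : IsConj z y) (hne : y ≠ x)
    {a b : G} (a1 : a ∈ O2C x) (a2 : a ∈ O2C y) (b1 : b ∈ O2C x) (b2 : b ∈ O2C y) :
    a * b = b * a ∧ a * a = 1 := by
  refine ⟨?_, ?_⟩
  · rcases (lx_of h hx).comm a a1 b b1 with e | e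
    · exact e
    · exact ((lx_of h hy).comm a a2 b b2).resolve_right fun e' => hne (mul_left_cancel (e'.symm.trans e))
  · rcases (lx_of h hx).sq a a1 with e | e
    · exact e
    · exact ((lx_of h hy).sq a a2).resolve_right fun e' => hne (e'.symm.trans e)

/-- conjugate of the field `L` -/
theorem lemL (h : MH z Q R A D) {x y : G} (hx : IsConj z x) (hy : y ∈ D) (hc : y * x = x * y)
    (hm : y * x ∈ D) : y ∈ O2C x := by
  obtain ⟨g, rfl⟩ := isConj_iff.1 hx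
  rw [O2C_cj h, mem_cj]
  refine h.L (by simpa using h.toAX.conj hy g⁻¹) ?_ ?_
  · calc g⁻¹ * y * g * z = g⁻¹ * (y * (g * z * g⁻¹)) * g := by group
      _ = _ := by rw [hc]; group
  · have := h.toAX.conj hm g⁻¹
    rwa [show g⁻¹ * (y * (g * z * g⁻¹)) * g⁻¹⁻¹ = g⁻¹ * y * g * z by group] at this

theorem not_conj_of_D (h : MH z Q R A D) {y : G} (hy : y ∈ D) : ¬ IsConj z y := by
  exact h.toAX.not_conj hy

/-- `MR.classes` -/
theorem two_cls (h : MH z Q R A D) {y : G} (h2 : y * y = 1) (h1 : y ≠ 1) : IsConj z y ∨ y ∈ D := by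
  rcases MR.classes h.toMT h.hB h2 h1 with c | ⟨v, x, r, e, c⟩
  · exact Or.inl c
  · obtain ⟨g, rfl⟩ := isConj_iff.1 c
    exact Or.inr (h.toAX.conj (h.of_R r e) g)

/-- `Rk.rank_le` -/
theorem rank_le (h : MH z Q R A D) {X : Subgroup G} (hX : ∀ x ∈ X, x * x = 1) :
    Nat.card X ≤ 2 ^ 15 := by
  refine Rk.rank_le h.toMT h.hG X ⟨⟨fun a b => Subtype.ext ?_⟩⟩ fun a ha => by rw [pow_two, hX a ha]
  change (a : G) * b = b * a
  rw [← inv_eq_of_mul_eq_one_right (hX _ (mul_mem a.2 b.2)), mul_inv_rev, inv_eq_of_mul_eq_one_right (hX _ a.2),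
    inv_eq_of_mul_eq_one_right (hX _ b.2)]

theorem Wk_conj (g a y : G) : Wk (g * a * g⁻¹) (g * y * g⁻¹) = g •ᶜ Wk a y := by
  rw [Wk, Wk, cj_closure, Set.image_union, Set.image_singleton, O2C_conj]
  congr 2
  ext w
  constructor
  · rintro ⟨_, ⟨q, hq, rfl⟩, rfl⟩
    refine ⟨_, ⟨q, hq, rfl⟩, ?_⟩
    change g * _ * g⁻¹ = g * q * g⁻¹ * _ * (g * q * g⁻¹)⁻¹ * _
    group
  · rintro ⟨_, ⟨q, hq, rfl⟩, rfl⟩
    exact ⟨_, conj_mem_cj (g := g) hq, by group⟩

theorem Ak_conj (g a y : G) : Ak (g * a * g⁻¹) (g * y * g⁻¹) = g •ᶜ Ak a y := by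
  rw [Ak, Ak, Wk_conj, O2C_conj, cj_centralizer, cj_inf, cj_centralizer]

theorem norm_Wk {a y n : G} (h1 : n * a = a * n) (h2 : n * y = y * n) :
    n ∈ normalizer (Wk a y : Set G) := by
  rw [mem_normalizer_iff_cj, ← Wk_conj, h1, h2, mul_inv_cancel_right, mul_inv_cancel_right]

theorem norm_Ak {a y n : G} (h1 : n * a = a * n) (h2 : n * y = y * n) :
    n ∈ normalizer (Ak a y : Set G) := by
  rw [mem_normalizer_iff_cj, ← Ak_conj, h1, h2, mul_inv_cancel_right, mul_inv_cancel_right]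

theorem OctT.conj {a y : G} (e : OctT z A a y) (g : G) : OctT z A (g * a * g⁻¹) (g * y * g⁻¹) := by
  obtain ⟨k, rfl, e⟩ := e
  exact ⟨g * k, by group, by rwa [show (g * k)⁻¹ * (g * y * g⁻¹) * (g * k) = k⁻¹ * y * k by group]⟩

theorem OctT.cj {a y : G} (e : OctT z A a y) : IsConj z a := by
  obtain ⟨k, rfl, -⟩ := e
  exact isConj_iff.2 ⟨k, rfl⟩

theorem OctT.comm (h : MH z Q R A D) {a y : G} (e : OctT z A a y) : y * a = a * y := by
  obtain ⟨k, rfl, e⟩ := e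
  calc y * (k * z * k⁻¹) = k * (k⁻¹ * y * k * z) * k⁻¹ := by group
    _ = _ := by rw [h.A_comm e]; group

theorem OctT.not_mem (h : MH z Q R A D) {a y : G} (e : OctT z A a y) : y ∉ O2C a := by
  obtain ⟨k, rfl, e⟩ := e
  rw [O2C_cj h, mem_cj, h.A_ker e, CL.Leech.mem_center_iff]
  rintro (e | e)
  · exact E8C.t_ne e
  · have := E8C.card_cT
    rw [CL.StdCo.sgn_inj e] at this
    exact absurd this (by decide)

theorem IsArk.conj {h : MH z Q R A D} {E : Subgroup G} (e : IsArk h E) (g : G) : IsArk h (g •ᶜ E) := by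
  obtain ⟨k, rfl⟩ := e
  exact ⟨g * k, (cj_mul g k _).symm⟩

theorem WT.conj {h : MH z Q R A D} {W : Subgroup G} (e : WT h W) (g : G) : WT h (g •ᶜ W) := by
  obtain ⟨E1, E2, a, b, c, d, rfl⟩ := e
  exact ⟨_, _, a.conj g, b.conj g, (cj_inj g).not.2 c, cj_centralizer g E1 ▸ cj_mono g d, cj_inf g _ _⟩

theorem Sing.conj {U : Subgroup G} (e : Sing z U) (g : G) : Sing z (g •ᶜ U) := by
  intro u hu h1
  obtain ⟨v, hv, rfl⟩ := mem_cj'.1 hu
  obtain ⟨a, b⟩ := e v hv (by rintro rfl; simp at h1)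
  exact ⟨a.trans (isConj_iff.2 ⟨g, rfl⟩), by rw [O2C_conj]; exact cj_mono g b⟩

theorem Sing.mono {U V : Subgroup G} (e : Sing z U) (hV : V ≤ U) : Sing z V := by
  exact fun u hu h1 => ⟨(e u (hV hu) h1).1, hV.trans (e u (hV hu) h1).2⟩

theorem Tg.conj {h : MH z Q R A D} {H : Subgroup G} (e : Tg h H) (g : G) : Tg h (g •ᶜ H) := by
  rcases e with ⟨U, a, b, c⟩ | ⟨E, a, b⟩
  · exact Or.inl ⟨_, a.conj g, cj_eq_bot_iff.not.2 b, cj_normalizer g U ▸ cj_mono g c⟩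
  · exact Or.inr ⟨_, a.conj g, cj_normalizer g E ▸ cj_mono g b⟩

theorem Cfg.conj {F P : Subgroup G} (c : Cfg F P) (g : G) : Cfg (g •ᶜ F) (g •ᶜ P) := by
  refine ⟨fun x hx => ?_, fun x hx y hy => ?_, cj_mono g c.le, isPGroup_cj g c.pg, fun u h1 h2 => ?_⟩
  · obtain ⟨x', hx', rfl⟩ := mem_cj'.1 hx
    rw [conj_mul, c.sq x' hx']; group
  · obtain ⟨x', hx', rfl⟩ := mem_cj'.1 hx
    obtain ⟨y', hy', rfl⟩ := mem_cj'.1 hy
    rw [conj_mul, conj_mul, c.comm x' hx' y' hy']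
  · refine mem_cj.2 (c.cl _ ?_ fun y hy => ?_)
    · calc g⁻¹ * u * g * (g⁻¹ * u * g) = g⁻¹ * (u * u) * g := by group
        _ = 1 := by rw [h1]; group
    · calc g⁻¹ * u * g * y = g⁻¹ * (u * (g * y * g⁻¹)) * g := by group
        _ = _ := by rw [h2 _ (conj_mem_cj hy)]; group

theorem Cfg.comm' {F P : Subgroup G} (c : Cfg F P) {x y : G} (hx : x ∈ F) (hy : y ∈ F) :
    x * y = y * x := by
  exact c.comm x hx y (c.le hy)

theorem relIndex_conj (F : Subgroup G) (g x : G) :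
    (O2C (g * x * g⁻¹)).relIndex (g •ᶜ F) = (O2C x).relIndex F := by
  rw [O2C_conj, relIndex_cj]

theorem Mn.conj {F : Subgroup G} {x : G} (m : Mn z F x) (g : G) : Mn z (g •ᶜ F) (g * x * g⁻¹) := by
  refine ⟨m.cj.trans (isConj_iff.2 ⟨g, rfl⟩), conj_mem_cj m.mem, fun u hu h1 => ?_⟩
  obtain ⟨v, hv, rfl⟩ := mem_cj'.1 hu
  rw [relIndex_conj, relIndex_conj]
  exact m.min v hv (h1.trans (isConj_iff.2 ⟨g, rfl⟩).symm)

theorem Mn.norm {F : Subgroup G} {x n : G} (m : Mn z F x) (hn : n ∈ normalizer (F : Set G)) :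
    Mn z F (n * x * n⁻¹) := by
  have := m.conj n
  rwa [cj_eq_of_mem_normalizer hn] at this

theorem G1.conj {F : Subgroup G} {u : G} (e : G1 F u) (g : G) : G1 (g •ᶜ F) (g * u * g⁻¹) := by
  intro a ha b hb h1 h2
  obtain ⟨a', ha', rfl⟩ := mem_cj'.1 ha
  obtain ⟨b', hb', rfl⟩ := mem_cj'.1 hb
  rw [mem_O2C_conj] at h1 h2
  rw [conj_mul, mem_O2C_conj]
  exact e a' ha' b' hb' h1 h2

theorem G1.relIndex_le {F : Subgroup G} {u : G} (e : G1 F u) : (O2C u).relIndex F ≤ 2 := by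
  by_cases h : F ≤ O2C u
  · rw [relIndex_eq_one.2 h]; norm_num
  · obtain ⟨f, hf, hn⟩ := SetLike.not_le_iff_exists.1 h
    refine (index_eq_two_iff_exists_notMem_and.2 ⟨⟨f, hf⟩, hn, fun b => ?_⟩).le
    by_cases hb : (b : G) ∈ O2C u
    · exact Or.inr hb
    · exact Or.inl (e b b.2 f hf hb hn)

/-- `P` acts on the set `X` of odd size (`IsPGroup.nonempty_fixed_point_of_prime_not_dvd_card`) -/
theorem Cfg.fix_odd {F P : Subgroup G} (c : Cfg F P) {X : Set G} (hX : Odd X.ncard)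
    (h2 : ∀ x ∈ X, x * x = 1) (hP : ∀ n ∈ P, ∀ x ∈ X, n * x * n⁻¹ ∈ X) : ∃ x ∈ X, x ∈ F := by
  let _ : MulAction P X :=
    { smul := fun n x => ⟨n * x * (n : G)⁻¹, hP n n.2 x x.2⟩
      one_smul := fun x => Subtype.ext (show ((1 : P) : G) * x * ((1 : P) : G)⁻¹ = x by simp)
      mul_smul := fun a b x => Subtype.ext (show ((a * b : P) : G) * x * ((a * b : P) : G)⁻¹ =
        a * (b * x * (b : G)⁻¹) * (a : G)⁻¹ by simp [mul_assoc]) }
  obtain ⟨x, hx⟩ := c.pg.nonempty_fixed_point_of_prime_not_dvd_card X (by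
    rw [Nat.card_coe_set_eq]; exact hX.not_two_dvd_nat)
  refine ⟨x, x.2, c.cl x (h2 x x.2) fun y hy => ?_⟩
  exact (mul_inv_eq_iff_eq_mul.1 (congrArg Subtype.val (hx ⟨y, hy⟩))).symm

/-- `fix_odd` for `U \ {1}` -/
theorem Cfg.fix_sub {F P : Subgroup G} (c : Cfg F P) {U : Subgroup G} (h1 : U ≠ ⊥)
    (h2 : ∀ x ∈ U, x * x = 1) (hP : ∀ n ∈ P, ∀ x ∈ U, n * x * n⁻¹ ∈ U) : ∃ x ∈ U, x ≠ 1 ∧ x ∈ F := by
  obtain ⟨⟨y, hy⟩, hy1⟩ := ne_bot_iff_exists_ne_one.1 h1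
  have hy2 : y ≠ 1 := fun e => hy1 (Subtype.ext e)
  have h3 : 2 ∣ Nat.card U := by
    rw [← orderOf_eq_prime (show y ^ 2 = 1 by rw [pow_two, h2 y hy]) hy2]
    exact orderOf_dvd_natCard U hy
  have h4 := Set.ncard_diff_singleton_add_one (show (1 : G) ∈ (U : Set G) from U.one_mem)
  rw [← Nat.card_coe_set_eq (U : Set G)] at h4
  obtain ⟨x, hx, hF⟩ := c.fix_odd (X := (U : Set G) \ {1}) (by
      rw [Nat.odd_iff]
      change _ = Nat.card U at h4
      omega) (fun x hx => h2 x hx.1) fun n hn x hx => ⟨hP n hn x hx.1, fun e => hx.2 (by simpa using e)⟩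
  exact ⟨x, hx.1, hx.2, hF⟩

/-- by closure induction each `u ∈ ⟨X⟩` lies in `Q_w` for all `w ∈ X` and is `1` or 2B (`isConj_mul`);
then `perp_symm` gives `X ⊆ Q_u` -/
theorem sing_closure (h : MH z Q R A D) {X : Set G} (h1 : ∀ x ∈ X, IsConj z x)
    (h2 : ∀ x ∈ X, ∀ y ∈ X, y ∈ O2C x) : Sing z (closure X) := by
  have k : ∀ w ∈ X, closure X ≤ O2C w := fun w hw => (closure_le _).2 (h2 w hw)
  have k1 : ∀ u ∈ closure X, ∀ w ∈ X, (u = 1 ∨ IsConj z u) → (u * w = 1 ∨ IsConj z (u * w)) := by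
    rintro u hu w hw (rfl | e)
    · exact Or.inr (by rw [one_mul]; exact h1 w hw)
    · by_cases e' : u = w
      · exact Or.inl (by rw [e', (sq_of h (h1 w hw)).1])
      · exact Or.inr (isConj_mul h (h1 w hw) e (k w hw hu) e')
  have k2 : ∀ u ∈ closure X, u = 1 ∨ IsConj z u := fun u hu => by
    induction hu using closure_induction_right with
    | one => exact Or.inl rfl
    | mul_right u hu w hw ih => exact k1 u hu w hw ih
    | mul_inv_cancel u hu w hw ih =>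
      rw [inv_eq_of_mul_eq_one_right (sq_of h (h1 w hw)).1]
      exact k1 u hu w hw ih
  intro u hu hu1
  have e := (k2 u hu).resolve_left hu1
  exact ⟨e, (closure_le _).2 fun w hw => perp_symm h (h1 w hw) e (k w hw hu)⟩

theorem tg_of_perp (h : MH z Q R A D) {H : Subgroup G} {X : Set G} (h0 : X.Nonempty)
    (h1 : ∀ x ∈ X, IsConj z x) (h2 : ∀ x ∈ X, ∀ y ∈ X, y ∈ O2C x)
    (hH : ∀ n ∈ H, ∀ x ∈ X, n * x * n⁻¹ ∈ X) : Tg h H := by
  refine Or.inl ⟨_, sing_closure h h1 h2, fun e => ?_, le_normalizer_of_cj_le fun n hn => ?_⟩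
  · obtain ⟨x, hx⟩ := h0
    exact (sq_of h (h1 x hx)).2 (mem_bot.1 (e ▸ subset_closure hx))
  · rw [cj_closure]
    exact closure_mono (by rintro _ ⟨x, hx, rfl⟩; exact hH n hn x hx)

end CL.ML
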