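import Cfsg.Agent.SPOR.ML.Defs

/-!
Maximal 2-local subgroups of the Monster: conjugation, fixed points.
-/

set_option autoImplicit false
set_option linter.dupNamespace false
set_option linter.unusedSectionVars false

namespace CL.ML.BasB

open Cfsg CL.Leech CL.MT CL.LX CL.MSS CL.MP Subgroup
open CL.Golay (Code)
open scoped symmDiff

variable {G : Type*} [Group G] [Finite G] {z : G} {Q : Subgroup G} {R : leechLattice → G → Prop}
  {A : Co0 → G → Prop} {D : Set G}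

open CL.StdCo CL.K in
theorem t_nc : E8C.t ∉ center Co0 := fun h => by
  have hc := E8C.card_cT
  rcases MT.mem_center_iff.1 h with e | e
  · exact E8C.t_ne e
  · rw [sgn_inj (e.trans sgn_c1.symm)] at hc
    simp [c1] at hc

theorem Wk_conj (g a y : G) : Wk (g * a * g⁻¹) (g * y * g⁻¹) = g •ᶜ Wk a y := by
  rw [Wk, Wk, cj_closure, O2C_conj]
  congr 1
  ext w
  constructor
  · rintro (rfl | ⟨q, hq, rfl⟩)
    · exact ⟨a, Or.inl rfl, rfl⟩
    · obtain ⟨p, hp, rfl⟩ := mem_cj'.1 hq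
      exact ⟨_, Or.inr ⟨p, hp, rfl⟩, by group⟩
  · rintro ⟨_, rfl | ⟨q, hq, rfl⟩, rfl⟩
    · exact Or.inl rfl
    · exact Or.inr ⟨_, conj_mem_cj hq, by group⟩

theorem Ak_conj (g a y : G) : Ak (g * a * g⁻¹) (g * y * g⁻¹) = g •ᶜ Ak a y := by
  rw [Ak, Ak, Wk_conj, O2C_conj, cj_centralizer, cj_inf, cj_centralizer]

theorem norm_Wk {a y n : G} (h1 : n * a = a * n) (h2 : n * y = y * n) :
    n ∈ normalizer (Wk a y : Set G) := by
  rw [mem_normalizer_iff_cj, ← Wk_conj, h1, h2, mul_inv_cancel_right, mul_inv_cancel_right]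

theorem norm_Ak {a y n : G} (h1 : n * a = a * n) (h2 : n * y = y * n) :
    n ∈ normalizer (Ak a y : Set G) := by
  rw [mem_normalizer_iff_cj, ← Ak_conj, h1, h2, mul_inv_cancel_right, mul_inv_cancel_right]

theorem OctT_conj {a y : G} (e : OctT z A a y) (g : G) : OctT z A (g * a * g⁻¹) (g * y * g⁻¹) := by
  obtain ⟨k, rfl, hk⟩ := e
  exact ⟨g * k, by group, by
    rwa [show (g * k)⁻¹ * (g * y * g⁻¹) * (g * k) = k⁻¹ * y * k by group]⟩

theorem OctT_cj {a y : G} (e : OctT z A a y) : IsConj z a := by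
  obtain ⟨k, rfl, -⟩ := e
  exact isConj_iff.2 ⟨k, rfl⟩

theorem OctT_comm (h : MH z Q R A D) {a y : G} (e : OctT z A a y) : y * a = a * y := by
  obtain ⟨k, rfl, hk⟩ := e
  calc _ = k * (k⁻¹ * y * k * z) * k⁻¹ := by group
    _ = _ := by rw [h.A_comm hk]; group

theorem OctT_not_mem (h : MH z Q R A D) (hQ : O2C z = Q) {a y : G} (e : OctT z A a y) : y ∉ O2C a := by
  obtain ⟨k, rfl, hk⟩ := e
  rw [O2C_conj, mem_cj, hQ, h.A_ker hk]
  exact t_nc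

theorem IsArk_conj {h : MH z Q R A D} {E : Subgroup G} (e : IsArk h E) (g : G) : IsArk h (g •ᶜ E) := by
  obtain ⟨k, rfl⟩ := e
  exact ⟨g * k, (cj_mul _ _ _).symm⟩

theorem WT_conj {h : MH z Q R A D} {W : Subgroup G} (e : WT h W) (g : G) : WT h (g •ᶜ W) := by
  obtain ⟨E1, E2, h1, h2, h3, h4, rfl⟩ := e
  exact ⟨_, _, IsArk_conj h1 g, IsArk_conj h2 g, fun e => h3 ((cj_inj g).1 e),
    cj_centralizer g E1 ▸ cj_mono g h4, cj_inf _ _ _⟩

theorem Sing_conj {U : Subgroup G} (e : Sing z U) (g : G) : Sing z (g •ᶜ U) := by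
  intro u hu h1
  obtain ⟨v, hv, rfl⟩ := mem_cj'.1 hu
  obtain ⟨a, b⟩ := e v hv fun h => h1 (by rw [h, mul_one, mul_inv_cancel])
  exact ⟨a.trans (isConj_iff.2 ⟨g, rfl⟩), O2C_conj g v ▸ cj_mono g b⟩

theorem Sing_mono {U V : Subgroup G} (e : Sing z U) (hV : V ≤ U) : Sing z V := fun u hu h1 =>
  ⟨(e u (hV hu) h1).1, hV.trans (e u (hV hu) h1).2⟩

theorem Tg_conj {h : MH z Q R A D} {H : Subgroup G} (e : Tg h H) (g : G) : Tg h (g •ᶜ H) := by
  rcases e with ⟨U, h1, h2, h3⟩ | ⟨E, h1, h2⟩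
  · exact Or.inl ⟨_, Sing_conj h1 g, fun e => h2 (cj_eq_bot_iff.1 e), cj_normalizer g U ▸ cj_mono g h3⟩
  · exact Or.inr ⟨_, IsArk_conj h1 g, cj_normalizer g E ▸ cj_mono g h2⟩

theorem Cfg_conj {F P : Subgroup G} (c : Cfg F P) (g : G) : Cfg (g •ᶜ F) (g •ᶜ P) := by
  refine ⟨fun x hx => ?_, fun x hx y hy => ?_, cj_mono g c.le, isPGroup_cj g c.pg, fun u h1 h2 => ?_⟩
  · obtain ⟨x, hx', rfl⟩ := mem_cj'.1 hx
    rw [conj_mul, c.sq x hx', mul_one, mul_inv_cancel]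
  · obtain ⟨x, hx', rfl⟩ := mem_cj'.1 hx
    obtain ⟨y, hy', rfl⟩ := mem_cj'.1 hy
    rw [conj_mul, conj_mul, c.comm x hx' y hy']
  · refine mem_cj.2 (c.cl _ ?_ fun y hy => ?_)
    · calc _ = g⁻¹ * (u * u) * g := by group
        _ = 1 := by rw [h1, mul_one, inv_mul_cancel]
    · calc _ = g⁻¹ * (u * (g * y * g⁻¹)) * g := by group
        _ = _ := by rw [h2 _ (conj_mem_cj hy)]; group

theorem Cfg_comm' {F P : Subgroup G} (c : Cfg F P) {x y : G} (hx : x ∈ F) (hy : y ∈ F) :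
    x * y = y * x := c.comm x hx y (c.le hy)

theorem relIndex_conj (F : Subgroup G) (g x : G) :
    (O2C (g * x * g⁻¹)).relIndex (g •ᶜ F) = (O2C x).relIndex F := by
  rw [O2C_conj, relIndex_cj]

theorem Mn_conj {F : Subgroup G} {x : G} (m : Mn z F x) (g : G) : Mn z (g •ᶜ F) (g * x * g⁻¹) := by
  refine ⟨m.cj.trans (isConj_iff.2 ⟨g, rfl⟩), conj_mem_cj m.mem, fun u hu h => ?_⟩
  obtain ⟨u, hu', rfl⟩ := mem_cj'.1 hu
  rw [relIndex_conj, relIndex_conj]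
  exact m.min u hu' (h.trans (isConj_iff.2 ⟨g, rfl⟩).symm)

theorem Mn_norm {F : Subgroup G} {x n : G} (m : Mn z F x) (hn : n ∈ normalizer (F : Set G)) :
    Mn z F (n * x * n⁻¹) := by
  have := Mn_conj m n
  rwa [cj_eq_of_mem_normalizer hn] at this

theorem G1_conj {F : Subgroup G} {u : G} (e : G1 F u) (g : G) : G1 (g •ᶜ F) (g * u * g⁻¹) := by
  intro a ha b hb
  obtain ⟨a, ha', rfl⟩ := mem_cj'.1 ha
  obtain ⟨b, hb', rfl⟩ := mem_cj'.1 hb
  rw [O2C_conj, conj_mul, conj_mem_cj_iff, conj_mem_cj_iff, conj_mem_cj_iff]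
  exact e a ha' b hb'


theorem G1_relIndex_le {F : Subgroup G} {u : G} (e : G1 F u) : (O2C u).relIndex F ≤ 2 := by
  refine Nat.le_of_dvd two_pos (index_dvd_two_iff.2 ?_)
  by_cases h : ∃ a : F, (a : G) ∉ O2C u
  · obtain ⟨a, ha⟩ := h
    exact ⟨a, fun b => or_iff_not_imp_right.2 fun hb => e b b.2 a a.2 hb ha⟩
  · exact ⟨1, fun b => Or.inr (by_contra fun hb => h ⟨b, hb⟩)⟩

/-- `P` acts on the set `X` of odd size (`IsPGroup.nonempty_fixed_point_of_prime_not_dvd_card`) -/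
theorem Cfg_fix_odd {F P : Subgroup G} (c : Cfg F P) {X : Set G} (hX : Odd X.ncard)
    (h2 : ∀ x ∈ X, x * x = 1) (hP : ∀ n ∈ P, ∀ x ∈ X, n * x * n⁻¹ ∈ X) : ∃ x ∈ X, x ∈ F := by
  let _ : MulAction P X :=
    { smul := fun n x => ⟨n * x * (n : G)⁻¹, hP n n.2 x x.2⟩
      one_smul := fun x => Subtype.ext (show (1 : G) * x * (1 : G)⁻¹ = x by simp)
      mul_smul := fun a b x => Subtype.ext
        (show (a : G) * b * x * ((a : G) * b)⁻¹ = a * (b * x * (b : G)⁻¹) * (a : G)⁻¹ by group) }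
  obtain ⟨x, hx⟩ := c.pg.nonempty_fixed_point_of_prime_not_dvd_card X
    (by rw [Nat.card_coe_set_eq]; exact hX.not_two_dvd_nat)
  refine ⟨x, x.2, c.cl _ (h2 x x.2) fun y hy => ?_⟩
  have : y * x * y⁻¹ = x := congrArg Subtype.val (hx ⟨y, hy⟩)
  exact (mul_inv_eq_iff_eq_mul.1 this).symm

/-- `fix_odd` for `U \ {1}` -/
theorem Cfg_fix_sub {F P : Subgroup G} (c : Cfg F P) {U : Subgroup G} (h1 : U ≠ ⊥)
    (h2 : ∀ x ∈ U, x * x = 1) (hP : ∀ n ∈ P, ∀ x ∈ U, n * x * n⁻¹ ∈ U) : ∃ x ∈ U, x ≠ 1 ∧ x ∈ F := by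
  have hU : IsPGroup 2 U := isPGroup_iff_forall_mem.2 fun x hx => ⟨1, by rw [pow_one, sq, h2 x hx]⟩
  obtain ⟨x, hx, h0⟩ := (U ⊓ centralizer (P : Set G)).bot_or_exists_ne_one.resolve_left
    (inf_centralizer_ne_bot c.pg hU (le_normalizer_of_cj_le fun n hn => cj_le_iff_forall.2 (hP n hn)) h1)
  exact ⟨x, hx.1, h0, c.cl x (h2 x hx.1) fun y hy => (hx.2 y hy).symm⟩

end CL.ML.BasB
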