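import Cfsg.Agent.SPOR.ML.ArkA
import Cfsg.Agent.SOLV.CoprimeSylow

/-!
Maximal 2-local subgroups of the Monster: the configuration of a maximal 2-local subgroup.
-/

set_option autoImplicit false
set_option linter.dupNamespace false

namespace CL.ML

open Cfsg CL.Leech CL.MT CL.LX CL.MSS CL.MP Subgroup
open CL.Golay (Code)
open scoped symmDiff

variable {G : Type*} [Group G] [Finite G] {z : G} {Q : Subgroup G} {R : leechLattice → G → Prop}
  {A : Co0 → G → Prop} {D : Set G}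

omit [Finite G] in
/-- the central elements of order at most two -/
def Base.om (P : Subgroup G) : Subgroup G where
  carrier := {x | x ∈ P ∧ x * x = 1 ∧ ∀ y ∈ P, x * y = y * x}
  one_mem' := ⟨one_mem _, mul_one _, fun y _ => by rw [one_mul, mul_one]⟩
  mul_mem' := fun {a b} ha hb => ⟨mul_mem ha.1 hb.1, by
      rw [mul_assoc, ← mul_assoc b, ← ha.2.2 b hb.1, mul_assoc, hb.2.1, mul_one, ha.2.1],
    fun y hy => by rw [mul_assoc, hb.2.2 y hy, ← mul_assoc, ha.2.2 y hy, mul_assoc]⟩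
  inv_mem' := fun {a} ha => by rw [inv_eq_of_mul_eq_one_right ha.2.1]; exact ha

theorem Base.om_ne {P : Subgroup G} (hP : IsPGroup 2 P) (h1 : P ≠ ⊥) : Base.om P ≠ ⊥ := by
  have := (nontrivial_iff_ne_bot P).2 h1
  have := hP.center_nontrivial
  obtain ⟨k, hk0, hk⟩ := (hP.to_subgroup (center P)).nontrivial_iff_card.1 this
  obtain ⟨c, hc⟩ := exists_prime_orderOf_dvd_card' (G := center P) 2
    (hk ▸ dvd_pow_self 2 hk0.ne')
  intro e
  have h2 : ((c : P) : G) ∈ Base.om P := by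
    refine ⟨c.1.2, ?_, fun y hy => ?_⟩
    · have : c * c = 1 := by rw [← pow_two, ← hc, pow_orderOf_eq_one]
      exact congrArg (fun x : center P => ((x : P) : G)) this
    · exact (congrArg Subtype.val (mem_center_iff.1 c.2 ⟨y, hy⟩)).symm
  rw [e, mem_bot] at h2
  have : c = 1 := Subtype.ext (Subtype.ext h2)
  rw [this, orderOf_one] at hc
  omega

theorem Base.om_norm (P : Subgroup G) :
    normalizer (P : Set G) ≤ normalizer (Base.om P : Set G) := by
  intro g hg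
  refine mem_normalizer_of_cj_le (cj_le_iff_forall.2 fun x hx => ⟨?_, ?_, fun y hy => ?_⟩)
  · exact conj_mem_of_mem_normalizer hg hx.1
  · rw [conj_mul, hx.2.1, mul_one, mul_inv_cancel]
  · have := hx.2.2 _ (conj_mem_of_mem_normalizer' hg hy)
    calc g * x * g⁻¹ * y = g * (x * (g⁻¹ * y * g)) * g⁻¹ := by group
      _ = y * (g * x * g⁻¹) := by rw [this]; group

theorem Base.nO {x c : G} (hc : c * x = x * c) : c ∈ normalizer (O2C x : Set G) :=
  mem_normalizer_of_cj_le (cj_le_iff_forall.2 fun _ hy => conj_mem_O2C hc hy)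

omit [Finite G] in
theorem Base.nC (X : Subgroup G) :
    normalizer (X : Set G) ≤ normalizer ((centralizer (X : Set G) : Subgroup G) : Set G) := by
  intro g hg
  rw [mem_normalizer_iff_cj, cj_centralizer, cj_eq_of_mem_normalizer hg]

/-- `H = N(T)`; `P = O₂(H)` (as a subgroup of `G`) contains `T`, `F = Ω₁ Z(P) ≠ 1` is normalised by `H`, so
`H = N(F)` and `H = N(P)` by maximality. Let `x ∈ F` be 2B. `C_{Q_x}(F)` is a normal 2-subgroup of `C(F)`
(`C(F) ≤ C(x)`), `C(F) ⊴ H`, so it lies in `O₂(C(F)) ≤ P`. An element `a` of odd order centralising `P`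
centralises `C_{Q_x}(P) ≤ C_{Q_x}(F) ≤ P`; Thompson's `A × B` lemma (find it in the library, or: `P` acts on
`[Q_x, a]`, use `ES.decomp`, `ES.cent_centralizer`) gives `[a, Q_x] = 1`, so `a ∈ ⟨x⟩`, `a = 1`. So `C(P)` is a
normal 2-subgroup of `H`, `C(P) ≤ P`. -/
theorem exists_cfg (h : MH z Q R A D) {H : Subgroup G} (hH : IsMaximalTwoLocal H) :
    ∃ F : Subgroup G, F ≠ ⊥ ∧ (∀ x ∈ F, x * x = 1) ∧ H = normalizer (F : Set G) ∧
      ((∃ x ∈ F, IsConj z x) → ∃ P, Cfg F P) := by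
  obtain ⟨⟨T, hT, hT1, hTH⟩, hmax⟩ := hH
  have hP : IsPGroup 2 (pCoreOf 2 H) := pcoreOf_isPGroup H
  have hP1 : pCoreOf 2 H ≠ ⊥ := fun e => hT1 (le_bot_iff.1 (e ▸
    le_pcoreOf (hTH ▸ le_normalizer) hTH.le hT))
  have hHP : H ≤ normalizer (pCoreOf 2 H : Set G) := le_normalizer_pcoreOf H
  have e1 := hmax _ ⟨_, hP, hP1, rfl⟩ hHP
  have hFP : Base.om (pCoreOf 2 H) ≤ pCoreOf 2 H := fun x hx => hx.1
  have e2 := hmax _ ⟨_, hP.to_le hFP, Base.om_ne hP hP1, rfl⟩ (hHP.trans (Base.om_norm _))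
  refine ⟨Base.om (pCoreOf 2 H), Base.om_ne hP hP1, fun x hx => hx.2.1, e2.symm, ?_⟩
  rintro ⟨x, hx, hz⟩
  refine ⟨pCoreOf 2 H, fun x hx => hx.2.1, fun x hx => hx.2.2, hFP, hP, fun u hu hc => ⟨?_, hu, hc⟩⟩
  have hQ : IsPGroup 2 (O2C x) := pcoreOf_isPGroup (centralizer {x})
  have h1 : O2C x ⊓ centralizer (Base.om (pCoreOf 2 H) : Set G) ≤ pCoreOf 2 H := by
    refine (le_pcoreOf inf_le_right (fun c hc => ?_) (hQ.to_le inf_le_left)).trans
      (pcoreOf_le_of_normal ((centralizer_le_normalizer _).trans e2.le) (e2.ge.trans (Base.nC _)))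
    rw [mem_normalizer_iff_cj, cj_inf, cj_eq_of_mem hc,
      cj_eq_of_mem_normalizer (Base.nO (mem_centralizer_iff.1 hc x hx).symm)]
  have h2 : IsPGroup 2 (centralizer (pCoreOf 2 H : Set G)) := by
    refine isPGroup_of_forall_coprime fun a ha ho => ?_
    have hPa : pCoreOf 2 H ≤ centralizer (zpowers a : Set G) :=
      le_centralizer_iff.1 (zpowers_le.2 ha)
    have h3 := thompson_p_times_q (pCoreOf 2 H) (zpowers a) (O2C x) hP
      (by rwa [Nat.card_zpowers]) hQ hPa (fun y hy => Base.nO (hx.2.2 y hy).symm)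
      (zpowers_le.2 (Base.nO (mem_centralizer_iff.1 ha x hx.1).symm))
      (((inf_le_inf_left _ (centralizer_le hFP)).trans h1).trans hPa)
    rcases (lx_of h hz).self_cent a
      (fun y hy => mem_centralizer_iff.1 (h3 hy) a (mem_zpowers a)) with e | e
    · exact e
    · exact eq_one_of_coprime_of_pow (k := 1) ho (by rw [pow_one, pow_two, e, hx.2.1])
  exact le_pcoreOf ((centralizer_le_normalizer _).trans e1.le) (e1.ge.trans (Base.nC _)) h2
    (mem_centralizer_iff.2 fun y hy => (hc y hy).symm)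

theorem Base.shape (h : MH z Q R A D)
    (np : ∀ x ∈ D, ∀ y ∈ D, ∀ u ∈ D, x * y ∈ D → x * u ∈ D → y * u ∈ D → x * (y * u) ∉ D)
    {F : Subgroup G} (h1 : F ≠ ⊥) (hF : ∀ x ∈ F, x ≠ 1 → x ∈ D) :
    (Nat.card F = 2 ∧ ∃ x ∈ F, x ≠ 1 ∧ ∀ g ∈ F, g = 1 ∨ g = x) ∨
    (Nat.card F = 4 ∧ ∃ x ∈ F, ∃ y ∈ F, x ≠ 1 ∧ y ≠ 1 ∧ y * x ≠ 1 ∧
      ∀ g ∈ F, g = 1 ∨ g = x ∨ g = y ∨ g = y * x) := by
  classical
  obtain ⟨⟨x, hx⟩, hx1⟩ := ne_bot_iff_exists_ne_one.1 h1
  have x1 : x ≠ 1 := fun e => hx1 (Subtype.ext e)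
  have sq : ∀ g ∈ F, g * g = 1 := fun g hg => by
    by_cases e : g = 1
    · rw [e, mul_one]
    · exact h.toAX.sq (hF g hg e)
  have iv : ∀ g ∈ F, g⁻¹ = g := fun g hg => inv_eq_of_mul_eq_one_right (sq g hg)
  have ne : ∀ a ∈ F, ∀ b, b ≠ a → a * b ≠ 1 := fun a ha b hb e =>
    hb ((eq_inv_of_mul_eq_one_right e).trans (iv a ha))
  by_cases h2 : ∀ g ∈ F, g = 1 ∨ g = x
  · refine Or.inl ⟨?_, x, hx, x1, h2⟩
    have : (F : Set G) = {1, x} := Set.ext fun g =>
      ⟨fun hg => h2 g hg, by rintro (rfl | rfl); exacts [one_mem F, hx]⟩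
    show Nat.card (F : Set G) = 2
    rw [Nat.card_coe_set_eq, this, Set.ncard_pair x1.symm]
  · push Not at h2
    obtain ⟨y, hy, y1, yx⟩ := h2
    have e3 : y * x ≠ 1 := ne y hy x yx.symm
    have h3 : ∀ g ∈ F, g = 1 ∨ g = x ∨ g = y ∨ g = y * x := by
      intro u hu
      by_contra hc
      push Not at hc
      obtain ⟨u1, ux, uy, uyx⟩ := hc
      refine np x (hF x hx x1) y (hF y hy y1) u (hF u hu u1)
        (hF _ (mul_mem hx hy) (ne x hx y yx)) (hF _ (mul_mem hx hu) (ne x hx u ux))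
        (hF _ (mul_mem hy hu) (ne y hy u uy)) (hF _ (mul_mem hx (mul_mem hy hu)) fun e => uyx ?_)
      rw [← mul_assoc] at e
      rw [eq_inv_of_mul_eq_one_right e, mul_inv_rev, iv x hx, iv y hy]
    refine Or.inr ⟨?_, x, hx, y, hy, x1, y1, e3, h3⟩
    have : (F : Set G) = {1, x, y, y * x} := Set.ext fun g =>
      ⟨fun hg => h3 g hg, by rintro (rfl | rfl | rfl | rfl); exacts [one_mem F, hx, hy, mul_mem hy hx]⟩
    show Nat.card (F : Set G) = 4
    rw [Nat.card_coe_set_eq, this]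
    exact Set.ncard_eq_four.2 ⟨1, x, y, y * x, x1.symm, y1.symm, e3.symm, yx.symm,
      fun e => y1 (by simpa using e.symm), fun e => x1 (by simpa using e.symm), rfl⟩

/-- `F` has order two or four by `np`; `h.trans`, `AX.adj_conj` -/
theorem pure_cls (h : MH z Q R A D)
    (np : ∀ x ∈ D, ∀ y ∈ D, ∀ u ∈ D, x * y ∈ D → x * u ∈ D → y * u ∈ D → x * (y * u) ∉ D)
    {F : Subgroup G} (h1 : F ≠ ⊥) (hF : ∀ x ∈ F, x ≠ 1 → x ∈ D) :
    (Nat.card F = 2 ∨ Nat.card F = 4) ∧ ∀ F' : Subgroup G, (∀ x ∈ F', x ≠ 1 → x ∈ D) →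
      Nat.card F' = Nat.card F → ∃ g : G, F' = g •ᶜ F := by
  have s := Base.shape h np h1 hF
  refine ⟨s.imp And.left And.left, fun F' hF' hc => ?_⟩
  have h1' : F' ≠ ⊥ := by
    rintro rfl
    rw [card_bot] at hc
    rcases s with s | s <;> have := s.1 <;> omega
  have s' := Base.shape h np h1' hF'
  have fin : ∀ g : G, (∀ x ∈ F, g * x * g⁻¹ ∈ F') → F' = g •ᶜ F := fun g hg =>
    (eq_of_le_of_card_ge (cj_le_iff_forall.2 hg) (by rw [card_cj, hc])).symm
  rcases s with ⟨c, x, hx, x1, hs⟩ | ⟨c, x, hx, y, hy, x1, y1, yx, hs⟩ <;>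
    rcases s' with ⟨c', x', hx', x1', -⟩ | ⟨c', x', hx', y', hy', x1', y1', yx', -⟩
  · obtain ⟨g, hg⟩ := isConj_iff.1 (h.trans (hF x hx x1) (hF' x' hx' x1'))
    refine ⟨g, fin g fun u hu => ?_⟩
    rcases hs u hu with rfl | rfl
    · simp
    · rwa [hg]
  · omega
  · omega
  · obtain ⟨g, hg⟩ := isConj_iff.1 (h.trans (hF x hx x1) (hF' x' hx' x1'))
    have h2 : g * y * g⁻¹ * x' ∈ D := by
      rw [← hg, conj_mul]; exact h.conj (hF _ (mul_mem hy hx) yx) g
    obtain ⟨k, hk, hk'⟩ := h.toAX.adj_conj (hF' x' hx' x1') (h.conj (hF y hy y1) g) (hF' y' hy' y1') h2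
      (hF' _ (mul_mem hy' hx') yx')
    have e1 : k * g * x * (k * g)⁻¹ = x' := by
      calc k * g * x * (k * g)⁻¹ = k * (g * x * g⁻¹) * k⁻¹ := by group
        _ = x' := by rw [hg, hk, mul_inv_cancel_right]
    have e2 : k * g * y * (k * g)⁻¹ = y' := by rw [← hk']; group
    refine ⟨k * g, fin _ fun u hu => ?_⟩
    rcases hs u hu with rfl | rfl | rfl | rfl
    · simp
    · rwa [e1]
    · rwa [e2]
    · rw [← conj_mul, e1, e2]; exact mul_mem hy' hx'

theorem Base.inj (h : MH z Q R A D) {a b : G} (ha : IsConj z a) (hb : IsConj z b)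
    (e : normalizer (zpowers a : Set G) = normalizer (zpowers b : Set G)) : a = b := by
  refine (((lx_of h ha).self_cent b fun y hy => ?_).resolve_left (sq_of h hb).2).symm
  have h1 : y ∈ normalizer (zpowers a : Set G) := by
    rw [mem_normalizer_iff_cj, cj_zpowers, ← comm_of_mem hy, mul_inv_cancel_right]
  rw [e] at h1
  rcases (mem_zpowers_of_sq (sq_of h hb).1).1
    (conj_mem_of_mem_normalizer h1 (mem_zpowers b)) with e1 | e1
  · exact absurd (by simpa using e1) (sq_of h hb).2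
  · exact (mul_inv_eq_iff_eq_mul.1 e1).symm

/-- padding -/
theorem pad (h : MH z Q R A D) (U : Fin 7 → Subgroup G) (hU : ∀ i, IsPGroup 2 (U i) ∧ U i ≠ ⊥) :
    ∃ S : Finset (Subgroup G), S.card = 7 ∧ (∀ H ∈ S, IsTwoLocal H) ∧
      ∀ i, normalizer (U i : Set G) ∈ S := by
  classical
  have := Fintype.ofFinite (Subgroup G)
  obtain ⟨φ, K, -⟩ := ac_A0 h
  have hφ : ∀ i : Fin 5 ⊕ Fin 5, IsConj z (φ (Pi.single i 1)) := fun i =>
    (K.fus _).2 ⟨by revert i; decide, q10_single i⟩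
  have h1 : (Finset.univ : Finset (Fin 5 ⊕ Fin 5)).card ≤
      (Finset.univ.filter fun H : Subgroup G => IsTwoLocal H).card := by
    refine Finset.card_le_card_of_injOn
      (fun i => normalizer (zpowers (φ (Pi.single i 1)) : Set G)) (fun i _ => ?_) fun i _ j _ e => ?_
    · have h2 := sq_of h (hφ i)
      refine Finset.mem_coe.2 (Finset.mem_filter.2 ⟨Finset.mem_univ _, _, ?_, ?_, rfl⟩)
      · refine IsPGroup.of_card (n := 1) ?_
        rw [Nat.card_zpowers, pow_one]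
        exact orderOf_eq_prime (by rw [pow_two, h2.1]) h2.2
      · exact zpowers_ne_bot.2 h2.2
    · exact (by decide : ∀ i j : Fin 5 ⊕ Fin 5, (Pi.single i 1 : V10) = Pi.single j 1 → i = j) i j
        (K.inj (Base.inj h (hφ i) (hφ j) e))
  obtain ⟨S, h2, h3, h4⟩ := Finset.exists_subsuperset_card_eq
    (s := Finset.univ.image fun i => normalizer (U i : Set G))
    (t := Finset.univ.filter fun H : Subgroup G => IsTwoLocal H) (n := 7)
    (fun H hH => by
      obtain ⟨i, -, rfl⟩ := Finset.mem_image.1 hH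
      exact Finset.mem_filter.2 ⟨Finset.mem_univ _, _, (hU i).1, (hU i).2, rfl⟩)
    (Finset.card_image_le.trans (by simp)) (le_trans (by simp) h1)
  exact ⟨S, h4, fun H hH => (Finset.mem_filter.1 (h3 hH)).2,
    fun i => h2 (Finset.mem_image_of_mem _ (Finset.mem_univ i))⟩

end CL.ML
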