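import Cfsg.Agent.SPOR.ML.Bas
import Cfsg.Agent.S0028

/-!
Maximal 2-local subgroups of the Monster: `C(O₂(H)) ≤ O₂(H)` when `Ω₁ Z(O₂(H))` has a 2B element.
-/

set_option autoImplicit false
set_option linter.dupNamespace false

namespace CL.ML.BaseC

open Cfsg CL.Leech CL.MT CL.LX CL.MSS CL.MP Subgroup

variable {G : Type*} [Group G] [Finite G] {z : G} {Q : Subgroup G} {R : leechLattice → G → Prop}
  {A : Co0 → G → Prop} {D : Set G}

/-- the involutions of the centre of `P` and `1` -/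
def om (P : Subgroup G) : Subgroup G where
  carrier := {x | x ∈ P ∧ (∀ y ∈ P, x * y = y * x) ∧ x * x = 1}
  one_mem' := ⟨P.one_mem, fun y _ => by simp, by simp⟩
  mul_mem' := by
    rintro a b ⟨a1, a2, a3⟩ ⟨b1, b2, b3⟩
    refine ⟨P.mul_mem a1 b1, fun y hy => by rw [mul_assoc, b2 y hy, ← mul_assoc, a2 y hy, mul_assoc], ?_⟩
    rw [mul_assoc, ← mul_assoc b, b2 a a1, mul_assoc a, b3, mul_one, a3]
  inv_mem' := by
    rintro a ⟨a1, a2, a3⟩
    rw [inv_eq_of_mul_eq_one_right a3]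
    exact ⟨a1, a2, a3⟩

theorem om_ne {P : Subgroup G} (hP : IsPGroup 2 P) (h1 : P ≠ ⊥) : om P ≠ ⊥ := by
  have : Nontrivial P := (nontrivial_iff_ne_bot P).2 h1
  have := hP.center_nontrivial
  have h2 : IsPGroup 2 (center P) := hP.to_subgroup _
  obtain ⟨n, hn, e⟩ := (h2.nontrivial_iff_card).1 inferInstance
  obtain ⟨x, hx⟩ := exists_prime_orderOf_dvd_card' (G := center P) 2 (e ▸ dvd_pow_self 2 hn.ne')
  refine ne_bot_iff_exists_ne_one.2 ⟨⟨x.1.1, x.1.2, fun y hy => ?_, ?_⟩, fun e => ?_⟩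
  · exact (congrArg Subtype.val (mem_center_iff.1 x.2 ⟨y, hy⟩)).symm
  · have := pow_orderOf_eq_one x
    rw [hx, pow_two] at this
    exact congrArg (fun t : center P => (t.1.1 : G)) this
  · have : x = 1 := Subtype.ext (Subtype.ext (congrArg (fun t : om P => (t : G)) e))
    rw [this, orderOf_one] at hx
    exact absurd hx (by norm_num)

omit [Finite G] in
theorem norm_om (P : Subgroup G) : normalizer (P : Set G) ≤ normalizer (om P : Set G) := by
  refine le_normalizer_of_cj_le fun n hn => ?_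
  intro x hx
  obtain ⟨y, ⟨y1, y2, y3⟩, rfl⟩ := mem_cj'.1 hx
  refine ⟨(mem_normalizer_iff.1 hn y).1 y1, fun w hw => ?_, by rw [conj_mul, y3]; group⟩
  have := y2 _ ((mem_normalizer_iff.1 (inv_mem hn) w).1 hw)
  calc n * y * n⁻¹ * w = n * (y * (n⁻¹ * w * n⁻¹⁻¹)) * n⁻¹ := by group
    _ = _ := by rw [this]; group

omit [Finite G] in
theorem norm_cent (P : Subgroup G) :
    normalizer (P : Set G) ≤ normalizer (centralizer (P : Set G) : Set G) := by
  intro n hn
  rw [mem_normalizer_iff_cj, cj_centralizer, cj_eq_of_mem_normalizer hn]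

theorem exists_cfg (h : MH z Q R A D) {H : Subgroup G} (hH : IsMaximalTwoLocal H) :
    ∃ F : Subgroup G, F ≠ ⊥ ∧ (∀ x ∈ F, x * x = 1) ∧ H = normalizer (F : Set G) ∧
      ((∃ x ∈ F, IsConj z x) → ∃ P, Cfg F P) := by
  obtain ⟨⟨T, hT, hT1, eT⟩, hm⟩ := hH
  set P := (pCore 2 H).map H.subtype with hPd
  have hP : IsPGroup 2 P := (oP_pCore_isPGroup (p := 2) (G := H)).map _
  have hle : ∀ {V : Subgroup G}, IsPGroup 2 V → V ≤ H → H ≤ normalizer (V : Set G) → V ≤ P :=
    fun a b c => le_map_pCore b c a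
  have hP1 : P ≠ ⊥ := fun e => hT1 (le_bot_iff.1 (e ▸ hle hT (eT ▸ le_normalizer) eT.le))
  have eP : normalizer (P : Set G) = H :=
    hm _ ⟨P, hP, hP1, rfl⟩ (le_normalizer.trans (normalizer_le_normalizer_map_pCore _))
  have hFP : om P ≤ P := fun x hx => hx.1
  have eF : normalizer (om P : Set G) = H :=
    hm _ ⟨om P, hP.to_le hFP, om_ne hP hP1, rfl⟩ (eP ▸ norm_om P)
  refine ⟨om P, om_ne hP hP1, fun x hx => hx.2.2, eF.symm, ?_⟩
  rintro ⟨x, hx, hz⟩
  refine ⟨P, fun x hx => hx.2.2, fun x hx => hx.2.1, hFP, hP, fun u u1 u2 => ⟨?_, u2, u1⟩⟩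
  have hU : IsPGroup 2 (O2C x) := (lx_of h hz).isPGroup
  have cx : ∀ {a : G}, a * x = x * a → a ∈ normalizer (O2C x : Set G) := fun e =>
    centralizer_le_normalizer_O2C x (mem_centralizer_singleton_iff.2 e)
  have k1 : O2C x ⊓ centralizer (om P : Set G) ≤ P := by
    refine (le_map_pCore (p := 2) inf_le_right ?_ (hU.to_le inf_le_left)).trans (hle
      ((oP_pCore_isPGroup (p := 2) (G := centralizer (om P : Set G))).map _)
      ((map_subtype_le _).trans (eF ▸ centralizer_le_normalizer _)) ?_)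
    · intro a ha
      rw [mem_normalizer_iff_cj, cj_inf, cj_eq_of_mem_normalizer (cx (ha x hx).symm),
        cj_eq_of_mem_normalizer (le_normalizer ha)]
    · exact (eF ▸ norm_cent (om P)).trans (normalizer_le_normalizer_map_pCore _)
  have k2 : ∀ a ∈ centralizer (P : Set G), Odd (orderOf a) → a = 1 := by
    intro a ha ho
    have cP : P ≤ centralizer (zpowers a : Set G) := le_centralizer_iff.1 (zpowers_le_of_mem ha)
    have k := Cfsg.Agent.S0028.result 2 P (zpowers a) (O2C x) hP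
      (by rw [Nat.card_zpowers]; exact Nat.coprime_two_right.2 ho) hU cP
      (fun y hy => cx (hx.2.1 y hy).symm) (zpowers_le_of_mem (cx (ha x hx.1).symm))
      (((inf_le_inf_left _ (centralizer_le hFP)).trans k1).trans cP)
    rcases (lx_of h hz).self_cent a (fun y hy => (k (mem_zpowers a) y hy).symm) with e | e
    · exact e
    · rw [e, orderOf_eq_prime (p := 2) (by rw [pow_two, hx.2.2]) (sq_of h hz).2] at ho
      exact absurd ho (by decide)
  refine hle (V := centralizer (P : Set G)) (fun g => ?_) (eP ▸ centralizer_le_normalizer _)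
    (eP ▸ norm_cent P) fun y hy => (u2 y hy).symm
  obtain ⟨k, m, hm, e⟩ := Nat.exists_eq_two_pow_mul_odd (orderOf_pos (g : G)).ne'
  refine ⟨k, Subtype.ext (k2 _ (pow_mem g.2 _) ?_)⟩
  refine hm.of_dvd_nat (orderOf_dvd_of_pow_eq_one ?_)
  rw [coe_pow, ← pow_mul, ← e, pow_orderOf_eq_one]

end CL.ML.BaseC
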