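import Cfsg.Agent.SPOR.ML.FrA
import Cfsg.Agent.SPOR.ML.ArkB

/-!
Maximal 2-local subgroups of the Monster: commuting arks.
-/

set_option autoImplicit false
set_option linter.dupNamespace false

namespace CL.ML

open Cfsg CL.Leech CL.MT CL.LX CL.MSS CL.MP Subgroup
open CL.Golay (Code)
open scoped symmDiff

variable {G : Type*} [Group G] [Finite G] {z : G} {Q : Subgroup G} {R : leechLattice → G → Prop}
  {A : Co0 → G → Prop} {D : Set G}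

variable {h : MH z Q R A D} {E E1 E2 E3 : Subgroup G}

namespace Comm

omit [Finite G] in
theorem two_triv {a q b w : G} (qa : q * a = a * q) (ba : b * a = a * b)
    (hq : q * w * q⁻¹ = w ∨ q * w * q⁻¹ = w * a) (hb : b * w * b⁻¹ = w ∨ b * w * b⁻¹ = w * a) :
    q * (b * w * b⁻¹) * q⁻¹ = b * (q * w * q⁻¹) * b⁻¹ := by
  have k : ∀ {c : G}, c * a = a * c → c * (w * a) * c⁻¹ = c * w * c⁻¹ * a := fun {c} e => by
    calc _ = c * w * c⁻¹ * (c * a) * c⁻¹ := by group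
      _ = _ := by rw [e]; group
  rcases hq with e | e <;> rcases hb with e' | e'
  · rw [e', e, e']
  · rw [e', e, e', k qa, e]
  · rw [e', e, k ba, e']
  · rw [e', e, k qa, k ba, e, e']

omit [Finite G] in
theorem sup_sq {U V : Subgroup G} (hU : ∀ x ∈ U, x * x = 1) (hV : ∀ x ∈ V, x * x = 1)
    (hc : V ≤ centralizer (U : Set G)) {x : G} (hx : x ∈ U ⊔ V) : x * x = 1 ∧ ∃ a ∈ U, ∃ b ∈ V, x = a * b := by
  obtain ⟨a, ha, b, hb, rfl⟩ := (mem_sup_of_le_normalizer' (hc.trans (centralizer_le_normalizer _))).1 hx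
  refine ⟨?_, a, ha, b, hb, rfl⟩
  calc a * b * (a * b) = a * (b * a) * b := by group
    _ = 1 := by rw [← hc hb a ha, ← mul_assoc, hU a ha, one_mul, hV b hb]

omit [Finite G] in
theorem card_sup {U V : Subgroup G} (hc : V ≤ centralizer (U : Set G)) :
    Nat.card ↥(U ⊔ V) * Nat.card ↥(U ⊓ V) = Nat.card U * Nat.card V :=
  card_sup_mul_card_inf_of_le_normalizer ((le_centralizer_iff.1 hc).trans (centralizer_le_normalizer _))

omit [Finite G] in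
theorem cj_cent (hc : E2 ≤ centralizer (E1 : Set G)) (g : G) :
    g •ᶜ E2 ≤ centralizer ((g •ᶜ E1 : Subgroup G) : Set G) := cj_centralizer g E1 ▸ cj_mono g hc

end Comm

/-- `W₂ = Wk a b` (`eq_Ak`) is generated by `a` and the `[q, b]`, which commute with `w ∈ W₁` as `b` fixes `w`
modulo `a`. `IsArk.cent` gives `W₂ ≤ C(E₁)`, `W₁ ≤ C(E₂)`, then `E₂ ≤ C(W₁)`, so `E₂ ≤ C(E₁)`. -/
theorem comm_of_triv (e1 : IsArk h E1) (e2 : IsArk h E2) {a b : G} (a1 : a ∈ E1) (a2 : a ∈ E2)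
    (hz : IsConj z a) (hb : b ∈ E2) (b1 : b ∉ O2C a)
    (ht : ∀ w ∈ E1, w ∈ O2C a → b * w * b⁻¹ = w ∨ b * w * b⁻¹ = w * a) :
    E2 ≤ centralizer (E1 : Set G) := by
  have hL := lx_of h hz
  have bb := e2.sq hb
  have hW := (e2.eq_Ak a2 hz hb b1 (y := b) (by rw [bb]; exact one_mem _)).2
  have h1 : ∀ w ∈ E1, w ∈ O2C a → w ∈ centralizer (E2 : Set G) := fun w hw hw' =>
    e2.cent a2 hz fun x hx hx' => by
      have h2 : Wk a b ≤ centralizer {w} := (closure_le _).2 (by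
        rintro _ (rfl | ⟨q, hq, rfl⟩)
        · exact mem_centralizer_singleton_iff.2 (e1.comm a1 hw)
        · have h3 := Comm.two_triv (hL.z_comm _ (inv_mem hq)) (e2.comm hb a2) (hL.conj_cases hw' (inv_mem hq))
            (ht w hw hw')
          refine mem_centralizer_singleton_iff.2 ?_
          rw [inv_eq_of_mul_eq_one_right bb] at h3 ⊢
          calc q * b * q⁻¹ * b * w = q * b * (q⁻¹ * (b * w * b) * q⁻¹⁻¹) * q⁻¹ * (b * b)⁻¹ * b := by group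
            _ = q * (b * b) * q⁻¹ * w * q * b * q⁻¹ * (b * b)⁻¹ * b := by rw [h3]; group
            _ = _ := by rw [bb]; group)
      exact (mem_centralizer_singleton_iff.1 (h2 (hW.ge ⟨hx, hx'⟩))).symm
  exact fun c hc => e1.cent a1 hz fun w hw hw' => h1 w hw hw' c hc

theorem OA.comm {O1 O2 : Code} (o1 : OA h O1 E1) (o2 : OA h O2 E2) (hd : Disjoint O1.1 O2.1) :
    E2 ≤ centralizer (E1 : Set G) := by
  obtain ⟨b, hb, -, b1⟩ := o2.ark.exists_not_mem o2.z_mem (IsConj.refl z)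
  refine comm_of_triv o1.ark o2.ark o1.z_mem o2.z_mem (IsConj.refl z) hb b1 ?_
  rw [O2C_z h] at b1 ⊢
  exact (o1.triv_iff (o2.ovr b hb b1)).2 (Or.inr hd)

/-- `oa_of_mem`, `OA.triv_iff`, `OA.unique` -/
theorem frame3 (e1 : IsArk h E1) (e2 : IsArk h E2) (ne : E1 ≠ E2) (hc : E2 ≤ centralizer (E1 : Set G))
    (z1 : z ∈ E1) (z2 : z ∈ E2) {s : G} (hs : R (e8 none) s) (s1 : s ∈ E1) (s2 : s ∈ E2) :
    ∃ O1 O2, OA h O1 E1 ∧ OA h O2 E2 ∧ Disjoint O1.1 O2.1 := by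
  obtain ⟨O1, o1⟩ := oa_of_mem h e1 z1 s1 hs
  obtain ⟨O2, o2⟩ := oa_of_mem h e2 z2 s2 hs
  obtain ⟨b, hb, -, b1⟩ := e2.exists_not_mem z2 (IsConj.refl z)
  rw [O2C_z h] at b1
  refine ⟨O1, O2, o1, o2, ((o1.triv_iff (o2.ovr b hb b1)).1 fun w hw _ =>
    Or.inl (mul_inv_eq_of_eq_mul (hc hb w hw).symm)).resolve_left fun m => ne ?_⟩
  obtain rfl : O1 = O2 := Subtype.ext (Finset.eq_of_subset_of_card_le m (by rw [o1.card, o2.card]))
  exact o1.unique o2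

/-- `rank_le` for `E₁ ⊔ E₂` -/
theorem le_card_inf (e1 : IsArk h E1) (e2 : IsArk h E2) (hc : E2 ≤ centralizer (E1 : Set G)) :
    32 ≤ Nat.card (E1 ⊓ E2 : Subgroup G) := by
  have h1 := Comm.card_sup hc
  have h2 := rank_le h (X := E1 ⊔ E2) fun x hx => (Comm.sup_sq (fun _ => e1.sq) (fun _ => e2.sq) hc hx).1
  rw [e1.card, e2.card] at h1
  nlinarith

/-- `exists_sing_ne` gives `s ≠ z` in `E₁ ⊓ E₂`, `s ∈ Q` by `eq_of_pair`; `move`, `frame3` -/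
theorem frame2 (e1 : IsArk h E1) (e2 : IsArk h E2) (ne : E1 ≠ E2) (hc : E2 ≤ centralizer (E1 : Set G))
    (z1 : z ∈ E1) (z2 : z ∈ E2) :
    ∃ c O1 O2, c * z = z * c ∧ OA h O1 (c •ᶜ E1) ∧ OA h O2 (c •ᶜ E2) ∧ Disjoint O1.1 O2.1 := by
  obtain ⟨s, hs, zs, sz⟩ := e1.exists_sing_ne (U := E1 ⊓ E2) inf_le_left
    ((by norm_num : 16 ≤ 32).trans (le_card_inf e1 e2 hc)) z
  have hQ : s ∈ Q := by
    by_contra m
    exact ne (e1.eq_of_pair e2 z1 z2 (IsConj.refl z) hs.1 hs.2 (by rwa [O2C_z h]))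
  obtain ⟨c, cz, hc'⟩ := move h hQ zs sz
  have k : ∀ {E : Subgroup G}, z ∈ E → z ∈ c •ᶜ E := fun m => by
    simpa [cz] using conj_mem_cj (g := c) m
  obtain ⟨O1, O2, o⟩ := frame3 (e1.conj c) (e2.conj c) (mt (cj_inj c).1 ne) (Comm.cj_cent hc c) (k z1) (k z2) hc'
    (conj_mem_cj hs.1) (conj_mem_cj hs.2)
  exact ⟨c, O1, O2, cz, o⟩

theorem Comm.frame (e1 : IsArk h E1) (e2 : IsArk h E2) (ne : E1 ≠ E2) (hc : E2 ≤ centralizer (E1 : Set G)) :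
    ∃ k O1 O2, OA h O1 (k •ᶜ E1) ∧ OA h O2 (k •ᶜ E2) ∧ Disjoint O1.1 O2.1 := by
  obtain ⟨u, hu, zu⟩ := e1.exists_sing (U := E1 ⊓ E2) inf_le_left
    ((by norm_num : 8 ≤ 32).trans (le_card_inf e1 e2 hc))
  obtain ⟨g, rfl⟩ := isConj_iff.1 zu
  have k : ∀ {E : Subgroup G}, g * z * g⁻¹ ∈ E → z ∈ g⁻¹ •ᶜ E := fun m => mem_cj.2 (by rwa [inv_inv])
  obtain ⟨c, O1, O2, -, o⟩ := frame2 (e1.conj g⁻¹) (e2.conj g⁻¹) (mt (cj_inj _).1 ne) (Comm.cj_cent hc _)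
    (k hu.1) (k hu.2)
  exact ⟨c * g⁻¹, O1, O2, by simpa only [cj_mul] using o⟩

/-- move a singular element to `z`; `frame2`, `LO.norm`, `isConj_iff_LO`, `sing_of`, `card_le_of_sing` -/
theorem wt_sing (e1 : IsArk h E1) (e2 : IsArk h E2) (ne : E1 ≠ E2) (hc : E2 ≤ centralizer (E1 : Set G)) :
    Sing z (E1 ⊓ E2) ∧ Nat.card (E1 ⊓ E2 : Subgroup G) = 32 ∧
      Nat.card (E1 ⊔ E2 : Subgroup G) = 2 ^ 15 := by
  obtain ⟨k, O1, O2, o1, o2, hd⟩ := Comm.frame e1 e2 ne hc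
  have h1 : ∀ x ∈ E1 ⊓ E2, x ≠ 1 → IsConj z x := fun x hx x1 => by
    have m1 := conj_mem_cj (g := k) hx.1
    have m2 := conj_mem_cj (g := k) hx.2
    have hQ : k * x * k⁻¹ ∈ Q := by
      by_contra m
      exact ne ((cj_inj k).1 (o1.ark.eq_of_pair o2.ark o1.z_mem o2.z_mem (IsConj.refl z) m1 m2 (by rwa [O2C_z h])))
    obtain ⟨v, hv, hv'⟩ := (o1.inf _).1 ⟨m1, hQ⟩
    obtain ⟨w, hw, hw'⟩ := (o2.inf _).1 ⟨m2, hQ⟩
    exact ((isConj_iff_LO h o1.card hv hv').2 ⟨by simpa using x1,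
      LO.norm o1.card o2.card hd hv hw (h.toMT.cong_of hv' hw')⟩).trans (isConj_iff.2 ⟨k, rfl⟩).symm
  have h2 := le_antisymm (e1.card_le_of_sing inf_le_left h1) (le_card_inf e1 e2 hc)
  have h3 := Comm.card_sup hc
  rw [e1.card, e2.card, h2] at h3
  exact ⟨e1.sing_of inf_le_left h1, h2, by omega⟩

theorem sup_sq (e1 : IsArk h E1) (e2 : IsArk h E2) (hc : E2 ≤ centralizer (E1 : Set G)) {x : G}
    (hx : x ∈ E1 ⊔ E2) : x * x = 1 ∧ ∃ a ∈ E1, ∃ b ∈ E2, x = a * b := by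
  exact Comm.sup_sq (fun _ => e1.sq) (fun _ => e2.sq) hc hx

/-- `rank_le` -/
theorem max_B (e1 : IsArk h E1) (e2 : IsArk h E2) (ne : E1 ≠ E2) (hc : E2 ≤ centralizer (E1 : Set G))
    {c : G} (h2 : c * c = 1) (c1 : c ∈ centralizer (E1 : Set G)) (c2 : c ∈ centralizer (E2 : Set G)) :
    c ∈ E1 ⊔ E2 := by
  have h1 : zpowers c ≤ centralizer ((E1 ⊔ E2 : Subgroup G) : Set G) := le_centralizer_iff.1
    (sup_le (le_centralizer_iff.1 (zpowers_le.2 c1)) (le_centralizer_iff.1 (zpowers_le.2 c2)))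
  have h3 := rank_le h (X := E1 ⊔ E2 ⊔ zpowers c) fun x hx =>
    (Comm.sup_sq (fun x hx => (sup_sq e1 e2 hc hx).1) (by
      rintro _ ⟨k, rfl⟩
      rw [← (Commute.refl c).mul_zpow, h2, one_zpow]) h1 hx).1
  rw [← (wt_sing e1 e2 ne hc).2.2] at h3
  exact (eq_of_le_of_card_ge le_sup_left h3).ge (mem_sup_right (mem_zpowers c))

theorem index_B (e1 : IsArk h E1) (e2 : IsArk h E2) (hc : E2 ≤ centralizer (E1 : Set G)) {u : G}
    (u1 : u ∈ E1) (u2 : u ∈ E2) (hz : IsConj z u) : (O2C u).relIndex (E1 ⊔ E2) ≤ 4 := by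
  have h1 := Comm.card_sup hc
  have h2 := Comm.card_sup (U := O2C u ⊓ E1) (V := O2C u ⊓ E2)
    (inf_le_right.trans (hc.trans (centralizer_le inf_le_right)))
  have h3 := CL.card_inf_mul_relIndex (O2C u) E1
  have h4 := CL.card_inf_mul_relIndex (O2C u) E2
  have h5 := CL.card_inf_mul_relIndex (O2C u) (E1 ⊔ E2)
  have h6 := card_le_of_le (sup_le (inf_le_inf_left _ le_sup_left) (inf_le_inf_left _ le_sup_right) :
    O2C u ⊓ E1 ⊔ O2C u ⊓ E2 ≤ O2C u ⊓ (E1 ⊔ E2))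
  have h7 := card_le_of_le (inf_le_inf inf_le_right inf_le_right : O2C u ⊓ E1 ⊓ (O2C u ⊓ E2) ≤ E1 ⊓ E2)
  rw [e1.relIndex_O2C u1 hz, e1.card] at h3
  rw [e2.relIndex_O2C u2 hz, e2.card] at h4
  rw [e1.card, e2.card, ← h5] at h1
  rw [show Nat.card ↥(O2C u ⊓ E1) = 2 ^ 9 by omega, show Nat.card ↥(O2C u ⊓ E2) = 2 ^ 9 by omega] at h2
  have h8 := Nat.mul_le_mul h6 h7
  rw [h2] at h8
  nlinarith

/-- `index_B`, `mem_of_index` -/
theorem inf_le_ark (e1 : IsArk h E1) (e2 : IsArk h E2) (ne : E1 ≠ E2) (hc : E2 ≤ centralizer (E1 : Set G))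
    (e3 : IsArk h E3) (h3 : E3 ≤ E1 ⊔ E2) : E1 ⊓ E2 ≤ E3 := by
  intro u hu
  by_cases u1 : u = 1
  · exact u1 ▸ one_mem _
  have hz := ((wt_sing e1 e2 ne hc).1 u hu u1).1
  exact e3.mem_of_index hz ((relIndex_le_of_le_right h3 (FiniteIndex.index_ne_zero)).trans
    (index_B e1 e2 hc hu.1 hu.2 hz))

/-- `frame2`; `M24` is transitive on ordered pairs of disjoint octads (or on trios, with `inf_le_ark`);
`OA.perm`, `OA.unique` -/
theorem WT.exists_conj {W W' : Subgroup G} (e : WT h W) (e' : WT h W') : ∃ g : G, W' = g •ᶜ W := by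
  obtain ⟨E1, E2, e1, e2, ne, hc, rfl⟩ := e
  obtain ⟨F1, F2, f1, f2, ne', hc', rfl⟩ := e'
  obtain ⟨k, O1, O2, o1, o2, hd⟩ := Comm.frame e1 e2 ne hc
  obtain ⟨l, P1, P2, p1, p2, hd'⟩ := Comm.frame f1 f2 ne' hc'
  obtain ⟨σ, hσ, s1, s2⟩ := Golay.exists_map_octad_pair ⟨O1.2, o1.card⟩ ⟨O2.2, o2.card⟩ ⟨P1.2, p1.card⟩
    ⟨P2.2, p2.card⟩ (by rw [Finset.disjoint_iff_inter_eq_empty.1 hd, Finset.disjoint_iff_inter_eq_empty.1 hd'])
  obtain ⟨c, hc⟩ := h.ex_c (permHom ⟨σ, hσ⟩)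
  refine ⟨l⁻¹ * (c * k), ?_⟩
  rw [cj_mul, cj_mul, cj_inf, cj_inf, ← p1.unique (o1.perm hc s1.symm), ← p2.unique (o2.perm hc s2.symm),
    ← cj_inf, inv_cj_cj]

/-- if there are two different members `E₁, E₂`, all members lie in `E₁ ⊔ E₂` (`max_B`) and contain `E₁ ⊓ E₂`,
which is therefore the intersection of the family -/
theorem fam {H : Subgroup G} {X : Set (Subgroup G)} (h0 : X.Nonempty) (h1 : ∀ E ∈ X, IsArk h E)
    (h2 : ∀ E ∈ X, ∀ E' ∈ X, E' ≤ centralizer (E : Set G)) (hH : ∀ n ∈ H, ∀ E ∈ X, n •ᶜ E ∈ X) :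
    (∃ E, IsArk h E ∧ H ≤ normalizer (E : Set G)) ∨ ∃ W, WT h W ∧ H ≤ normalizer (W : Set G) := by
  obtain ⟨E1, m1⟩ := h0
  by_cases h3 : ∀ E ∈ X, E1 = E
  · exact Or.inl ⟨E1, h1 _ m1, fun n hn => mem_normalizer_iff_cj.2 (h3 _ (hH n hn _ m1)).symm⟩
  push Not at h3
  obtain ⟨E2, m2, ne⟩ := h3
  have h4 : ∀ E ∈ X, E1 ⊓ E2 ≤ E := fun E m =>
    inf_le_ark (h1 _ m1) (h1 _ m2) ne (h2 _ m1 _ m2) (h1 _ m) fun c hc =>
      max_B (h1 _ m1) (h1 _ m2) ne (h2 _ m1 _ m2) ((h1 _ m).sq hc) (h2 _ m1 _ m hc) (h2 _ m2 _ m hc)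
  exact Or.inr ⟨_, ⟨E1, E2, h1 _ m1, h1 _ m2, ne, h2 _ m1 _ m2, rfl⟩, fun n hn => mem_normalizer_of_cj_le
    (le_inf (cj_le_iff.2 (h4 _ (hH _ (inv_mem hn) _ m1))) (cj_le_iff.2 (h4 _ (hH _ (inv_mem hn) _ m2))))⟩

theorem tg_of_fam {H : Subgroup G} {X : Set (Subgroup G)} (h0 : X.Nonempty) (h1 : ∀ E ∈ X, IsArk h E)
    (h2 : ∀ E ∈ X, ∀ E' ∈ X, E' ≤ centralizer (E : Set G)) (hH : ∀ n ∈ H, ∀ E ∈ X, n •ᶜ E ∈ X) :
    Tg h H := by
  rcases fam h0 h1 h2 hH with e | ⟨_, ⟨E1, E2, e1, e2, ne, hc, rfl⟩, e⟩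
  · exact Or.inr e
  · obtain ⟨s, c, -⟩ := wt_sing e1 e2 ne hc
    exact Or.inl ⟨_, s, fun m => by rw [m, card_bot] at c; omega, e⟩

/-- `b = a a₁ = a' a₂`. `IsArk.half` gives `U_i ≤ E ⊓ E_i` of order `≥ 16` with `a_i ∈ Q_u` for `1 ≠ u ∈ U_i`.
For `u ∈ U₁`, `u' ∈ U₂` not orthogonal `mem_of_pair` gives `a₁ ∈ E`, so `b ∈ E`. So `U₁ U₂` is singular
(`sing_closure`), of order `≤ 32` (`card_le_of_sing`), and `|U₁ ∩ U₂| ≥ 8`. -/
theorem lemI (e : IsArk h E) (e1 : IsArk h E1) (e2 : IsArk h E2) (n1 : E ≠ E1) (n2 : E ≠ E2)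
    (c1 : E1 ≤ centralizer (E : Set G)) (c2 : E2 ≤ centralizer (E : Set G)) {b : G} (b1 : b ∈ E ⊔ E1)
    (b2 : b ∈ E ⊔ E2) (hb : b ∉ E) : 8 ≤ Nat.card (E ⊓ E1 ⊓ E2 : Subgroup G) := by
  obtain ⟨-, a, ha, a1, ha1, e3⟩ := sup_sq e e1 c1 b1
  obtain ⟨-, a', ha', a2, ha2, e4⟩ := sup_sq e e2 c2 b2
  obtain ⟨s1, k1, -⟩ := wt_sing e e1 n1 c1
  obtain ⟨s2, k2, -⟩ := wt_sing e e2 n2 c2
  obtain ⟨U1, l1, r1, t1⟩ := e1.half inf_le_right s1 ha1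
  obtain ⟨U2, l2, r2, t2⟩ := e2.half inf_le_right s2 ha2
  have hc : U2 ≤ centralizer (U1 : Set G) := fun y hy x hx => e.comm (l1 hx).1 (l2 hy).1
  have h1 := e.card_le_of_sing (sup_le (l1.trans inf_le_left) (l2.trans inf_le_left)) fun x hx x1 => by
    obtain ⟨-, u, hu, v, hv, rfl⟩ :=
      Comm.sup_sq (fun _ m => e.sq (l1 m).1) (fun _ m => e.sq (l2 m).1) hc hx
    by_cases u1 : u = 1
    · rw [u1, one_mul] at x1 ⊢
      exact (s2 v (l2 hv) x1).1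
    by_cases v1 : v = 1
    · rw [v1, mul_one]
      exact (s1 u (l1 hu) u1).1
    have zu := (s1 u (l1 hu) u1).1
    have zv := (s2 v (l2 hv) v1).1
    refine ((e.perp_iff (l1 hu).1 zu (l2 hv).1 zv).1 (by_contra fun m => hb ?_)).resolve_left x1
    exact e3 ▸ mul_mem ha (e.mem_of_pair (l1 hu).1 zu (l2 hv).1 zv m (t1 u hu u1) (t2 v hv v1) ha ha'
      (by rw [← c1 ha1 a ha, ← c2 ha2 a' ha', ← e3, e4]))
  have h2 := Comm.card_sup hc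
  have h3 := card_le_of_le (le_inf (inf_le_left.trans l1) (inf_le_right.trans (l2.trans inf_le_right)) :
    U1 ⊓ U2 ≤ E ⊓ E1 ⊓ E2)
  rw [k1] at r1
  rw [k2] at r2
  have h4 : 16 * 16 ≤ Nat.card U1 * Nat.card U2 := Nat.mul_le_mul (by omega) (by omega)
  have h5 := Nat.mul_le_mul h1 h3
  omega

end CL.ML
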