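import Cfsg.Agent.SPOR.MP.P10F
import Cfsg.Agent.SPOR.MP.Rk4
import Cfsg.Agent.SPOR.MR.Inv
import Cfsg.Agent.SPOR.LXSing
import Cfsg.Agent.SPOR.MO.EMain

/-!
Maximal 2-local subgroups of the Monster: definitions.
One fixed coordinate system `h`; all reductions are made by conjugating the data.
`IsConj z x`: `x` is a 2B involution, `O2C x` is its extraspecial group; `x ⊥ y` means `y ∈ O2C x`.
-/

set_option autoImplicit false
set_option linter.dupNamespace false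

namespace CL.ML

open Cfsg CL.Leech CL.MT CL.LX CL.MSS CL.MP Subgroup
open CL.Golay (Code)

variable {G : Type*} [Group G]

/-- the hypotheses on the group -/
structure MH (z : G) (Q : Subgroup G) (R : leechLattice → G → Prop) (A : Co0 → G → Prop)
    (D : Set G) : Prop extends MO.AX z Q R A D where
  hB : ∀ k c, k * k = neg1 → A k c → c * c ≠ 1
  hG : ¬ 2 ^ 47 ∣ Nat.card G

/-- `⟨a⟩ [Q_a, y]` -/
def Wk (a y : G) : Subgroup G := closure ({a} ∪ {w | ∃ q ∈ O2C a, w = q * y * q⁻¹ * y⁻¹})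

/-- the ark attached to `a` and `y` -/
def Ak (a y : G) : Subgroup G :=
  centralizer ((O2C a ⊓ centralizer (Wk a y : Set G) : Subgroup G) : Set G)

/-- `y` lies over the class of the octad sign changes in `C(a) / Q_a` -/
def OctT (z : G) (A : Co0 → G → Prop) (a y : G) : Prop :=
  ∃ g, g * z * g⁻¹ = a ∧ A E8C.t (g⁻¹ * y * g)

/-- singular subgroups -/
def Sing (z : G) (U : Subgroup G) : Prop := ∀ u ∈ U, u ≠ 1 → IsConj z u ∧ U ≤ O2C u

/-- `F = Ω₁ Z(P)` contains all involutions centralising `P` -/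
structure Cfg (F P : Subgroup G) : Prop where
  sq : ∀ x ∈ F, x * x = 1
  comm : ∀ x ∈ F, ∀ y ∈ P, x * y = y * x
  le : F ≤ P
  pg : IsPGroup 2 P
  cl : ∀ u, u * u = 1 → (∀ y ∈ P, u * y = y * u) → u ∈ F

/-- `x` is a 2B element of `F` with `|F : F ∩ Q_x|` minimal -/
structure Mn (z : G) (F : Subgroup G) (x : G) : Prop where
  cj : IsConj z x
  mem : x ∈ F
  min : ∀ u ∈ F, IsConj z u → (O2C x).relIndex F ≤ (O2C u).relIndex F

/-- `F ∩ Q_u` has index at most two in `F` -/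
def G1 (F : Subgroup G) (u : G) : Prop := ∀ f ∈ F, ∀ g ∈ F, f ∉ O2C u → g ∉ O2C u → f * g ∈ O2C u

/-- supported on `O` -/
def LO (O : Finset GolayPt) (v : leechLattice) : Prop := ∀ p ∉ O, v.1 p = 0

/-- `x` lies over a vector `4 a` and `S` is the set of the odd coordinates of `a` -/
def R4 (R : leechLattice → G → Prop) (S : Finset GolayPt) (x : G) : Prop :=
  ∃ (v : leechLattice) (a : GolayPt → ℤ), R v x ∧ (∀ p, v.1 p = 4 * a p) ∧ ∀ p, Odd (a p) ↔ p ∈ S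

/-- `f = p q` with `p ∈ Q_s`, `q` over a vector `2 a`, `d` the set of odd coordinates of `a` -/
def Dv (R : leechLattice → G → Prop) (s f : G) (d : Finset GolayPt) : Prop :=
  ∃ p ∈ O2C s, ∃ (q : G) (v : leechLattice) (a : GolayPt → ℤ), f = p * q ∧ R v q ∧
    (∀ i, v.1 i = 2 * a i) ∧ ∀ i, Odd (a i) ↔ i ∈ d

variable {z : G} {Q : Subgroup G} {R : leechLattice → G → Prop} {A : Co0 → G → Prop} {D : Set G}

/-- the standard ark -/
def A0 (h : MH z Q R A D) : Subgroup G := centralizer (PE h.toMT : Set G)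

/-- arks -/
def IsArk (h : MH z Q R A D) (E : Subgroup G) : Prop := ∃ g : G, E = g •ᶜ A0 h

/-- the intersection of two commuting arks -/
def WT (h : MH z Q R A D) (W : Subgroup G) : Prop := ∃ E1 E2, IsArk h E1 ∧ IsArk h E2 ∧ E1 ≠ E2 ∧
  E2 ≤ centralizer (E1 : Set G) ∧ W = E1 ⊓ E2

/-- `H` normalises a singular subgroup or an ark -/
def Tg (h : MH z Q R A D) (H : Subgroup G) : Prop :=
  (∃ U, Sing z U ∧ U ≠ ⊥ ∧ H ≤ normalizer (U : Set G)) ∨ ∃ E, IsArk h E ∧ H ≤ normalizer (E : Set G)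

/-- `E` is the ark at `z` of the octad `O` -/
structure OA (h : MH z Q R A D) (O : Code) (E : Subgroup G) : Prop where
  ark : IsArk h E
  card : O.1.card = 8
  z_mem : z ∈ E
  ovr : ∀ b ∈ E, b ∉ Q → A (sgn O) b
  inf : ∀ x, x ∈ E ∧ x ∈ Q ↔ ∃ v, LO O.1 v ∧ R v x

/-- coordinates on an ark -/
structure AC (z : G) (E : Subgroup G) (φ : V10 → G) : Prop where
  add : ∀ u v, φ (u + v) = φ u * φ v
  inj : Function.Injective φ
  mem : ∀ x, x ∈ E ↔ ∃ v, φ v = x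
  fus : ∀ v, IsConj z (φ v) ↔ v ≠ 0 ∧ q10 v = 0
  perp : ∀ a v, a ≠ 0 → q10 a = 0 → (φ v ∈ O2C (φ a) ↔ QuadraticMap.polar q10 a v = 0)
  act : ∀ n ∈ normalizer (E : Set G), ∃ g ∈ OrthE.E q10, ∀ v, n * φ v * n⁻¹ = φ (g.1 v)
  surj : ∀ g ∈ OrthE.E q10, ∃ n ∈ normalizer (E : Set G), ∀ v, n * φ v * n⁻¹ = φ (g.1 v)
  nrefl : ∀ a, q10 a = 1 → ∀ n : G, ¬ ∀ v, n * φ v * n⁻¹ = φ ((Orth.refl q10 a).1 v)

end CL.ML
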