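import Cfsg.Agent.SPOR.ML.FrC

/-!
Maximal 2-local subgroups of the Monster: no dodecad sign changes in the minimal configuration.
-/

set_option autoImplicit false
set_option linter.dupNamespace false

namespace CL.ML

open Cfsg CL.Leech CL.MT CL.LX CL.MSS CL.MP Subgroup
open CL.Golay (Code)
open scoped symmDiff

variable {G : Type*} [Group G] [Finite G] {z : G} {Q : Subgroup G} {R : leechLattice → G → Prop}
  {A : Co0 → G → Prop} {D : Set G}

namespace Dod
open CL.Co1T (pr dD pr_surj pr_eq_iff pr_eq_one cases_of_sq dod_dD pr_mem_N0)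
open CL.Gr (o3 cong_add_zero)

theorem four_dvd {w : leechLattice} (hn : (32 : ℤ) ∣ sqNorm (w + sgn dD • w).1) (i : GolayPt) :
    (4 : ℤ) ∣ (w + sgn dD • w).1 i := by
  have e : ∀ j, (w + sgn dD • w).1 j = if j ∈ dD.1 then 0 else 2 * w.1 j := fun j => by
    rw [AddSubgroup.coe_add, Pi.add_apply, sgn_apply]; split_ifs <;> ring
  by_contra hi
  have h1 : ∀ j, (32 : ℤ) ∣ (w + sgn dD • w).1 j ^ 2 - if j ∈ dD.1 then 0 else 4 := fun j => by
    have h2 := eight_dvd_dot w.2 (f44 i j).2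
    rw [dot_f44] at h2
    rw [e] at hi ⊢
    have hi' : ¬ (4 : ℤ) ∣ 2 * w.1 i := by
      split_ifs at hi
      exacts [absurd (dvd_zero _) hi, hi]
    split_ifs
    · simp
    · obtain ⟨k, hk⟩ : ∃ k, w.1 j = 2 * k + 1 := ⟨w.1 j / 2, by omega⟩
      obtain ⟨l, hl⟩ := Int.even_mul_succ_self k
      exact ⟨l, by rw [hk]; linear_combination 16 * hl⟩
  have h2 := Finset.dvd_sum (s := Finset.univ) fun j _ => h1 j
  rw [Finset.sum_sub_distrib, show (∑ j, if j ∈ dD.1 then (0 : ℤ) else 4) = 48 by decide +kernel] at h2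
  unfold sqNorm at hn
  omega

theorem into (h : MH z Q R A D) {y : G} (hu : A (sgn dD) y) (h2 : y * y = 1) :
    ∃ g, R (e8 none) (g * z * g⁻¹) ∧ y ∈ g •ᶜ Q := by
  have k := h.toMT
  obtain ⟨g, u, hs, hy, hA, y2⟩ : ∃ g y, R (e8 none) (g * z * g⁻¹) ∧ y ∈ g •ᶜ Q ∧ A (sgn dD) y ∧
      y * y = 1 := by
    obtain ⟨g, y, hs, hy, hA⟩ := MR.exists_P k dD
    have hP := k.lx.conj g
    rcases hP.sq y hy with e | e
    · exact ⟨g, y, hs, hy, hA, e⟩
    obtain ⟨f, hf⟩ := k.ex_x (f44 (some 0) (some 5))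
    refine ⟨g, y * f, hs, mul_mem hy (f44_mem k hs hf),
      by simpa using k.A_mul hA (k.A_one (k.R_mem hf)), ?_⟩
    rw [hP.mul_sq_of_not_comm hy (f44_mem k hs hf) fun ec => ?_, e,
      (k.sq_iff hf).2 (by rw [sqNorm_f44 (by decide)]), mul_one, hP.z_sq]
    have := (cong_of_comm k hA hf ec).dvd_dot o3
    rw [← dot_smul (sgn dD), ← mul_smul, Sgn_sq (sgn_mem _), one_smul, dot_comm, dot_f44,
      dot_comm, dot_f44, sgn_apply, sgn_apply] at this
    revert this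
    decide +kernel
  obtain ⟨ρ, hr⟩ := MR.exists_r k hu hA
  obtain ⟨w, hw⟩ := MR.dod_lat (MR.cong_of_invol k hA h2 y2 hr)
  obtain ⟨x, hx⟩ := k.ex_x w
  have h1 := four_mem_cj k hs (v := 0) (by simp)
    (k.R_of_cong (k.R_mul (k.R_mul (k.R_inv hx) (k.R_conj hu hx)) hr) (cong_add_zero.2 hw.symm))
  have xz : x * z * x⁻¹ = z := by rw [← k.A_comm (k.A_one (k.R_mem hx)) |>.symm, mul_inv_cancel_right]
  refine ⟨x * g, ?_, ?_⟩
  · have := k.R_conj (k.A_one (k.R_mem hx)) hs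
    rw [one_smul] at this
    convert this using 1; group
  · have := mem_cj.1 (mul_mem h1 hy)
    exact mem_cj.2 (by convert this using 1; group)

theorem no (h : MH z Q R A D) {F P : Subgroup G} (c : Cfg F P) {y : G} (m : Mn z F z) (hy : y ∈ F)
    (hA : A (sgn dD) y) : False := by
  have k := h.toMT
  obtain ⟨g, hs, hg⟩ := into h hA (c.sq y hy)
  have hQ : y ∉ Q := fun e => by
    have h12 := Golay.D0_mem.2
    rcases (mem_Q_iff_sgn h hA).1 e with a | a <;> rw [show Golay.E.setOf Golay.D0 = _ from a] at h12 <;>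
      revert h12 <;> decide
  obtain ⟨s1, s2, s3⟩ := cj_e8 h hs
  rw [← O2C_cj h] at hg
  have sF : g * z * g⁻¹ ∈ F := by
    refine c.cl _ (sq_of h s1).1 fun n hn => ?_
    obtain ⟨a, ha⟩ := k.ex_g n (c.comm z m.mem n hn).symm
    have ny := (c.comm y hy n hn).symm
    have h1 := (k.A_ker (k.A_mul (k.A_mul (k.A_mul ha hA) (k.A_inv ha)) (k.A_inv hA))).1
      (by rw [ny, mul_inv_cancel_right, mul_inv_cancel]; exact one_mem _)
    have h2 := pr_eq_one.2 (MT.mem_center_iff.1 h1)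
    rw [map_mul, map_mul, map_mul, map_inv, map_inv, mul_inv_eq_one, mul_inv_eq_iff_eq_mul] at h2
    have h3 := pr_mem_N0.1 (dod_dD.cent h2)
    rw [← St_e8 none, mem_St] at h3
    rcases k.cases_of hs (k.R_of_cong (k.R_conj ha hs) h3) with e | e
    · exact (mul_inv_eq_iff_eq_mul.1 e).symm
    · have h4 := (mem_O2C_conj n).2 hg
      rw [e, ny, mul_inv_cancel_right] at h4
      exact absurd (O2C_z h ▸ tri' h (IsConj.refl z) s1 ((O2C_z h).symm ▸ s2) s3 hg h4) hQ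
  refine absurd (m.min _ sF s1) (not_le.2 (index_strictAnti (lt_of_le_of_ne (fun p hp => ?_) fun e => ?_)))
  · rw [mem_subgroupOf, O2C_z h] at hp
    obtain ⟨v, hv⟩ := k.ex_v _ hp
    obtain ⟨w, hw⟩ := MR.dod_lat (cong_of_comm k hA hv (c.comm' hy p.2))
    have hv' := k.R_of_cong hv hw
    rw [mem_subgroupOf, O2C_cj h]
    exact four_mem_cj k hs (four_dvd ((k.sq_iff hv').1 (c.sq _ p.2))) hv'
  · have : (⟨y, hy⟩ : F) ∈ (O2C z).subgroupOf F := e ▸ hg
    exact hQ (O2C_z h ▸ this)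

theorem std (h : MH z Q R A D) {F P : Subgroup G} (c : Cfg F P) {y : G} (m : Mn z F z) (hy : y ∈ F)
    (hn : y ∉ Q) : OctT z A z y := by
  have k := h.toMT
  obtain ⟨a, ha⟩ := k.ex_g y (c.comm' hy m.mem)
  have y2 := c.sq y hy
  rcases MT.mem_center_iff.1 ((k.A_ker (k.A_mul ha ha)).1 (y2 ▸ one_mem _)) with e | e
  swap
  · exact absurd y2 (h.hB _ _ e ha)
  rcases cases_of_sq e with b | b | b
  · exact absurd ((k.A_ker ha).2 (MT.mem_center_iff.2 (pr_eq_one.1 b))) hn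
  · exact (octT_iff h).2 ⟨a, ha, b⟩
  · exfalso
    obtain ⟨n, hm⟩ := b.exists_conj dod_dD.cc
    obtain ⟨n, rfl⟩ := pr_surj n
    obtain ⟨d, hd⟩ := k.ex_c n
    have h1 := k.A_mul (k.A_mul hd ha) (k.A_inv hd)
    rw [← map_inv, ← map_mul, ← map_mul, eq_comm, pr_eq_iff] at hm
    have m' := m.conj d
    rw [k.A_comm hd, mul_inv_cancel_right] at m'
    refine no h (c.conj d) m' (y := d * y * d⁻¹) (mem_cj.2 (by simpa [mul_assoc] using hy)) ?_
    rcases hm with e | e <;> rw [e]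
    exacts [h1, k.A_center h1 neg1_mem_center]

end Dod

/-- Conjugate to `x = z`. `A k y`, `k² ∈ {1, neg1}`, `h.hB`, `cases_of_sq`, `octT_iff`. In the case `CC`
conjugate so that `A (sgn dD) y`; `s` over `e8`. As in `MR.dod_into`, `MR.conj_into`: `y` is conjugate under
`Q` into `Q_s`, so `y ∈ Q_u`, `u ∈ {s, s z}`, for exactly one `u` (`tri'`). `P` centralises `z, y`, so its
lifts lie in the monomial group (`Dod.cent`, `St_e8`) and `P` permutes `{s, s z}`, hence centralises `u`, and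
`u ∈ F` (`Cfg.cl`). `p ∈ F ∩ Q` over `v`: `v ≡ w + sgn dD • w = 2 w` off `D` (`MR.dod_lat`), `32 ∣` norm forces
`w` even, so `p ∈ Q_u` (`r4_iff`). So `F ∩ Q < F ∩ Q_u`, against `Mn.min`. -/
theorem Cfg.octT (h : MH z Q R A D) {F P : Subgroup G} (c : Cfg F P) {x y : G} (m : Mn z F x) (hy : y ∈ F)
    (hn : y ∉ O2C x) : OctT z A x y := by
  obtain ⟨g, rfl⟩ := isConj_iff.1 m.cj
  have m' := m.conj g⁻¹
  rw [show g⁻¹ * (g * z * g⁻¹) * g⁻¹⁻¹ = z by group] at m'
  have := (Dod.std h (c.conj g⁻¹) m' (y := g⁻¹ * y * g) (mem_cj.2 (by simpa [mul_assoc] using hy))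
    fun e => hn (by rw [O2C_cj h]; exact mem_cj.2 e)).conj g
  rwa [show g * (g⁻¹ * y * g) * g⁻¹ = y by group] at this

end CL.ML
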