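import Cfsg.Agent.SPOR.ML.FourC
import Cfsg.Agent.SPOR.ML.Dod

/-!
Maximal 2-local subgroups of the Monster: the images of two elements act trivially on each other's ark.
-/

set_option autoImplicit false
set_option linter.dupNamespace false

namespace CL.ML

open Cfsg CL.Leech CL.MT CL.LX CL.MSS CL.MP Subgroup
open CL.Golay (Code)
open scoped symmDiff

variable {G : Type*} [Group G] [Finite G] {z : G} {Q : Subgroup G} {R : leechLattice → G → Prop}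
  {A : Co0 → G → Prop} {D : Set G}

namespace FourA

theorem ovr (h : MH z Q R A D) {y : G} {O : Code} (o : OctT z A z y) (k : OA h O (Ak z y)) :
    A (sgn O) y := by
  obtain ⟨e, -, -, b, hb, b1, b2⟩ := o.ark h
  rw [O2C_z h] at b1 b2
  have := h.A_mul (k.ovr b hb b1) (h.toMT.A_one b2)
  rwa [mul_one, ← mul_assoc, e.sq hb, one_mul] at this

theorem card_sd (s t : Finset GolayPt) : (s ∆ t).card + 2 * (s ∩ t).card = s.card + t.card := by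
  have h1 := Finset.card_union_add_card_inter s t
  have h2 := Finset.card_sdiff_add_card_inter (s ∪ t) (s ∩ t)
  rw [Finset.inter_eq_right.2 (Finset.inter_subset_union), ← Finset.sup_eq_union, ← Finset.inf_eq_inter,
    ← symmDiff_eq_sup_sdiff_inf, Finset.sup_eq_union, Finset.inf_eq_inter] at h2
  omega

theorem std (h : MH z Q R A D) {F : Subgroup G} {y1 y2 u : G} (sq : ∀ f ∈ F, f * f = 1) (m1 : y1 ∈ F)
    (m2 : y2 ∈ F) (o1 : OctT z A z y1) (o2 : OctT z A z y2) (o3 : OctT z A z (y1 * y2))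
    (gen : ∀ f ∈ F, f ∈ Q ∨ y1 * f ∈ Q ∨ y2 * f ∈ Q ∨ y1 * y2 * f ∈ Q)
    (nt : ∃ w ∈ Ak z y1, w ∈ Q ∧ y2 * w * y2⁻¹ ≠ w ∧ y2 * w * y2⁻¹ ≠ w * z)
    (u1 : u ∈ Ak z y1) (u2 : u ∈ Ak z y2) (hu : IsConj z u) (hs : R (e8 none) u) :
    {v | v ∈ Ak z y1 ∧ v ∈ Ak z y2 ∧ IsConj z v ∧ v ≠ z}.ncard = 6 ∧
    (∀ v ∈ Ak z y1, v ∈ Ak z y2 → IsConj z v → v ∈ O2C u) ∧ ¬ (G1 F u ∧ G1 F (u * z)) ∧
      (G1 F u ∨ G1 F (u * z) ∨ ∃ v ∈ Ak z y1, v ∈ Ak z y2 ∧ IsConj z v ∧ v ≠ z ∧ F ≤ O2C v) := by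
  obtain ⟨e1, z1, -⟩ := o1.ark h
  obtain ⟨e2, z2, -⟩ := o2.ark h
  obtain ⟨O1, k1⟩ := oa_of_mem h e1 z1 u1 hs
  obtain ⟨O2, k2⟩ := oa_of_mem h e2 z2 u2 hs
  have a1 := ovr h o1 k1
  have a2 := ovr h o2 k2
  have c : (O1.1 ∩ O2.1).card = 4 := by
    have h1 := (octT_sgn h (A_sgn_mul h (e := ⟨_, Golay.symmDiff_mem_code O1.2 O2.2⟩) a1 a2 rfl)).1 o3
    have h2 := card_sd O1.1 O2.1
    rw [k1.card, k2.card] at h2
    rcases h1 with h1 | h1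
    · have h1' : (O1.1 ∆ O2.1).card = 8 := h1
      omega
    · have h1' : (O1.1 ∆ O2.1).card = 16 := h1
      obtain ⟨w, hw, wQ, n1, n2⟩ := nt
      have h3 : Disjoint O1.1 O2.1 :=
        Finset.disjoint_iff_inter_eq_empty.2 (Finset.card_eq_zero.1 (by omega))
      exact ((k1.triv_iff a2).2 (.inr h3) w hw wQ).elim (fun e => absurd e n1) fun e => absurd e n2
  have k : F4 h F y1 y2 O1 O2 := ⟨k1.card, k2.card, c, sq, m1, m2, a1, a2, gen⟩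
  have hs' := h.toMT.R_z hs
  have zz : u * z * z = u := by rw [mul_assoc, (sq_of h (IsConj.refl z)).1, mul_one]
  have core : ∀ {s}, R (e8 none) s → Good R F s (O1.1 ∪ O2.1) → ¬ G1 F s →
      ∃ v ∈ Ak z y1, v ∈ Ak z y2 ∧ IsConj z v ∧ v ≠ z ∧ F ≤ O2C v := fun hs g n => by
    obtain ⟨v, hv, l⟩ := k.core hs g n
    obtain ⟨v1, v2, v3, v4⟩ := (four_K hs k1 k2 c).2 (.inr (.inr hv))
    exact ⟨v, v1, v2, v3, v4, l⟩
  refine ⟨four_card k1 k2 c, fun v v1 v2 hv => four_perp k1 k2 c u1 u2 hu v1 v2 hv, fun g => ?_, ?_⟩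
  · rcases k.good hs with e | e
    · exact k.not_G1 hs e g.2
    · exact k.not_G1 hs' e (zz.symm ▸ g.1)
  · rcases k.good hs with e | e
    · exact (em _).imp_right fun n => .inr (core hs e n)
    · exact .inr ((em _).imp_right fun n => core hs' e n)

end FourA

/-- `E_i = Ak z y_i`. `move` `u` over `e8` by `c ∈ C(z)`, `oa_of_mem`, `OA.ovr` and `OctT.ark` put `y_i` over
`sgn O_i`; `octT_sgn` for `y₁ y₂` gives `|O₁ ∆ O₂| ∈ {8, 16}`, and `O₁, O₂` are not disjoint by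
`OA.triv_iff`. Then `F4.good`, `F4.not_G1`, `F4.core`, `four_K`, `four_card`, `four_perp`. -/
theorem frame4 (h : MH z Q R A D) {F : Subgroup G} {y1 y2 u : G} (sq : ∀ f ∈ F, f * f = 1) (m1 : y1 ∈ F)
    (m2 : y2 ∈ F) (o1 : OctT z A z y1) (o2 : OctT z A z y2) (o3 : OctT z A z (y1 * y2))
    (gen : ∀ f ∈ F, f ∈ Q ∨ y1 * f ∈ Q ∨ y2 * f ∈ Q ∨ y1 * y2 * f ∈ Q)
    (nt : ∃ w ∈ Ak z y1, w ∈ Q ∧ y2 * w * y2⁻¹ ≠ w ∧ y2 * w * y2⁻¹ ≠ w * z)
    (u1 : u ∈ Ak z y1) (u2 : u ∈ Ak z y2) (hu : IsConj z u) (ne : u ≠ z) :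
    {v | v ∈ Ak z y1 ∧ v ∈ Ak z y2 ∧ IsConj z v ∧ v ≠ z}.ncard = 6 ∧
    (∀ v ∈ Ak z y1, v ∈ Ak z y2 → IsConj z v → v ∈ O2C u) ∧ ¬ (G1 F u ∧ G1 F (u * z)) ∧
      (G1 F u ∨ G1 F (u * z) ∨ ∃ v ∈ Ak z y1, v ∈ Ak z y2 ∧ IsConj z v ∧ v ≠ z ∧ F ≤ O2C v) := by
  obtain ⟨e1, z1, -⟩ := o1.ark h
  obtain ⟨e2, z2, -⟩ := o2.ark h
  obtain ⟨w, hw, wQ, n1, n2⟩ := nt
  have uQ : u ∈ Q := by
    by_contra n
    have e := e1.eq_of_pair e2 z1 z2 (IsConj.refl z) u1 u2 (O2C_z h ▸ n)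
    have := mem_centralizer_iff.1 (o2.cent_self h (sq _ m2)) w (e ▸ hw)
    exact n1 (by rw [← this, mul_inv_cancel_right])
  obtain ⟨c, hc, hs⟩ := move h uQ hu ne
  have cz : c * z * c⁻¹ = z := by rw [hc, mul_inv_cancel_right]
  have ak : ∀ y, Ak z (c * y * c⁻¹) = c •ᶜ Ak z y := fun y => by rw [← Ak_conj, cz]
  have oc : ∀ {y}, OctT z A z y → OctT z A z (c * y * c⁻¹) := fun o => by simpa only [cz] using o.conj c
  have mc : ∀ {X : Subgroup G} {x}, c * x * c⁻¹ ∈ c •ᶜ X ↔ x ∈ X := fun {X x} => by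
    rw [mem_cj, show c⁻¹ * (c * x * c⁻¹) * c = x by group]
  have qc : ∀ {x}, c * x * c⁻¹ ∈ Q ↔ x ∈ Q := fun {x} => by
    have := mem_O2C_conj (x := z) (y := x) c
    rwa [cz, O2C_z h] at this
  have mu : ∀ a b : G, c * a * c⁻¹ * (c * b * c⁻¹) = c * (a * b) * c⁻¹ := fun a b => by group
  have ij : Function.Injective fun x : G => c * x * c⁻¹ := (MulAut.conj c).injective
  have sj : ∀ x : G, ∃ y, x = c * y * c⁻¹ := fun x => ⟨c⁻¹ * x * c, by group⟩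
  have ic : ∀ {x}, IsConj z (c * x * c⁻¹) ↔ IsConj z x := fun {x} =>
    ⟨fun e => e.trans (isConj_iff.2 ⟨c⁻¹, by group⟩), fun e => e.trans (isConj_iff.2 ⟨c, rfl⟩)⟩
  have nz : ∀ {x}, c * x * c⁻¹ ≠ z ↔ x ≠ z := fun {x} =>
    not_congr ⟨fun e => ij (e.trans cz.symm), fun e => e ▸ cz⟩
  have g1 : ∀ {x}, G1 (c •ᶜ F) (c * x * c⁻¹) ↔ G1 F x := fun {x} => ⟨fun e f hf g hg a b => by
    have := e _ (mc.2 hf) _ (mc.2 hg) (mt (mem_O2C_conj c).1 a) (mt (mem_O2C_conj c).1 b)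
    rwa [mu, mem_O2C_conj] at this, fun e => e.conj c⟩
  obtain ⟨r1, r2, r3, r4⟩ := FourA.std h (F := c •ᶜ F) (y1 := c * y1 * c⁻¹) (y2 := c * y2 * c⁻¹)
    (fun f hf => by
      obtain ⟨f, rfl⟩ := sj f
      rw [mu, sq f (mc.1 hf), mul_one, mul_inv_cancel]) (mc.2 m1) (mc.2 m2) (oc o1) (oc o2) (mu y1 y2 ▸ oc o3)
    (fun f hf => by
      obtain ⟨f, rfl⟩ := sj f
      simpa only [mu, qc] using gen f (mc.1 hf))
    ⟨c * w * c⁻¹, ak y1 ▸ mc.2 hw, qc.2 wQ, fun e => n1 (ij (Eq.trans (by group) e)),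
      fun e => n2 (ij ((Eq.trans (by group) e).trans (by beta_reduce; rw [← mu, cz])))⟩
    (ak y1 ▸ mc.2 u1) (ak y2 ▸ mc.2 u2) (ic.2 hu) hs
  have uz : c * u * c⁻¹ * z = c * (u * z) * c⁻¹ := by rw [← mu, cz]
  rw [ak, ak] at r1 r2 r4
  rw [uz, g1, g1] at r3 r4
  refine ⟨?_, fun v v1 v2 hv => (mem_O2C_conj c).1 (r2 _ (mc.2 v1) (mc.2 v2) (ic.2 hv)), r3,
    r4.imp_right (Or.imp_right ?_)⟩
  · rw [← r1, ← Set.ncard_image_of_injective _ ij]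
    congr 1
    ext v
    obtain ⟨v, rfl⟩ := sj v
    rw [ij.mem_set_image]
    simp only [Set.mem_ofPred_eq, mc, ic, nz]
  · rintro ⟨v, v1, v2, v3, v4, l⟩
    obtain ⟨v, rfl⟩ := sj v
    exact ⟨v, mc.1 v1, mc.1 v2, ic.1 v3, nz.1 v4, fun f hf => (mem_O2C_conj c).1 (l (mc.2 hf))⟩

namespace FourA

omit [Finite G] in
/-- the four-group on two commuting involutions -/
def V4 {a b : G} (ha : a * a = 1) (hb : b * b = 1) (c : b * a = a * b) : Subgroup G where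
  carrier := {x | x = 1 ∨ x = a ∨ x = b ∨ x = a * b}
  one_mem' := .inl rfl
  mul_mem' := by
    have h1 : ∀ x, a * (a * x) = x := fun x => by rw [← mul_assoc, ha, one_mul]
    have h3 : ∀ x, b * (a * x) = a * (b * x) := fun x => by rw [← mul_assoc, c, mul_assoc]
    rintro x y (rfl | rfl | rfl | rfl) (rfl | rfl | rfl | rfl) <;> simp [mul_assoc, ha, hb, c, h1, h3]
  inv_mem' := by
    have h4 : a * b * (a * b) = 1 := by rw [mul_assoc, ← mul_assoc b, c, mul_assoc, hb, mul_one, ha]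
    rintro x (rfl | rfl | rfl | rfl)
    · simp
    · exact .inr (.inl (inv_eq_of_mul_eq_one_right ha))
    · exact .inr (.inr (.inl (inv_eq_of_mul_eq_one_right hb)))
    · exact .inr (.inr (.inr (inv_eq_of_mul_eq_one_right h4)))

theorem nf (h : MH z Q R A D) {F P : Subgroup G} (c : Cfg F P) {y1 y2 : G} (m : Mn z F z)
    (m1 : y1 ∈ F) (m2 : y2 ∈ F) (n1 : y1 ∉ Q) (n2 : y2 ∉ Q) (n3 : y1 * y2 ∉ Q)
    (nt : ∃ w ∈ Ak z y1, w ∈ Q ∧ y2 * w * y2⁻¹ ≠ w ∧ y2 * w * y2⁻¹ ≠ w * z) : False := by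
  have oz := O2C_z h
  have rz := IsConj.refl z
  have o1 := c.octT h m m1 (oz ▸ n1)
  have o2 := c.octT h m m2 (oz ▸ n2)
  have o3 := c.octT h m (mul_mem m1 m2) (oz ▸ n3)
  obtain ⟨e1, z1, -⟩ := o1.ark h
  obtain ⟨e2, z2, w2, -⟩ := o2.ark h
  let V := V4 (c.sq _ m1) (c.sq _ m2) (c.comm' m2 m1)
  have VF : V ≤ F := by
    rintro x (rfl | rfl | rfl | rfl)
    exacts [one_mem _, m1, m2, mul_mem m1 m2]
  let F' : Subgroup G :=
    { carrier := {f | f ∈ F ∧ ∃ a ∈ V, a * f ∈ Q}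
      one_mem' := ⟨one_mem _, 1, one_mem _, by rw [one_mul]; exact one_mem _⟩
      mul_mem' := fun {f g} ⟨hf, a, ha, x⟩ ⟨hg, b, hb, y⟩ => ⟨mul_mem hf hg, a * b, mul_mem ha hb, by
        have := mul_mem x y
        rwa [mul_assoc, ← mul_assoc f, c.comm' hf (VF hb), mul_assoc, ← mul_assoc] at this⟩
      inv_mem' := fun {f} hf => by rwa [inv_eq_of_mul_eq_one_right (c.sq f hf.1)] }
  have le : F' ≤ F := fun f hf => hf.1
  have p1 : y1 ∈ F' := ⟨m1, y1, .inr (.inl rfl), by rw [c.sq _ m1]; exact one_mem _⟩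
  have p2 : y2 ∈ F' := ⟨m2, y2, .inr (.inr (.inl rfl)), by rw [c.sq _ m2]; exact one_mem _⟩
  have fr := fun {u} => frame4 h (F := F') (u := u) (fun f hf => c.sq f hf.1) p1 p2 o1 o2 o3
    (fun f ⟨_, a, ha, x⟩ => by
      rcases ha with rfl | rfl | rfl | rfl
      exacts [.inl (by rwa [one_mul] at x), .inr (.inl x), .inr (.inr (.inl x)), .inr (.inr (.inr x))]) nt
  have fin : ∀ u ∈ F, IsConj z u → ¬ G1 F' u := fun u hu cu g => by
    have h1 := m.min u hu cu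
    have h2 : (O2C u).relIndex F ≤ (O2C u).relIndex F' * F'.relIndex F := by
      rw [← inf_relIndex_right (O2C u) F', relIndex_mul_relIndex _ _ _ inf_le_right le]
      exact Nat.le_of_dvd (Nat.pos_of_ne_zero index_ne_zero_of_finite) (relIndex_dvd_of_le_left _ inf_le_left)
    have h3 : Q.relIndex F' * F'.relIndex F = Q.relIndex F := by
      rw [← inf_relIndex_right Q F', relIndex_mul_relIndex _ _ _ inf_le_right le, ← inf_relIndex_right Q F]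
      congr 1
      exact le_antisymm (inf_le_inf_left _ le) fun f hf => ⟨hf.1, hf.2, 1, one_mem _, by rw [one_mul]; exact hf.1⟩
    have h4 : 2 < Q.relIndex F' := by
      by_contra! h5
      have h6 : Q.relIndex F' ≠ 0 := index_ne_zero_of_finite
      have h7 : Q.relIndex F' ≠ 1 := fun e => n1 (relIndex_eq_one.1 e p1)
      have h8 : (Q.subgroupOf F').index = 2 := by change Q.relIndex F' = 2; omega
      exact n3 ((mul_mem_iff_of_index_two h8 (a := ⟨y1, p1⟩) (b := ⟨y2, p2⟩)).2 (iff_of_false n1 n2))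
    have h5 : 0 < F'.relIndex F := Nat.pos_of_ne_zero index_ne_zero_of_finite
    have h6 := g.relIndex_le
    rw [oz] at h1
    nlinarith
  have pF : ∀ n ∈ P, ∀ f ∈ F, n * f * n⁻¹ = f := fun n hn f hf => by
    rw [← c.comm f hf n hn, mul_inv_cancel_right]
  have pA : ∀ n ∈ P, ∀ y ∈ F, ∀ v ∈ Ak z y, n * v * n⁻¹ ∈ Ak z y := fun n hn y hy v hv =>
    (mem_normalizer_iff.1 (norm_Ak (c.comm z m.mem n hn).symm (c.comm y hy n hn).symm) v).1 hv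
  have pO : ∀ n ∈ P, ∀ f ∈ F, ∀ v, f ∈ O2C (n * v * n⁻¹) ↔ f ∈ O2C v := fun n hn f hf v => by
    rw [← mem_O2C_conj (x := v) n, pF n hn f hf]
  have pC : ∀ n v : G, IsConj z v → IsConj z (n * v * n⁻¹) := fun n v e => e.trans (isConj_iff.2 ⟨n, rfl⟩)
  by_cases ex : ∃ v ∈ Ak z y1, v ∈ Ak z y2 ∧ IsConj z v ∧ v ≠ z ∧ F' ≤ O2C v
  · have nz : ∀ v, F' ≤ O2C v → v ≠ z := fun v l e => n1 (oz ▸ (e ▸ l) p1)
    let U : Subgroup G :=
      { carrier := {v | v = 1 ∨ (v ∈ Ak z y1 ∧ v ∈ Ak z y2 ∧ IsConj z v ∧ F' ≤ O2C v)}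
        one_mem' := .inl rfl
        mul_mem' := by
          rintro v w (rfl | ⟨v1, v2, v3, v4⟩) hw
          · rwa [one_mul]
          rcases hw with rfl | ⟨w1, w2, w3, w4⟩
          · exact .inr (by rw [mul_one]; exact ⟨v1, v2, v3, v4⟩)
          by_cases e : v = w
          · exact .inl (e ▸ e1.sq v1)
          have p := (fr w1 w2 w3 (nz w w4)).2.1 v v1 v2 v3
          exact .inr ⟨mul_mem v1 w1, mul_mem v2 w2, isConj_mul h w3 v3 p e,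
            fun f hf => tri h w3 v3 p e (w4 hf) (v4 hf)⟩
        inv_mem' := by
          rintro v (rfl | hv)
          · exact .inl inv_one
          · rw [inv_eq_of_mul_eq_one_right (e1.sq hv.1)]; exact .inr hv }
    obtain ⟨v, v1, v2, v3, -, v4⟩ := ex
    obtain ⟨x, hx, x1, xF⟩ := c.fix_sub (U := U)
      (fun e => (sq_of h v3).2 (mem_bot.1 (e ▸ (.inr ⟨v1, v2, v3, v4⟩ : v ∈ U))))
      (by
        rintro x (rfl | hx)
        exacts [one_mul 1, e1.sq hx.1])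
      (by
        rintro n hn x (rfl | ⟨a, b, d, e⟩)
        · exact .inl (by simp)
        · exact .inr ⟨pA n hn _ m1 _ a, pA n hn _ m2 _ b, pC _ _ d, fun f hf => (pO n hn f hf.1 x).2 (e hf)⟩)
    obtain ⟨-, -, x3, x4⟩ := hx.resolve_left x1
    exact fin x xF x3 fun f hf g hg a => absurd (x4 hf) a
  · obtain ⟨w, hw, wQ, cu, ne⟩ := e1.refl2 z1 rz (norm_Ak (c.comm' m2 m.mem) (c.comm' m2 m1)) (c.sq _ m2)
      (c.comm' m2 m.mem) (oz ▸ nt)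
    have u1 : y2 * w * y2⁻¹ * w⁻¹ ∈ Ak z y1 :=
      mul_mem ((mem_normalizer_iff.1 (norm_Ak (c.comm' m2 m.mem) (c.comm' m2 m1)) w).1 hw) (inv_mem hw)
    have u2 : y2 * w * y2⁻¹ * w⁻¹ ∈ Ak z y2 := by
      have : w * y2 * w⁻¹ * y2⁻¹ ∈ Wk z y2 := subset_closure (.inr ⟨w, wQ, rfl⟩)
      rw [w2] at this
      simpa [mul_assoc] using (Ak z y2).inv_mem this.1
    have six := (fr u1 u2 cu ne).1
    have zz : ∀ u : G, u * z * z = u := fun u => by rw [mul_assoc, (sq_of h rz).1, mul_one]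
    have tz : ∀ u, u ∈ Ak z y1 ∧ u ∈ Ak z y2 ∧ IsConj z u ∧ u ≠ z →
        u * z ∈ Ak z y1 ∧ u * z ∈ Ak z y2 ∧ IsConj z (u * z) ∧ u * z ≠ z := fun u ⟨a, b, d, e⟩ =>
      ⟨mul_mem a z1, mul_mem b z2, isConj_mul h rz d (perp_symm h d rz ((fr a b d e).2.1 z z1 z2 rz)) e,
        fun f => (sq_of h d).2 (mul_eq_right.1 f)⟩
    let X : Set G := {u | (u ∈ Ak z y1 ∧ u ∈ Ak z y2 ∧ IsConj z u ∧ u ≠ z) ∧ G1 F' u}
    have dec : {v | v ∈ Ak z y1 ∧ v ∈ Ak z y2 ∧ IsConj z v ∧ v ≠ z} = X ∪ (· * z) '' X := by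
      ext u
      constructor
      · intro hu
        rcases (fr hu.1 hu.2.1 hu.2.2.1 hu.2.2.2).2.2.2 with g | g | g
        exacts [.inl ⟨hu, g⟩, .inr ⟨u * z, ⟨tz u hu, g⟩, zz u⟩, absurd g ex]
      · rintro (hu | ⟨u, hu, rfl⟩)
        exacts [hu.1, tz u hu.1]
    rw [dec, Set.ncard_union_eq (Set.disjoint_left.2 (by
      rintro _ a ⟨u, b, rfl⟩
      exact (fr b.1.1 b.1.2.1 b.1.2.2.1 b.1.2.2.2).2.2.1 ⟨b.2, a.2⟩)),
      Set.ncard_image_of_injective _ (mul_left_injective z)] at six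
    obtain ⟨x, hx, xF⟩ := c.fix_odd (X := X) ⟨1, by omega⟩ (fun x hx => e1.sq hx.1.1) fun n hn x hx =>
      ⟨⟨pA n hn _ m1 _ hx.1.1, pA n hn _ m2 _ hx.1.2.1, pC _ _ hx.1.2.2.1, fun e => hx.1.2.2.2
        ((MulAut.conj n).injective (e.trans (pF n hn z m.mem).symm))⟩, fun f hf g hg a b =>
        (pO n hn _ (mul_mem hf.1 hg.1) x).2 (hx.2 f hf g hg (mt (pO n hn f hf.1 x).2 a) (mt (pO n hn g hg.1 x).2 b))⟩
    exact fin x xF hx.1.2.2.1 hx.2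

end FourA

/-- Conjugate to `x = z`; `Cfg.octT`. Otherwise `refl2` gives a 2B element `≠ z` in `K = E₁ ∩ E₂`
(`[y₂, w] ∈ Wk z y₂`). `F' = (F ⊓ Q) ⊔ ⟨y₁, y₂⟩`, `|F' : F ⊓ Q| = 4`; `P` centralises `F` and normalises `E_i`
(`norm_Ak`). If some 2B element `v ≠ z` of `K` has `F' ≤ Q_v`, these `v` and `1` form a `P`-invariant
subgroup (`isConj_mul`, `tri`; `z` is excluded as `y₁ ∉ Q`): `Cfg.fix_sub`. Otherwise `G1 F'` holds for exactly
one element of each pair `{u, u z}`, so for three elements: `Cfg.fix_odd`. In both cases some 2B element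
`u ∈ F` has `|F : F ∩ Q_u| ≤ 2 |F : F'| < 4 |F : F'| = |F : F ∩ Q|`, against `Mn.min`. -/
theorem Cfg.no_four (h : MH z Q R A D) {F P : Subgroup G} (c : Cfg F P) {x y1 y2 : G} (m : Mn z F x)
    (m1 : y1 ∈ F) (m2 : y2 ∈ F) (n1 : y1 ∉ O2C x) (n2 : y2 ∉ O2C x) (n3 : y1 * y2 ∉ O2C x) :
    ∀ w ∈ Ak x y1, w ∈ O2C x → y2 * w * y2⁻¹ = w ∨ y2 * w * y2⁻¹ = w * x := by
  intro w hw wQ
  by_contra! n
  obtain ⟨g, hg⟩ := isConj_iff.1 m.cj.symm
  have qc : ∀ {y}, g * y * g⁻¹ ∈ Q ↔ y ∈ O2C x := fun {y} => by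
    have := mem_O2C_conj (x := x) (y := y) g
    rwa [hg, O2C_z h] at this
  have mc : ∀ {X : Subgroup G} {y}, y ∈ X → g * y * g⁻¹ ∈ g •ᶜ X := fun {X y} e => ⟨y, e, rfl⟩
  have ij : Function.Injective fun y : G => g * y * g⁻¹ := (MulAut.conj g).injective
  refine FourA.nf h (c.conj g) (hg ▸ m.conj g) (mc m1) (mc m2) (mt qc.1 n1) (mt qc.1 n2)
    (fun e => n3 (qc.1 (by convert e using 1; group))) ⟨g * w * g⁻¹, ?_, qc.2 wQ,
      fun e => n.1 (ij (Eq.trans (by group) e)), fun e => n.2 (ij ((Eq.trans (by group) e).trans ?_))⟩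
  · rw [← hg, Ak_conj]; exact mc hw
  · rw [← hg]; group

end CL.ML
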