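import Cfsg.Agent.SPOR.ML.FourC

/-!
Maximal 2-local subgroups of the Monster: two arks at `z` meeting in a tetrad frame.
-/

set_option autoImplicit false
set_option linter.dupNamespace false

namespace CL.ML.FourA2

open Cfsg CL.Leech CL.MT CL.LX CL.MSS CL.MP Subgroup
open CL.Golay (Code)
open scoped symmDiff

variable {G : Type*} [Group G] [Finite G] {z : G} {Q : Subgroup G} {R : leechLattice → G → Prop}
  {A : Co0 → G → Prop} {D : Set G}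

theorem oa (h : MH z Q R A D) {y u : G} (o : OctT z A z y) (hu : u ∈ Ak z y) (hs : R (e8 none) u) :
    ∃ O, OA h O (Ak z y) ∧ A (sgn O) y := by
  obtain ⟨a, m, -, b, hb, b1, b2⟩ := o.ark h
  obtain ⟨O, e⟩ := oa_of_mem h a m hu hs
  rw [O2C_z h] at b1 b2
  have := h.A_mul (h.A_inv (e.ovr b hb b1)) (h.A_one b2)
  rw [mul_one, inv_mul_cancel_left, StdCo.sgn_inv] at this
  exact ⟨O, e, this⟩

theorem std (h : MH z Q R A D) {F : Subgroup G} {y1 y2 u : G} (sq : ∀ f ∈ F, f * f = 1) (m1 : y1 ∈ F)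
    (m2 : y2 ∈ F) (o1 : OctT z A z y1) (o2 : OctT z A z y2) (o3 : OctT z A z (y1 * y2))
    (gen : ∀ f ∈ F, f ∈ Q ∨ y1 * f ∈ Q ∨ y2 * f ∈ Q ∨ y1 * y2 * f ∈ Q)
    (nt : ∃ w ∈ Ak z y1, w ∈ Q ∧ y2 * w * y2⁻¹ ≠ w ∧ y2 * w * y2⁻¹ ≠ w * z)
    (u1 : u ∈ Ak z y1) (u2 : u ∈ Ak z y2) (hs : R (e8 none) u) :
    {v | v ∈ Ak z y1 ∧ v ∈ Ak z y2 ∧ IsConj z v ∧ v ≠ z}.ncard = 6 ∧
    (∀ v ∈ Ak z y1, v ∈ Ak z y2 → IsConj z v → v ∈ O2C u) ∧ ¬ (G1 F u ∧ G1 F (u * z)) ∧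
      (G1 F u ∨ G1 F (u * z) ∨ ∃ v ∈ Ak z y1, v ∈ Ak z y2 ∧ IsConj z v ∧ v ≠ z ∧ F ≤ O2C v) := by
  obtain ⟨O1, e1, a1⟩ := oa h o1 u1 hs
  obtain ⟨O2, e2, a2⟩ := oa h o2 u2 hs
  have c : (O1.1 ∩ O2.1).card = 4 := by
    have c3 : (O1.1 ∆ O2.1).card = 8 ∨ (O1.1 ∆ O2.1).card = 16 :=
      (octT_sgn h (A_sgn_mul h (e := ⟨_, Golay.symmDiff_mem_code O1.2 O2.2⟩) a1 a2 rfl)).1 o3
    have c4 := Golay.card_symmDiff_add O1.1 O2.1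
    have c5 : (O1.1 ∩ O2.1).card ≠ 0 := fun c0 => by
      obtain ⟨w, w1, w2, w3, w4⟩ := nt
      exact ((e1.triv_iff a2).2 (Or.inr (Finset.disjoint_iff_inter_eq_empty.2 (Finset.card_eq_zero.1 c0)))
        w w1 w2).elim w3 w4
    have := e1.card
    have := e2.card
    omega
  have k : F4 h F y1 y2 O1 O2 := ⟨e1.card, e2.card, c, sq, m1, m2, a1, a2, gen⟩
  have fin : ∀ s, R (e8 none) s → Good R F s (O1.1 ∪ O2.1) → ¬ G1 F s →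
      ∃ v ∈ Ak z y1, v ∈ Ak z y2 ∧ IsConj z v ∧ v ≠ z ∧ F ≤ O2C v := fun s hs g n => by
    obtain ⟨t, t1, t2⟩ := k.core hs g n
    obtain ⟨a, b, c, d⟩ := (four_K hs e1 e2 c).2 (Or.inr (Or.inr t1))
    exact ⟨t, a, b, c, d, t2⟩
  refine ⟨four_card e1 e2 c, fun v v1 v2 hv => four_perp e1 e2 c u1 u2 (cj_e8 h hs).1 v1 v2 hv, ?_⟩
  rcases k.good hs with g | g
  · exact ⟨fun a => k.not_G1 hs g a.2, or_iff_not_imp_left.2 fun n => Or.inr (fin _ hs g n)⟩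
  · have := k.not_G1 (h.R_z hs) g
    rw [mul_assoc, (sq_of h (IsConj.refl z)).1, mul_one] at this
    exact ⟨fun a => this a.1, Or.inr (or_iff_not_imp_left.2 (fin _ (h.R_z hs) g))⟩

theorem G1_back {F : Subgroup G} {u c : G} (e : G1 (c •ᶜ F) (c * u * c⁻¹)) : G1 F u := fun f hf g hg n1 n2 => by
  have := e _ (conj_mem_cj hf) _ (conj_mem_cj hg) (mt (mem_O2C_conj c).1 n1) (mt (mem_O2C_conj c).1 n2)
  rw [conj_mul] at this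
  exact (mem_O2C_conj c).1 this

theorem frame4 (h : MH z Q R A D) {F : Subgroup G} {y1 y2 u : G} (sq : ∀ f ∈ F, f * f = 1) (m1 : y1 ∈ F)
    (m2 : y2 ∈ F) (o1 : OctT z A z y1) (o2 : OctT z A z y2) (o3 : OctT z A z (y1 * y2))
    (gen : ∀ f ∈ F, f ∈ Q ∨ y1 * f ∈ Q ∨ y2 * f ∈ Q ∨ y1 * y2 * f ∈ Q)
    (nt : ∃ w ∈ Ak z y1, w ∈ Q ∧ y2 * w * y2⁻¹ ≠ w ∧ y2 * w * y2⁻¹ ≠ w * z)
    (u1 : u ∈ Ak z y1) (u2 : u ∈ Ak z y2) (hu : IsConj z u) (ne : u ≠ z) :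
    {v | v ∈ Ak z y1 ∧ v ∈ Ak z y2 ∧ IsConj z v ∧ v ≠ z}.ncard = 6 ∧
    (∀ v ∈ Ak z y1, v ∈ Ak z y2 → IsConj z v → v ∈ O2C u) ∧ ¬ (G1 F u ∧ G1 F (u * z)) ∧
      (G1 F u ∨ G1 F (u * z) ∨ ∃ v ∈ Ak z y1, v ∈ Ak z y2 ∧ IsConj z v ∧ v ≠ z ∧ F ≤ O2C v) := by
  have uQ : u ∈ Q := by
    by_contra n
    obtain ⟨w, w1, -, w3, -⟩ := nt
    rw [(o1.ark h).1.eq_of_pair (o2.ark h).1 (o1.ark h).2.1 (o2.ark h).2.1 (IsConj.refl z) u1 u2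
      (O2C_z h ▸ n)] at w1
    exact w3 (by rw [← mem_centralizer_iff.1 (o2.cent_self h (sq _ m2)) w w1, mul_inv_cancel_right])
  obtain ⟨c, cz, hs⟩ := move h uQ hu ne
  have cz' : c * z * c⁻¹ = z := by rw [cz, mul_inv_cancel_right]
  have mA : ∀ {x y : G}, c * x * c⁻¹ ∈ Ak z (c * y * c⁻¹) ↔ x ∈ Ak z y := fun {x y} => by
    have := Ak_conj c z y
    rw [cz'] at this
    rw [this, mem_cj, show c⁻¹ * (c * x * c⁻¹) * c = x by group]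
  have mQ : ∀ {x : G}, x ∈ Q → c * x * c⁻¹ ∈ Q := fun {x} hx =>
    O2C_z h ▸ conj_mem_O2C cz (O2C_z h ▸ hx)
  have mC : ∀ {x : G}, IsConj z (c * x * c⁻¹) ↔ IsConj z x := fun {x} =>
    have c1 : IsConj x (c * x * c⁻¹) := isConj_iff.2 ⟨c, rfl⟩
    ⟨fun a => a.trans c1.symm, fun a => a.trans c1⟩
  have mN : ∀ {x : G}, c * x * c⁻¹ ≠ z ↔ x ≠ z := fun {x} => by
    conv_lhs => rw [← cz']
    simp
  have mO : ∀ {y : G}, OctT z A z y → OctT z A z (c * y * c⁻¹) := fun {y} o => by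
    have := o.conj c
    rwa [cz'] at this
  have mz : c * u * c⁻¹ * z = c * (u * z) * c⁻¹ := by rw [← conj_mul, cz']
  obtain ⟨H1, H2, H3, H4⟩ := std h (F := c •ᶜ F) (y1 := c * y1 * c⁻¹) (y2 := c * y2 * c⁻¹)
    (fun f hf => by
      obtain ⟨f, hf', rfl⟩ := mem_cj'.1 hf
      rw [conj_mul, sq f hf', mul_one, mul_inv_cancel])
    (conj_mem_cj m1) (conj_mem_cj m2) (mO o1) (mO o2) (by rw [conj_mul]; exact mO o3)
    (fun f hf => by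
      obtain ⟨f, hf', rfl⟩ := mem_cj'.1 hf
      simp only [conj_mul]
      exact (gen f hf').imp mQ (Or.imp mQ (Or.imp mQ mQ)))
    (by
      obtain ⟨w, w1, w2, w3, w4⟩ := nt
      refine ⟨c * w * c⁻¹, mA.2 w1, mQ w2, fun e => w3 ?_, fun e => w4 ?_⟩
      · rw [conj_inv, conj_mul, conj_mul] at e
        simpa using e
      · rw [conj_inv, conj_mul, conj_mul, ← cz', conj_mul] at e
        simpa using e)
    (mA.2 u1) (mA.2 u2) hs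
  rw [mz] at H3 H4
  refine ⟨?_, fun v v1 v2 hv => (mem_O2C_conj c).1 (H2 _ (mA.2 v1) (mA.2 v2) (mC.2 hv)),
    fun a => H3 ⟨a.1.conj c, a.2.conj c⟩, H4.imp G1_back (Or.imp G1_back ?_)⟩
  · rw [← H1]
    refine Set.ncard_congr (fun v _ => c * v * c⁻¹) (fun v hv => ⟨mA.2 hv.1, mA.2 hv.2.1, mC.2 hv.2.2.1,
      mN.2 hv.2.2.2⟩) (fun a b _ _ e => by simpa using e) fun v hv => ?_
    obtain ⟨v, rfl⟩ : ∃ x, v = c * x * c⁻¹ := ⟨c⁻¹ * v * c, by group⟩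
    exact ⟨v, ⟨mA.1 hv.1, mA.1 hv.2.1, mC.1 hv.2.2.1, mN.1 hv.2.2.2⟩, rfl⟩
  · rintro ⟨v, v1, v2, v3, v4, v5⟩
    obtain ⟨v, rfl⟩ : ∃ x, v = c * x * c⁻¹ := ⟨c⁻¹ * v * c, by group⟩
    exact ⟨v, mA.1 v1, mA.1 v2, mC.1 v3, mN.1 v4, fun f hf => (mem_O2C_conj c).1 (v5 (conj_mem_cj hf))⟩

end CL.ML.FourA2
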