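import Cfsg.Agent.SPOR.ML.FrC
import Cfsg.Agent.SPOR.ML.Comm

/-!
Maximal 2-local subgroups of the Monster: two octads meeting in a tetrad, the good frame.
-/

set_option autoImplicit false
set_option linter.dupNamespace false
set_option linter.unusedSectionVars false

namespace CL.ML

open Cfsg CL.Leech CL.MT CL.LX CL.MSS CL.MP Subgroup
open CL.Golay (Code)
open scoped symmDiff

variable {G : Type*} [Group G] [Finite G] {z : G} {Q : Subgroup G} {R : leechLattice → G → Prop}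
  {A : Co0 → G → Prop} {D : Set G}

/-- an elementary abelian group over the sign changes on two octads meeting in four points -/
structure F4 (h : MH z Q R A D) (F : Subgroup G) (y1 y2 : G) (O1 O2 : Code) : Prop where
  c1 : O1.1.card = 8
  c2 : O2.1.card = 8
  c12 : (O1.1 ∩ O2.1).card = 4
  sq : ∀ f ∈ F, f * f = 1
  m1 : y1 ∈ F
  m2 : y2 ∈ F
  a1 : A (sgn O1) y1
  a2 : A (sgn O2) y2
  gen : ∀ f ∈ F, f ∈ Q ∨ y1 * f ∈ Q ∨ y2 * f ∈ Q ∨ y1 * y2 * f ∈ Q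

/-- the images in `C(s) / Q_s` are supported outside `Y` -/
def Good (R : leechLattice → G → Prop) (F : Subgroup G) (s : G) (Y : Finset GolayPt) : Prop :=
  ∀ f ∈ F, ∃ d, Dv R s f d ∧ Disjoint d Y

variable {h : MH z Q R A D} {F E1 E2 : Subgroup G} {y1 y2 s : G} {O1 O2 : Code}

namespace FourB

theorem cm (k : F4 h F y1 y2 O1 O2) {f g : G} (hf : f ∈ F) (hg : g ∈ F) : f * g = g * f := by
  have i : ∀ x ∈ F, x⁻¹ = x := fun x hx => inv_eq_of_mul_eq_one_right (k.sq x hx)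
  rw [← i _ (mul_mem hf hg), mul_inv_rev, i f hf, i g hg]

theorem cenY (k : F4 h F y1 y2 O1 O2) {O : Code} {E : Subgroup G} (o : OA h O E) {y : G} (hy : y ∈ F)
    (a : A (sgn O) y) : y ∈ centralizer (E : Set G) :=
  o.eq_Ak a ▸ ((octT_sgn h a).2 (.inl o.card)).cent_self h (k.sq y hy)

theorem cenQ (k : F4 h F y1 y2 O1 O2) {O : Code} {E : Subgroup G} (o : OA h O E) {y q : G} (hy : y ∈ F)
    (a : A (sgn O) y) (hq : q ∈ F) (hQ : q ∈ Q) : q ∈ centralizer (E : Set G) :=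
  o.eq_Ak a ▸ ((octT_sgn h a).2 (.inl o.card)).cent_of_Q h ((O2C_z h).symm ▸ hQ)
    (.inl (by rw [cm k hy hq, mul_inv_cancel_right]))

theorem dec (k : F4 h F y1 y2 O1 O2) {P : G → Prop} (hQ : ∀ q ∈ F, q ∈ Q → P q) (h1 : P y1) (h2 : P y2)
    (hm : ∀ f ∈ F, ∀ g ∈ F, P f → P g → P (f * g)) {f : G} (hf : f ∈ F) : P f := by
  have st : ∀ y ∈ F, P y → y * f ∈ Q → P f := fun y hy py e => by
    have := hm y hy _ (mul_mem hy hf) py (hQ _ (mul_mem hy hf) e)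
    rwa [← mul_assoc, k.sq y hy, one_mul] at this
  rcases k.gen f hf with e | e | e | e
  exacts [hQ f hf e, st _ k.m1 h1 e, st _ k.m2 h2 e, st _ (mul_mem k.m1 k.m2) (hm _ k.m1 _ k.m2 h1 h2) e]

theorem cz (k : F4 h F y1 y2 O1 O2) {f : G} (hf : f ∈ F) : f * z = z * f :=
  dec k (P := fun f => Commute f z) (fun _ _ hq => h.A_comm (h.A_one hq)) (h.A_comm k.a1) (h.A_comm k.a2)
    (fun _ _ _ _ a b => a.mul_left b) hf

/-- the third octad -/
theorem c3 (k : F4 h F y1 y2 O1 O2) : (StdCo.cx O1 O2).1.card = 8 := by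
  have a := Finset.card_sdiff_add_card_inter O1.1 O2.1
  have b := Finset.card_sdiff_add_card_inter O2.1 O1.1
  rw [Finset.inter_comm] at b
  show (O1.1 \ O2.1 ∪ O2.1 \ O1.1).card = 8
  rw [Finset.card_union_of_disjoint disjoint_sdiff_sdiff]
  have := k.c1
  have := k.c2
  have := k.c12
  omega

theorem a3 (k : F4 h F y1 y2 O1 O2) : A (sgn (StdCo.cx O1 O2)) (y1 * y2) := A_sgn_mul h k.a1 k.a2 rfl

theorem nrm (hs : R (e8 none) s) {O : Code} {E : Subgroup G} (o : OA h O E) {c : Code} {f : G}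
    (a : A (sgn c) f) (hf : f ∈ centralizer (E : Set G)) : ∃ d, Dv R s f d ∧ Disjoint O.1 d := by
  obtain ⟨d, e⟩ := Dv.ex h hs a (hf s (o.e8_mem hs)).symm
  rcases e.const hs o hf with l | l
  · exact ⟨_, e.compl h, Finset.disjoint_left.2 fun p hp hp' => Finset.mem_compl.1 hp' (l hp)⟩
  · exact ⟨d, e, l⟩

theorem good_of (k : F4 h F y1 y2 O1 O2) (hs : R (e8 none) s)
    (h1 : ∃ d, Dv R s y1 d ∧ Disjoint d (O1.1 ∪ O2.1)) (h2 : ∃ d, Dv R s y2 d ∧ Disjoint d (O1.1 ∪ O2.1)) :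
    Good R F s (O1.1 ∪ O2.1) := fun f hf => by
  refine dec k (P := fun f => ∃ d, Dv R s f d ∧ Disjoint d (O1.1 ∪ O2.1)) (fun q hq hQ => ?_) h1 h2 ?_ hf
  · obtain ⟨E1, o1⟩ := exists_oa h k.c1
    obtain ⟨E2, o2⟩ := exists_oa h k.c2
    obtain ⟨d, e, l⟩ := nrm hs o1 (c := StdCo.c0) (StdCo.sgn_c0 ▸ h.A_one hQ) (cenQ k o1 k.m1 k.a1 hq hQ)
    refine ⟨d, e, Finset.disjoint_union_right.2 ⟨l.symm, ?_⟩⟩
    refine ((e.const hs o2 (cenQ k o2 k.m2 k.a2 hq hQ)).resolve_left fun l' => ?_).symm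
    obtain ⟨p, hp⟩ := Finset.card_pos.1 (show 0 < (O1.1 ∩ O2.1).card by rw [k.c12]; norm_num)
    exact Finset.disjoint_left.1 l (Finset.mem_inter.1 hp).1 (l' (Finset.mem_inter.1 hp).2)
  · rintro f - g hg ⟨d, e, l⟩ ⟨d', e', l'⟩
    exact ⟨_, e.mul h hs e' (cz k hg), Finset.disjoint_of_subset_left symmDiff_le_sup
      (Finset.disjoint_union_left.2 ⟨l, l'⟩)⟩

theorem not_mem (k : F4 h F y1 y2 O1 O2) (hs : R (e8 none) s) (g : Good R F s (O1.1 ∪ O2.1)) {c : Code} {y : G}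
    (hy : y ∈ F) (a : A (sgn c) y) (c8 : c.1.card = 8) (l : c.1 ⊆ O1.1 ∪ O2.1) : y ∉ O2C (s * z) := fun m => by
  obtain ⟨d, e, dj⟩ := g y hy
  rcases ((e.swap h hs a).mem_iff h (h.R_z hs)).1 m with q | q
  · obtain rfl : d = c.1 := symmDiff_eq_bot.1 q
    rw [(Finset.disjoint_self_iff_empty _).1 (Finset.disjoint_of_subset_right l dj)] at c8
    simp at c8
  · have u := Finset.card_union_add_card_inter O1.1 O2.1
    rw [k.c1, k.c2, k.c12] at u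
    obtain ⟨p, hp, np⟩ := Finset.exists_mem_notMem_of_card_lt_card (show c.1.card < (O1.1 ∪ O2.1).card by omega)
    rcases Finset.mem_symmDiff.1 (q.ge (Finset.mem_univ p)) with r | r
    · exact Finset.disjoint_left.1 dj r.1 hp
    · exact np r.1

theorem word {c : Finset GolayPt} (c1 : O1.1.card = 8) (c2 : O2.1.card = 8) (c12 : (O1.1 ∩ O2.1).card = 4)
    (hc : c ∈ Code) (l : c ⊆ O1.1 ∪ O2.1) : c = ∅ ∨ c ∆ O1.1 = ∅ ∨ c ∆ O2.1 = ∅ ∨ c ∆ O1.1 ∆ O2.1 = ∅ := by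
  have u := Finset.card_union_add_card_inter O1.1 O2.1
  have e : c.card + (c ∆ O1.1).card + (c ∆ O2.1).card + (c ∆ O1.1 ∆ O2.1).card = 2 * (O1.1 ∪ O2.1).card := by
    simp only [Finset.card_eq_sum_ite (Finset.subset_univ _), ← Finset.sum_add_distrib, Finset.mul_sum]
    refine Finset.sum_congr rfl fun p _ => ?_
    have := @l p
    by_cases a : p ∈ c <;> by_cases b : p ∈ O1.1 <;> by_cases d : p ∈ O2.1 <;> simp_all [Finset.mem_symmDiff]
  have a0 := Golay.card_of_mem_code hc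
  have a1 := Golay.card_of_mem_code (Golay.symmDiff_mem_code hc O1.2)
  have a2 := Golay.card_of_mem_code (Golay.symmDiff_mem_code hc O2.2)
  have a3 := Golay.card_of_mem_code (Golay.symmDiff_mem_code (Golay.symmDiff_mem_code hc O1.2) O2.2)
  simp only [← Finset.card_eq_zero]
  omega

theorem inQ (o1 : OA h O1 E1) (o2 : OA h O2 E2) (c : (O1.1 ∩ O2.1).card = 4) {u : G} (u1 : u ∈ E1)
    (u2 : u ∈ E2) : u ∈ Q := by
  by_contra n
  have := o1.card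
  rcases A_sgn_unique h (o1.ovr u u1 n) (o2.ovr u u2 n) with e | e <;> rw [e] at c
  · rw [Finset.inter_self] at c; omega
  · simp at c

theorem perp (o1 : OA h O1 E1) (o2 : OA h O2 E2) (c : (O1.1 ∩ O2.1).card = 4) {u v : G}
    (u1 : u ∈ E1) (u2 : u ∈ E2) (hu : IsConj z u) (v1 : v ∈ E1) (v2 : v ∈ E2) : v ∈ O2C u := by
  by_contra n
  obtain rfl := o1.ark.eq_of_pair o2.ark u1 u2 hu v1 v2 n
  obtain ⟨b, hb, -, nb⟩ := o1.ark.exists_not_mem o1.z_mem (IsConj.refl z)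
  exact nb ((O2C_z h).symm ▸ inQ o1 o2 c hb hb)

end FourB

open FourB

/-- `E_i = Ak z y_i` (`OA.eq_Ak`); `OctT.cent_self`, `OctT.cent_of_Q` -/
theorem F4.comm (k : F4 h F y1 y2 O1 O2) (o1 : OA h O1 E1) (o2 : OA h O2 E2) {u f : G} (u1 : u ∈ E1)
    (u2 : u ∈ E2) (hf : f ∈ F) : f * u = u * f :=
  dec k (P := fun f => Commute f u) (fun _ hq hQ => (cenQ k o1 k.m1 k.a1 hq hQ u u1).symm)
    (cenY k o1 k.m1 k.a1 u u1).symm (cenY k o2 k.m2 k.a2 u u2).symm (fun _ _ _ _ a b => a.mul_left b) hf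

/-- `T₁ = O₁ ∩ O₂`, `T₂ = O₁ \ O₂`, `T₃ = O₂ \ O₁`, `O₃ = O₁ ∆ O₂ = T₂ T₃` is an octad. `Dv.ex`, `Dv.const`:
`d(y₁)` is constant on `O₁`, `d(y₂)` on `O₂`, `d(y₁ y₂) = d₁ ∆ d₂` on `O₃`, `d(f)` on `O₁ ∪ O₂` for `f ∈ F ∩ Q`.
Normalise (`Dv.compl`) `d₁ ∩ O₁ = ∅ = d₂ ∩ O₂`. Then `d₁ ∩ T₃ = ∅ = d₂ ∩ T₂` (`s` is good) or `T₃ ⊆ d₁`,
`T₂ ⊆ d₂` (`(d_i ∆ O_i)ᶜ` misses `O₁ ∪ O₂`, so `s z` is good by `Dv.swap`). `Dv.mul` for the other `f`. -/
theorem F4.good (k : F4 h F y1 y2 O1 O2) (hs : R (e8 none) s) :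
    Good R F s (O1.1 ∪ O2.1) ∨ Good R F (s * z) (O1.1 ∪ O2.1) := by
  obtain ⟨E1, o1⟩ := exists_oa h k.c1
  obtain ⟨E2, o2⟩ := exists_oa h k.c2
  obtain ⟨E3, o3⟩ := exists_oa h (c3 k)
  obtain ⟨d1, e1, l1⟩ := nrm hs o1 k.a1 (cenY k o1 k.m1 k.a1)
  obtain ⟨d2, e2, l2⟩ := nrm hs o2 k.a2 (cenY k o2 k.m2 k.a2)
  have q := (e1.mul h hs e2 (cz k k.m2)).const hs o3 (cenY k o3 (mul_mem k.m1 k.m2) (a3 k))
  change O1.1 ∆ O2.1 ⊆ _ ∨ Disjoint (O1.1 ∆ O2.1) _ at q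
  rw [Finset.disjoint_left] at l1 l2 q
  rcases q with q | q
  · refine .inr (good_of k (h.R_z hs) ⟨_, (e1.swap h hs k.a1).compl h, Finset.disjoint_left.2 fun p => ?_⟩
      ⟨_, (e2.swap h hs k.a2).compl h, Finset.disjoint_left.2 fun p => ?_⟩) <;>
    · have a := @l1 p
      have b := @l2 p
      have c := @q p
      simp only [Finset.mem_symmDiff, Finset.mem_compl, Finset.mem_union] at c ⊢
      tauto
  · refine .inl (good_of k hs ⟨_, e1, Finset.disjoint_left.2 fun p => ?_⟩ ⟨_, e2, Finset.disjoint_left.2 fun p => ?_⟩) <;>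
    · have a := @l1 p
      have b := @l2 p
      have c := @q p
      simp only [Finset.mem_symmDiff, Finset.mem_union] at c ⊢
      tauto

/-- `Dv.swap`, `Dv.mem_iff`: none of `y₁, y₂, y₁ y₂` lies in `Q_{s z}` -/
theorem F4.not_G1 (k : F4 h F y1 y2 O1 O2) (hs : R (e8 none) s) (g : Good R F s (O1.1 ∪ O2.1)) :
    ¬ G1 F (s * z) :=
  fun e => not_mem k hs g (mul_mem k.m1 k.m2) (a3 k) (c3 k) symmDiff_le_sup
    (e _ k.m1 _ k.m2 (not_mem k hs g k.m1 k.a1 k.c1 Finset.subset_union_left)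
      (not_mem k hs g k.m2 k.a2 k.c2 Finset.subset_union_right))

/-- `u ∈ E₁ ∩ E₂` lies in `Q` (`eq_of_pair`); its vector in `L(O₁)` is congruent to one in `L(O₂)`, so it is
divisible by four (`LO.four_or`; or: `u ∈ Q_s`), `u` is over `S ⊆ O₁` and `S' ⊆ O₂` with `S ∆ S'` a code word in
`O₁ ∪ O₂`, one of `∅, O₁, O₂, O₁ ∆ O₂`; so `S ≡` an even subset of `T₁`; `R4.two`, `R4.four`, `R4.eq_cases`. -/
theorem four_K (hs : R (e8 none) s) (o1 : OA h O1 E1) (o2 : OA h O2 E2) (c : (O1.1 ∩ O2.1).card = 4)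
    {u : G} : (u ∈ E1 ∧ u ∈ E2 ∧ IsConj z u ∧ u ≠ z) ↔ u = s ∨ u = s * z ∨ R4 R (O1.1 ∩ O2.1) u := by
  have ke : ∀ {x}, R (e8 none) x → x ∈ E1 ∧ x ∈ E2 ∧ IsConj z x ∧ x ≠ z := fun hx =>
    ⟨o1.e8_mem hx, o2.e8_mem hx, (cj_e8 h hx).1, (cj_e8 h hx).2.2⟩
  refine ⟨fun ⟨u1, u2, hu, nz⟩ => ?_, ?_⟩
  · have uQ := inQ o1 o2 c u1 u2
    have us := perp o1 o2 c (ke hs).1 (ke hs).2.1 (ke hs).2.2.1 u1 u2
    obtain ⟨S, l, e⟩ := o1.r4 hs u1 uQ us
    obtain ⟨S', l', e'⟩ := o2.r4 hs u2 uQ us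
    have : ∃ T ⊆ O1.1 ∩ O2.1, R4 R T u := by
      rcases word o1.card o2.card c ((e.eq_cases h hs e').2 (.inl rfl))
        (symmDiff_le_sup.trans (Finset.union_subset_union l l')) with q | q | q | q
      on_goal 1 => refine ⟨S, fun p hp => ?_, e⟩
      on_goal 2 => refine ⟨S', fun p hp => ?_, e'⟩
      on_goal 3 => refine ⟨S, fun p hp => ?_, e⟩
      on_goal 4 => refine ⟨S ∆ O1.1, fun p hp => ?_, e.code h O1.2⟩
      all_goals
        have a := @l p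
        have b := @l' p
        have d := Finset.eq_empty_iff_forall_notMem.1 q p
        simp only [Finset.mem_symmDiff, Finset.mem_inter] at d hp ⊢
        tauto
    obtain ⟨T, lT, eT⟩ := this
    have b := Finset.card_le_card lT
    obtain ⟨n, hn⟩ := eT.even
    obtain k | k | k : T.card = 0 ∨ T.card = 2 ∨ T.card = 4 := by omega
    · obtain rfl := Finset.card_eq_zero.1 k
      rcases ((r4_one h).eq_cases h hs eT).1 (by simpa using Golay.empty_mem_code) with q | q | q | q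
      · exact absurd q (sq_of h hu).2
      · exact absurd (q.trans (one_mul z)) nz
      · exact .inl (q.trans (one_mul s))
      · exact .inr (.inl (by rw [q, one_mul]))
    · exact absurd hu (not_conj_of_D h (eT.two h k))
    · exact .inr (.inr (Finset.eq_of_subset_of_card_le lT (by omega) ▸ eT))
  · rintro (rfl | rfl | e)
    exacts [ke hs, ke (h.R_z hs), ⟨e.mem_oa o1 Finset.inter_subset_left, e.mem_oa o2 Finset.inter_subset_right,
      (e.four h hs c).1, (e.four h hs c).2.1⟩]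

/-- `s, s z, t, t z, t s, t s z` -/
theorem four_card (o1 : OA h O1 E1) (o2 : OA h O2 E2) (c : (O1.1 ∩ O2.1).card = 4) :
    {u | u ∈ E1 ∧ u ∈ E2 ∧ IsConj z u ∧ u ≠ z}.ncard = 6 := by
  obtain ⟨s, hs⟩ := h.ex_x (e8 none)
  obtain ⟨t, ht⟩ := exists_r4 h (S := O1.1 ∩ O2.1) (by rw [c]; decide)
  have e : {u | u ∈ E1 ∧ u ∈ E2 ∧ IsConj z u ∧ u ≠ z} = {s, s * z, t, t * z, t * s, t * s * z} := by
    ext u
    rw [Set.mem_ofPred_eq, four_K hs o1 o2 c]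
    refine or_congr_right (or_congr_right ⟨fun e => (ht.eq_cases h hs e).1 (by simpa using Golay.empty_mem_code), ?_⟩)
    rintro (rfl | rfl | rfl | rfl)
    exacts [ht, ht.mul_z h, ht.mul_s h hs, (ht.mul_s h hs).mul_z h]
  have z1 := (sq_of h (IsConj.refl z)).2
  have s1 := (sq_of h (cj_e8 h hs).1).2
  have s2 := (sq_of h (cj_e8 h (h.R_z hs)).1).2
  have s3 := (cj_e8 h hs).2.2.symm
  have a1 := (ht.four h hs c).2.2
  have a2 := ((ht.mul_z h).four h hs c).2.2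
  have a3 := ((ht.mul_s h hs).four h hs c).2.2
  have a4 := (((ht.mul_s h hs).mul_z h).four h hs c).2.2
  rw [e, Set.ncard_insert_of_notMem, Set.ncard_insert_of_notMem, Set.ncard_insert_of_notMem,
    Set.ncard_insert_of_notMem, Set.ncard_pair]
  · simpa using z1
  · simpa [mul_assoc] using ⟨s3, s1⟩
  · simpa [mul_assoc] using ⟨z1, s1, s2⟩
  · simp only [Set.mem_insert_iff, Set.mem_singleton_iff, not_or]
    exact ⟨a1.2.symm, a2.2.symm, a3.2.symm, a4.2.symm⟩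
  · simp only [Set.mem_insert_iff, Set.mem_singleton_iff, not_or]
    exact ⟨by simpa using z1, a1.1.symm, a2.1.symm, a3.1.symm, a4.1.symm⟩

theorem four_perp (o1 : OA h O1 E1) (o2 : OA h O2 E2) (c : (O1.1 ∩ O2.1).card = 4) {u v : G}
    (u1 : u ∈ E1) (u2 : u ∈ E2) (hu : IsConj z u) (v1 : v ∈ E1) (v2 : v ∈ E2) (hv : IsConj z v) :
    v ∈ O2C u := by
  have _ := hv
  exact perp o1 o2 c u1 u2 hu v1 v2

end CL.ML
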