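import Cfsg.Agent.SPOR.ML.FrB
import Cfsg.Agent.SPOR.ML.ArkB

/-!
Maximal 2-local subgroups of the Monster: the intersection of the arks of two octads meeting in a tetrad.
-/

set_option autoImplicit false
set_option linter.dupNamespace false

namespace CL.ML.FourB2

open Cfsg CL.Leech CL.MT CL.LX CL.MSS CL.MP Subgroup
open CL.Golay (Code)
open scoped symmDiff

variable {G : Type*} [Group G] [Finite G] {z : G} {Q : Subgroup G} {R : leechLattice → G → Prop}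
  {A : Co0 → G → Prop} {D : Set G} {h : MH z Q R A D} {E1 E2 : Subgroup G} {s : G} {O1 O2 : Code}

theorem four_dvd (h1 : O1.1.card = 8) (h2 : O2.1.card = 8) (c : (O1.1 ∩ O2.1).card = 4) {v w : leechLattice}
    (hv : LO O1.1 v) (hw : LO O2.1 w) (e : Cong v w) (p : GolayPt) : (4 : ℤ) ∣ v.1 p := by
  refine (LO.four_or h1 hv).elim (· p) fun k => ?_
  obtain ⟨u, hu, e⟩ := cong_iff_coe.1 e
  have e' : ∀ p, v.1 p - w.1 p = 2 * u p := fun p => by simpa using congrFun e p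
  obtain ⟨m, -, k1, -⟩ := (mem_iff' u).1 hu
  obtain ⟨a, -, ha⟩ := Finset.exists_mem_notMem_of_card_lt_card (s := O1.1 ∪ O2.1) (t := Finset.univ) (by
    have := Finset.card_union_le O1.1 O2.1
    rw [Finset.card_univ, Golay.card_pt]; omega)
  obtain ⟨b, hb, hb'⟩ := Finset.exists_mem_notMem_of_card_lt_card (s := O1.1 ∩ O2.1) (t := O1.1) (by omega)
  rw [Finset.mem_union, not_or] at ha
  have a1 := e' a
  have a2 := e' b
  rw [hv a ha.1, hw a ha.2] at a1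
  rw [hw b fun e => hb' (Finset.mem_inter.2 ⟨hb, e⟩)] at a2
  have := k1 a
  have := k1 b
  have := k b hb
  omega

omit [Finite G] in
theorem r4_of {O : Finset GolayPt} {v : leechLattice} {u : G} (r : R v u) (hv : LO O v)
    (h4 : ∀ p, (4 : ℤ) ∣ v.1 p) : ∃ S ⊆ O, R4 R S u := by
  refine ⟨Finset.univ.filter fun p => Odd (v.1 p / 4), fun p hp => ?_, v, fun p => v.1 p / 4, r,
    fun p => (Int.mul_ediv_cancel' (h4 p)).symm, fun p => by simp⟩
  by_contra k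
  simp [hv p k] at hp

theorem sub (o1 : OA h O1 E1) (o2 : OA h O2 E2) (c : (O1.1 ∩ O2.1).card = 4) {s u : G} (hs : R (e8 none) s)
    (u1 : u ∈ E1) (u2 : u ∈ E2) : ∃ S ⊆ O1.1 ∩ O2.1, R4 R S u := by
  have h1 := o1.card
  have h2 := o2.card
  have hQ : u ∈ Q := by
    by_contra k
    rcases A_sgn_unique h (o1.ovr u u1 k) (o2.ovr u u2 k) with e | e <;> rw [e] at c
    · rw [Finset.inter_self] at c; omega
    · simp at c
  obtain ⟨v, hv, r⟩ := (o1.inf u).1 ⟨u1, hQ⟩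
  obtain ⟨w, hw, r'⟩ := (o2.inf u).1 ⟨u2, hQ⟩
  obtain ⟨S, hS, e⟩ := r4_of r hv (four_dvd h1 h2 c hv hw (h.toMT.cong_of r r'))
  obtain ⟨S', hS', e'⟩ := r4_of r' hw (four_dvd h2 h1 (by rwa [Finset.inter_comm]) hw hv (h.toMT.cong_of r' r))
  have hc := (e.eq_cases h hs e').2 (Or.inl rfl)
  have k1 : (S ∆ S') \ O2.1 ⊆ O1.1 \ O2.1 := fun p hp => by
    simp only [Finset.mem_sdiff, Finset.mem_symmDiff] at hp ⊢
    exact ⟨hp.1.elim (fun a => hS a.1) fun a => (hp.2 (hS' a.1)).elim, hp.2⟩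
  have k2 := Finset.card_sdiff_add_card_inter O1.1 O2.1
  have k3 := Finset.card_sdiff_add_card_inter (S ∆ S') O2.1
  have k4 := Finset.card_le_card k1
  have k5 := Finset.card_le_card (Finset.inter_subset_right (s₁ := S ∆ S') (s₂ := O2.1))
  have k6 := Golay.card_symmDiff_add (S ∆ S') O2.1
  have k7 := Golay.card_of_mem_code hc
  have k8 := Golay.card_of_mem_code (Golay.symmDiff_mem_code hc O2.2)
  rcases (by omega : ((S ∆ S') \ O2.1).card = 0 ∨ (O1.1 \ O2.1).card ≤ ((S ∆ S') \ O2.1).card) with a | a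
  · refine ⟨S, fun p hp => Finset.mem_inter.2 ⟨hS hp, ?_⟩, e⟩
    by_contra k
    have : p ∈ (S ∆ S') \ O2.1 := Finset.mem_sdiff.2 ⟨Finset.mem_symmDiff.2 (Or.inl ⟨hp, fun a => k (hS' a)⟩), k⟩
    simp [Finset.card_eq_zero.1 a] at this
  · refine ⟨_, fun p hp => ?_, e.code h O1.2⟩
    rcases Finset.mem_symmDiff.1 hp with hp | hp
    · exact (hp.2 (hS hp.1)).elim
    · refine Finset.mem_inter.2 ⟨hp.1, ?_⟩
      by_contra k
      have : p ∈ (S ∆ S') \ O2.1 := Finset.eq_of_subset_of_card_le k1 a ▸ Finset.mem_sdiff.2 ⟨hp.1, k⟩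
      rcases Finset.mem_symmDiff.1 (Finset.mem_sdiff.1 this).1 with b | b
      exacts [hp.2 b.1, k (hS' b.1)]

theorem cases (o1 : OA h O1 E1) (o2 : OA h O2 E2) (c : (O1.1 ∩ O2.1).card = 4) {s u : G} (hs : R (e8 none) s)
    (u1 : u ∈ E1) (u2 : u ∈ E2) (hu : IsConj z u) : R4 R ∅ u ∨ R4 R (O1.1 ∩ O2.1) u := by
  obtain ⟨S, hS, e⟩ := sub o1 o2 c hs u1 u2
  have k1 := Finset.card_le_card hS
  have k2 := Nat.even_iff.1 e.even
  have k3 : S.card ≠ 2 := fun k => not_conj_of_D h (e.two h k) hu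
  rcases (by omega : S.card = 0 ∨ (O1.1 ∩ O2.1).card ≤ S.card) with a | a
  · exact Or.inl (Finset.card_eq_zero.1 a ▸ e)
  · exact Or.inr (Finset.eq_of_subset_of_card_le hS a ▸ e)

theorem empty (h : MH z Q R A D) (hs : R (e8 none) s) {u : G} (e : R4 R ∅ u) :
    u = 1 ∨ u = z ∨ u = s ∨ u = s * z := by
  simpa only [one_mul] using ((r4_one h).eq_cases h hs e).1 (by simpa using Golay.empty_mem_code)

theorem four_K (hs : R (e8 none) s) (o1 : OA h O1 E1) (o2 : OA h O2 E2) (c : (O1.1 ∩ O2.1).card = 4)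
    {u : G} : (u ∈ E1 ∧ u ∈ E2 ∧ IsConj z u ∧ u ≠ z) ↔ u = s ∨ u = s * z ∨ R4 R (O1.1 ∩ O2.1) u := by
  have k : ∀ s, R (e8 none) s → s ∈ E1 ∧ s ∈ E2 ∧ IsConj z s ∧ s ≠ z := fun s hs =>
    ⟨o1.e8_mem hs, o2.e8_mem hs, (cj_e8 h hs).1, (cj_e8 h hs).2.2⟩
  constructor
  · rintro ⟨u1, u2, hu, ne⟩
    rcases cases o1 o2 c hs u1 u2 hu with e | e
    · exact (((empty h hs e).resolve_left (sq_of h hu).2).resolve_left ne).imp_right Or.inl
    · exact Or.inr (Or.inr e)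
  · rintro (e | e | e)
    · exact e ▸ k s hs
    · exact e ▸ k _ (h.toMT.R_z hs)
    · exact ⟨R4.mem_oa o1 e Finset.inter_subset_left, R4.mem_oa o2 e Finset.inter_subset_right,
        (e.four h hs c).1, (e.four h hs c).2.1⟩

theorem four_card (o1 : OA h O1 E1) (o2 : OA h O2 E2) (c : (O1.1 ∩ O2.1).card = 4) :
    {u | u ∈ E1 ∧ u ∈ E2 ∧ IsConj z u ∧ u ≠ z}.ncard = 6 := by
  obtain ⟨s, hs⟩ := h.ex_x (e8 none)
  obtain ⟨t, ht⟩ := exists_r4 h (S := O1.1 ∩ O2.1) (by rw [c]; decide)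
  have k : ∀ u, R4 R (O1.1 ∩ O2.1) u ↔ u = t ∨ u = t * z ∨ u = t * s ∨ u = t * s * z := fun u =>
    ⟨fun e => (ht.eq_cases h hs e).1 (by simpa using Golay.empty_mem_code), by
      rintro (e | e | e | e) <;> rw [e]
      exacts [ht, ht.mul_z h, ht.mul_s h hs, (ht.mul_s h hs).mul_z h]⟩
  have e : {u | u ∈ E1 ∧ u ∈ E2 ∧ IsConj z u ∧ u ≠ z} = {s, s * z, t, t * z, t * s, t * s * z} := by
    ext u
    rw [Set.mem_setOf_eq, four_K hs o1 o2 c, k]
    rfl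
  have z1 := h.lx.z_ne
  have s1 := (sq_of h (cj_e8 h hs).1).2
  have s2 := (cj_e8 h hs).2.2
  have s3 := (sq_of h (cj_e8 h (h.toMT.R_z hs)).1).2
  have n1 : ¬ R4 R (O1.1 ∩ O2.1) s := fun e => (e.four h hs c).2.2.1 rfl
  have n2 : ¬ R4 R (O1.1 ∩ O2.1) (s * z) := fun e => (e.four h hs c).2.2.2 rfl
  rw [k] at n1 n2
  rw [e, Set.ncard_insert_of_notMem (fun a => a.elim (fun a => z1 (left_eq_mul.1 a)) n1),
    Set.ncard_insert_of_notMem (a := s * z) (s := {t, t * z, t * s, t * s * z}) n2,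
    Set.ncard_insert_of_notMem (by simp [z1, s1, s3, mul_assoc]),
    Set.ncard_insert_of_notMem (by simp [s1, s2.symm]), Set.ncard_pair (by simp [z1])]

theorem four_perp (o1 : OA h O1 E1) (o2 : OA h O2 E2) (c : (O1.1 ∩ O2.1).card = 4) {u v : G}
    (u1 : u ∈ E1) (u2 : u ∈ E2) (hu : IsConj z u) (v1 : v ∈ E1) (v2 : v ∈ E2) (hv : IsConj z v) :
    v ∈ O2C u := by
  obtain ⟨s, hs⟩ := h.ex_x (e8 none)
  rw [o1.ark.perp_iff u1 hu v1 hv]
  have k : R4 R ∅ (u * v) ∨ R4 R (O1.1 ∩ O2.1) (u * v) := by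
    rcases cases o1 o2 c hs u1 u2 hu with a | a <;> rcases cases o1 o2 c hs v1 v2 hv with b | b <;>
      have := a.mul h b <;> simp only [← Finset.bot_eq_empty, bot_symmDiff, symmDiff_bot, symmDiff_self] at this ⊢
    exacts [Or.inl this, Or.inr this, Or.inr this, Or.inl this]
  rcases k with k | k
  · refine (empty h hs k).imp_right ?_
    rintro (e | e | e)
    exacts [e ▸ IsConj.refl z, e ▸ (cj_e8 h hs).1, e ▸ (cj_e8 h (h.toMT.R_z hs)).1]
  · exact Or.inr (k.four h hs c).1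

end CL.ML.FourB2
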