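import Cfsg.Agent.SPOR.ML.FourC3

/-!
Maximal 2-local subgroups of the Monster: two octads meeting in a tetrad, the core.
-/

set_option autoImplicit false
set_option linter.dupNamespace false

namespace CL.ML

open Cfsg CL.Leech CL.MT CL.LX CL.MSS CL.MP Subgroup
open CL.Golay (Code)
open scoped symmDiff

variable {G : Type*} [Group G] [Finite G] {z : G} {Q : Subgroup G} {R : leechLattice → G → Prop}
  {A : Co0 → G → Prop} {D : Set G}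

variable {h : MH z Q R A D} {F : Subgroup G} {y1 y2 s : G} {O1 O2 : Code}

/-- an octad disjoint from `O₁ ∪ O₂` is a union of two tetrads of the sextet of `O₁ ∩ O₂`; code words
disjoint from `O₁ ∪ O₂` are empty or octads -/
theorem four_golay (c1 : O1.1.card = 8) (c2 : O2.1.card = 8) (c : (O1.1 ∩ O2.1).card = 4)
    {d : Finset GolayPt} (hd : d ∈ Code) (e : Disjoint d (O1.1 ∪ O2.1)) :
    d = ∅ ∨ d.card = 8 ∧ ∃ T ⊆ d, T.card = 4 ∧ (O1.1 ∩ O2.1) ∆ T ∈ Code :=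
  FourC2.four_golay c1 c2 c hd e

/-- For any `t` over `T₁ = O₁ ∩ O₂` each `f ∈ F` is `p q₁ q₂` with `p ∈ Q_s ∩ Q_t` over `sgn c`,
`c ∈ {∅, O₁, O₂, O₁ ∆ O₂}` (`p ∈ ⟨p₁, p₂⟩`, `p_i ∈ E_i ∩ Q_s ∩ Q_t \ Q` by `IsArk.sep`), `q₁ ∈ Q ∩ Q_t` over
`(±2)` on `d` (`four_golay`, `R4.code`, `R4.exists_two`; `q₁ = 1` if `d = ∅`), `q₂` over `4 S`. The three are
involutions (`inf_comm'`), `[p, q₁] ∈ ⟨t⟩ ∩ ⟨z⟩ = 1`, `[p, q₂] ∈ ⟨s⟩`, `[q₁, q₂] ∈ ⟨z⟩`; `f² = 1` gives that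
`|S ∩ c|` and `|S ∩ d|` are even (`R4.sgn_iff`, `R4.comm_two`). -/
theorem F4.decomp (k : F4 h F y1 y2 O1 O2) (hs : R (e8 none) s) (g : Good R F s (O1.1 ∪ O2.1)) {t : G}
    (ht : R4 R (O1.1 ∩ O2.1) t) {f : G} (hf : f ∈ F) :
    ∃ (c : Code) (d S : Finset GolayPt) (r q : G), f = r * q ∧ r ∈ O2C t ∧ R4 R S q ∧ A (sgn c) f ∧
      Dv R s f d ∧ Disjoint d (O1.1 ∪ O2.1) ∧ c.1 ⊆ O1.1 ∪ O2.1 ∧ Even (S ∩ c.1).card ∧
      Even (S ∩ d).card :=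
  FourC2.decomp k hs g ht hf

/-- Let `T₁, …, T₆` be the sextet, `π_t(f) ∈ F₂⁶ / ⟨1⟩` the parities of `S` on the tetrads: `π_t(f) = 0` iff
`f ∈ Q_t` (`R4.ev`, `R4.mem_of_ev`), and `c, d, π_t` are additive in `f` (`f = r q`, `f' = r' q'`:
`f f' = r r' (r'⁻¹ q r') q'`, and `r'⁻¹ q r' q⁻¹ ∈ Q_t`, as `q` centralises `t`, so `f f' ∈ Q_t · q q'`). `c` maps
onto `⟨12, 13⟩`; since `G1 F s` fails `d` maps onto `⟨45, 46⟩` (`Dv.mem_iff`). `⟨c, π⟩ = ⟨d, π⟩ = 0` for all `f`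
forces `π = λ c + μ d`. Replacing `t` by `t z` adds `c` to `π` (conjugate by `n ∈ Q` over a vector `2 a`
with `n t n⁻¹ = t z`), replacing `t` by `t s` adds `d`. Equivalent element form: `y₁ ∈ Q_u`, `y₂ ∈ Q_u`,
`F ∩ Q ≤ Q_u` for one of the four `u`. -/
theorem F4.core (k : F4 h F y1 y2 O1 O2) (hs : R (e8 none) s) (g : Good R F s (O1.1 ∪ O2.1))
    (n : ¬ G1 F s) : ∃ u, R4 R (O1.1 ∩ O2.1) u ∧ F ≤ O2C u :=
  FourC3.core k hs g n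

end CL.ML
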