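import Cfsg.Agent.SPOR.ML.FourB

/-!
Maximal 2-local subgroups of the Monster: two octads meeting in a tetrad, the decomposition.
-/

set_option autoImplicit false
set_option linter.dupNamespace false
set_option linter.unusedSectionVars false

namespace CL.ML.FourC2

open Cfsg CL.Leech CL.MT CL.LX CL.MSS CL.MP Subgroup
open CL.Golay (Code)
open scoped symmDiff

variable {G : Type*} [Group G] [Finite G] {z : G} {Q : Subgroup G} {R : leechLattice → G → Prop}
  {A : Co0 → G → Prop} {D : Set G}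

variable {h : MH z Q R A D} {F : Subgroup G} {y1 y2 s : G} {O1 O2 : Code}

theorem not_mem {T O O' : Finset GolayPt} (o : O ∈ octads) (o' : O' ∈ octads) (hT : T.card = 4)
    (h1 : T ⊆ O) (h2 : T ⊆ O') {x p : GolayPt} (x1 : x ∈ O) (x2 : x ∉ O') (p1 : p ∈ O) (p2 : p ∉ T) :
    p ∉ O' := fun k => by
  have : insert p T ⊆ O ∩ O' := Finset.insert_subset (Finset.mem_inter.2 ⟨p1, k⟩) (Finset.subset_inter h1 h2)
  have e := Finset.card_le_card this
  rw [Finset.card_insert_of_notMem p2, hT] at e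
  exact x2 (Golay.octad_eq_of_le_card_inter o o' e ▸ x1)

theorem four_golay (c1 : O1.1.card = 8) (c2 : O2.1.card = 8) (c : (O1.1 ∩ O2.1).card = 4)
    {d : Finset GolayPt} (hd : d ∈ Code) (e : Disjoint d (O1.1 ∪ O2.1)) :
    d = ∅ ∨ d.card = 8 ∧ ∃ T ⊆ d, T.card = 4 ∧ (O1.1 ∩ O2.1) ∆ T ∈ Code := by
  have u : (O1.1 ∪ O2.1).card = 12 := by
    have := Finset.card_union_add_card_inter O1.1 O2.1
    omega
  have e1 : ∀ p ∈ d, p ∉ O1.1 ∧ p ∉ O2.1 := fun p hp => by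
    simpa [not_or] using Finset.disjoint_left.1 e hp
  have m3 := Golay.symmDiff_mem_code (Golay.symmDiff_mem_code O1.2 O2.2) hd
  have k3 : ((O1.1 ∆ O2.1) ∆ d).card = 8 + d.card := by
    have a := Golay.card_symmDiff_add O1.1 O2.1
    have b := Golay.card_symmDiff_add (O1.1 ∆ O2.1) d
    have : O1.1 ∆ O2.1 ∩ d = ∅ := Finset.eq_empty_of_forall_notMem fun p hp => by
      rw [Finset.mem_inter, Finset.mem_symmDiff] at hp
      have := e1 p hp.2
      tauto
    rw [this, Finset.card_empty] at b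
    omega
  have le : d.card + 12 ≤ 24 := by
    rw [← u, ← Finset.card_union_of_disjoint e, ← Golay.card_pt]
    exact Finset.card_le_univ _
  have a := Golay.card_of_mem_code hd
  have b := Golay.card_of_mem_code m3
  by_cases h0 : d.card = 0
  · exact Or.inl (Finset.card_eq_zero.1 h0)
  have h8 : d.card = 8 := by omega
  refine Or.inr ⟨h8, ?_⟩
  obtain ⟨x, hx⟩ := Finset.card_ne_zero.1 h0
  have xT : x ∉ O1.1 ∩ O2.1 := fun k => (e1 x hx).1 (Finset.mem_inter.1 k).1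
  obtain ⟨O, ⟨o, hO⟩, -⟩ := Golay.steiner_octads.2 (insert x (O1.1 ∩ O2.1))
    (by rw [Finset.card_insert_of_notMem xT, c])
  have xO : x ∈ O := hO (Finset.mem_insert_self _ _)
  have TO : O1.1 ∩ O2.1 ⊆ O := (Finset.subset_insert _ _).trans hO
  have o3 : ((O1.1 ∆ O2.1) ∆ d)ᶜ ∈ octads := Golay.mem_octads.2 ⟨Golay.compl_mem_code m3, by
    rw [Finset.card_compl, Golay.card_pt, k3, h8]⟩
  refine ⟨O \ (O1.1 ∩ O2.1), fun p hp => ?_, ?_, ?_⟩
  · rw [Finset.mem_sdiff] at hp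
    have n1 := not_mem o (Golay.mem_octads.2 ⟨O1.2, c1⟩) c TO Finset.inter_subset_left xO (e1 x hx).1 hp.1 hp.2
    have n2 := not_mem o (Golay.mem_octads.2 ⟨O2.2, c2⟩) c TO Finset.inter_subset_right xO (e1 x hx).2 hp.1 hp.2
    have n3 := not_mem o o3 c TO (fun p hp => by
      have := e1 p
      rw [Finset.mem_inter] at hp
      simp only [Finset.mem_compl, Finset.mem_symmDiff]
      tauto) xO (by
      have := e1 x hx
      simp only [Finset.mem_compl, Finset.mem_symmDiff]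
      tauto) hp.1 hp.2
    simp only [Finset.mem_compl, Finset.mem_symmDiff] at n3
    tauto
  · rw [Finset.card_sdiff_of_subset TO, c, (Golay.mem_octads.1 o).2]
  · convert (Golay.mem_octads.1 o).1 using 1
    ext p
    have := @TO p
    simp only [Finset.mem_symmDiff, Finset.mem_sdiff]
    tauto

/-- an element of `Q_s ∩ Q_t` over the sign change on an octad through the tetrad -/
theorem ex_p (h : MH z Q R A D) (hs : R (e8 none) s) {T : Finset GolayPt} (hT : T.card = 4) {t : G} (ht : R4 R T t) {O : Code}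
    (c : O.1.card = 8) (le : T ⊆ O.1) : ∃ p ∈ O2C s, p ∈ O2C t ∧ A (sgn O) p := by
  obtain ⟨E, o⟩ := exists_oa h c
  obtain ⟨zt, n1, -, n3⟩ := ht.four h hs hT
  obtain ⟨zs, -, n4⟩ := cj_e8 h hs
  obtain ⟨p, pE, pz, ps, pt⟩ := o.ark.sep o.z_mem (IsConj.refl z) (o.e8_mem hs) zs (ht.mem_oa o le) zt
    n4.symm n1.symm fun e => n3 (by rw [← mul_right_inj s, ← e, ← mul_assoc, (sq_of h zs).1, one_mul])
  exact ⟨p, ps, pt, o.ovr p pE (O2C_z h ▸ pz)⟩

theorem decomp (k : F4 h F y1 y2 O1 O2) (hs : R (e8 none) s) (g : Good R F s (O1.1 ∪ O2.1)) {t : G}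
    (ht : R4 R (O1.1 ∩ O2.1) t) {f : G} (hf : f ∈ F) :
    ∃ (c : Code) (d S : Finset GolayPt) (r q : G), f = r * q ∧ r ∈ O2C t ∧ R4 R S q ∧ A (sgn c) f ∧
      Dv R s f d ∧ Disjoint d (O1.1 ∪ O2.1) ∧ c.1 ⊆ O1.1 ∪ O2.1 ∧ Even (S ∩ c.1).card ∧
      Even (S ∩ d).card := by
  obtain ⟨zt, n1, n2, n3⟩ := ht.four h hs k.c12
  obtain ⟨zs, sQ, n4⟩ := cj_e8 h hs
  have zz := IsConj.refl z
  have hQ := O2C_z h
  obtain ⟨tQ, ts⟩ := (r4_iff h hs).2 ⟨_, ht⟩
  have st : s ∈ O2C t := perp_symm h zs zt ts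
  obtain ⟨p1, s1, t1, a1⟩ := ex_p h hs k.c12 ht k.c1 Finset.inter_subset_left
  obtain ⟨p2, s2, t2, a2⟩ := ex_p h hs k.c12 ht k.c2 Finset.inter_subset_right
  obtain ⟨c, p, y, ps, pt, ap, ay, yF, yf, cs⟩ : ∃ (c : Code) (p y : G), p ∈ O2C s ∧ p ∈ O2C t ∧ A (sgn c) p ∧
      A (sgn c) y ∧ y ∈ F ∧ y * f ∈ Q ∧ c.1 ⊆ O1.1 ∪ O2.1 := by
    rcases k.gen f hf with e | e | e | e
    · have : A (sgn StdCo.c0) 1 := h.A_of (by rw [StdCo.sgn_c0]; exact one_mem _) (one_mem _)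
      exact ⟨_, 1, 1, one_mem _, one_mem _, this, this, one_mem _, by rwa [one_mul], Finset.empty_subset _⟩
    · exact ⟨O1, p1, y1, s1, t1, a1, k.a1, k.m1, e, Finset.subset_union_left⟩
    · exact ⟨O2, p2, y2, s2, t2, a2, k.a2, k.m2, e, Finset.subset_union_right⟩
    · exact ⟨⟨_, Golay.symmDiff_mem_code O1.2 O2.2⟩, p1 * p2, y1 * y2, mul_mem s1 s2, mul_mem t1 t2,
        A_sgn_mul h a1 a2 rfl, A_sgn_mul h k.a1 k.a2 rfl, mul_mem k.m1 k.m2, e, symmDiff_le_sup⟩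
  have af : A (sgn c) f := by
    have := h.A_mul ay (h.A_of (one_mem _) yf)
    rwa [mul_one, ← mul_assoc, k.sq y yF, one_mul] at this
  obtain ⟨d, dv, dj⟩ := g f hf
  obtain ⟨q1, v, a, r1, qt, hv, ha⟩ : ∃ (q : G) (v : leechLattice) (a : GolayPt → ℤ), R v q ∧ q ∈ O2C t ∧
      (∀ i, v.1 i = 2 * a i) ∧ (∀ i, Odd (a i) ↔ i ∈ d) := by
    rcases four_golay k.c1 k.c2 k.c12 dv.code dj with rfl | ⟨h8, T, Td, T4, hT⟩
    · exact ⟨1, 0, 0, h.toMT.R_zero, one_mem _, by simp, by simp⟩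
    · have e := ht.code h hT
      rw [symmDiff_symmDiff_cancel_left] at e
      exact e.exists_two h T4 dv.code h8 Td
  have q1Q := h.R_mem r1
  have f'Q : p⁻¹ * f ∈ Q := (h.A_ker (h.A_mul (h.A_inv ap) af)).2 (by rw [inv_mul_cancel]; exact one_mem _)
  have dv1 : Dv R s q1 d := ⟨1, one_mem _, q1, v, a, (one_mul _).symm, r1, hv, ha⟩
  have dv2 : Dv R s (p⁻¹ * f) d := by
    obtain ⟨p', hp', q', v', a', e, r⟩ := dv
    exact ⟨p⁻¹ * p', mul_mem (inv_mem ps) hp', q', v', a', by rw [e, mul_assoc], r⟩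
  have dv3 := dv1.mul h hs dv2 (h.lx.z_comm _ f'Q)
  rw [symmDiff_self] at dv3
  obtain ⟨S, r2⟩ := (r4_iff h hs).1 ⟨mul_mem q1Q f'Q, FrC.mem_of_empty h hs dv3⟩
  obtain ⟨q2Q, q2s⟩ := (r4_iff h hs).2 ⟨_, r2⟩
  obtain ⟨cs1, -⟩ := inf_comm' h zz zt n1 (hQ ▸ sQ) st (hQ ▸ q1Q) qt
  obtain ⟨-, qq⟩ := inf_comm' h zz zt n1 (hQ ▸ q1Q) qt (hQ ▸ q1Q) qt
  have ef : f = p * q1 * (q1 * (p⁻¹ * f)) := by
    rw [mul_assoc, ← mul_assoc q1, qq, one_mul, mul_inv_cancel_left]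
  have q22 := r2.sq h
  generalize q1 * (p⁻¹ * f) = q2 at ef r2 q2Q q2s q22
  have rt := mul_mem pt qt
  have ff := k.sq f hf
  have key : ∀ α β : G, Commute α q1 → q2 * p = p * q2 * α → q2 * q1 = q1 * q2 * β → Commute q2 α →
      Commute q2 β → Commute α β → p * q1 * (p * q1) * (α * β) = 1 := fun α β c1 e1 e2 c2 c3 c4 => by
    rw [← ff, ef]
    symm
    calc p * q1 * q2 * (p * q1 * q2) = p * q1 * (q2 * p) * q1 * q2 := by simp only [mul_assoc]
      _ = p * q1 * p * q2 * (α * q1) * q2 := by rw [e1]; simp only [mul_assoc]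
      _ = p * q1 * p * (q2 * q1) * (α * q2) := by rw [c1.eq]; simp only [mul_assoc]
      _ = p * q1 * p * q1 * q2 * (β * q2) * α := by rw [e2, ← c2.eq]; simp only [mul_assoc]
      _ = p * q1 * p * q1 * (q2 * q2) * (β * α) := by rw [← c3.eq]; simp only [mul_assoc]
      _ = p * q1 * (p * q1) * (α * β) := by rw [q22, c4.eq]; simp only [mul_assoc, one_mul]
  have ss := sq_of h zs
  have z2 := sq_of h zz
  have tt := sq_of h zt
  have cz : ∀ x ∈ Q, Commute x z := fun x hx => h.lx.z_comm x hx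
  have c2s : Commute q2 s := (comm_of_mem q2s).symm
  have fin : ∀ w : G, p * q1 * (p * q1) * w = 1 → w = 1 ∨ w = t := fun w hw => by
    rcases (lx_of h zt).sq _ rt with e | e
    · exact Or.inl (by rwa [e, one_mul] at hw)
    · rw [e] at hw
      exact Or.inr (mul_left_cancel (hw.trans tt.1.symm))
  have main : q2 * p = p * q2 ∧ q2 * q1 = q1 * q2 := by
    rcases (lx_of h zs).comm q2 q2s p ps with e1 | e1 <;> rcases h.lx.comm q2 q2Q q1 q1Q with e2 | e2
    · exact ⟨e1, e2⟩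
    · rcases fin _ (key 1 z (Commute.one_left _) (by rw [e1, mul_one]) e2 (Commute.one_right _) (cz _ q2Q)
        (Commute.one_left _)) with e | e <;> rw [one_mul] at e
      · exact absurd e z2.2
      · exact absurd e.symm n1
    · rcases fin _ (key s 1 cs1 e1 (by rw [e2, mul_one]) c2s (Commute.one_right _)
        (Commute.one_right _)) with e | e <;> rw [mul_one] at e
      · exact absurd e ss.2
      · exact absurd e.symm n2
    · rcases fin _ (key s z cs1 e1 e2 c2s (cz _ q2Q) (cz _ sQ)) with e | e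
      · exact absurd (mul_right_cancel (e.trans z2.1.symm)) n4
      · exact absurd e.symm n3
  exact ⟨c, d, S, p * q1, q2, ef, rt, r2, af, dv, dj, cs,
    (r2.sgn_iff h ap).1 (Or.inl (by rw [← main.1, mul_inv_cancel_right])), (r2.comm_two h r1 hv ha).1 main.2⟩

end CL.ML.FourC2
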