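import Cfsg.Agent.SPOR.ML.FourC2

/-!
Maximal 2-local subgroups of the Monster: two octads meeting in a tetrad, the parity argument.
-/

set_option autoImplicit false
set_option linter.dupNamespace false
set_option linter.unusedSectionVars false

namespace CL.ML.FourC3

open Cfsg CL.Leech CL.MT CL.LX CL.MSS CL.MP Subgroup
open CL.Golay (Code)
open scoped symmDiff

variable {G : Type*} [Group G] [Finite G] {z : G} {Q : Subgroup G} {R : leechLattice → G → Prop}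
  {A : Co0 → G → Prop} {D : Set G}

variable {h : MH z Q R A D} {F : Subgroup G} {y1 y2 s u f f' : G} {O1 O2 : Code}
  {S S' T X Y d d1 d2 : Finset GolayPt}

/-- even intersection -/
def ev (S X : Finset GolayPt) : Prop := Even (S ∩ X).card

theorem ev_l : ev (S ∆ S') X ↔ (ev S X ↔ ev S' X) := FrB.ev_symm S S' X

theorem ev_comm : ev S X ↔ ev X S := by rw [ev, ev, Finset.inter_comm]

theorem ev_r : ev S (X ∆ Y) ↔ (ev S X ↔ ev S Y) := by rw [ev_comm, ev_l, ev_comm, ev_comm (S := Y)]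

theorem ev_e : ev S ∅ := by simp [ev]

theorem ev_c (hS : Even S.card) : ev S Xᶜ ↔ ev S X := by
  have := Finset.card_sdiff_add_card_inter S X
  rw [Finset.sdiff_eq_inter_compl] at this
  simp only [ev, Nat.even_iff] at hS ⊢
  omega

theorem ev_u (hS : S ∈ Code) (hX : X ∈ Code) (hY : Y ∈ Code) : ev S (X ∪ Y) ↔ ev S (X ∩ Y) := by
  rw [show X ∪ Y = (X ∆ Y) ∆ (X ∩ Y) by
    ext p
    simp only [Finset.mem_union, Finset.mem_symmDiff, Finset.mem_inter]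
    tauto, ev_r]
  exact true_iff_iff_aux (Golay.even_card_inter hS (Golay.symmDiff_mem_code hX hY))
where true_iff_iff_aux {a b : Prop} (ha : a) : (a ↔ b) ↔ b := ⟨fun k => k.1 ha, fun k => iff_of_true ha k⟩

theorem card12 (c1 : O1.1.card = 8) (c2 : O2.1.card = 8) (c : (O1.1 ∩ O2.1).card = 4) :
    (O1.1 ∪ O2.1)ᶜ.card = 12 := by
  have := Finset.card_union_add_card_inter O1.1 O2.1
  rw [Finset.card_compl, Golay.card_pt]
  omega

theorem sub (e : Disjoint d Y) : d ⊆ Yᶜ := fun _ hp => Finset.mem_compl.2 (Finset.disjoint_left.1 e hp)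

/-- the code words outside the two octads -/
theorem tri (c1 : O1.1.card = 8) (c2 : O2.1.card = 8) (c : (O1.1 ∩ O2.1).card = 4) (m1 : d1 ∈ Code)
    (m2 : d2 ∈ Code) (e1 : Disjoint d1 (O1.1 ∪ O2.1)) (e2 : Disjoint d2 (O1.1 ∪ O2.1)) (n1 : d1 ≠ ∅)
    (n2 : d2 ≠ ∅) (n3 : d1 ∆ d2 ≠ ∅) (v1 : ev S d1) (v2 : ev S d2) (hd : d ∈ Code)
    (e : Disjoint d (O1.1 ∪ O2.1)) : ev S d := by
  rcases FourC2.four_golay c1 c2 c hd e with rfl | ⟨h8, -⟩
  · exact ev_e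
  have u := card12 c1 c2 c
  obtain ⟨x, xY, xd⟩ := Finset.exists_mem_notMem_of_card_lt_card (s := d) (t := (O1.1 ∪ O2.1)ᶜ) (by omega)
  have key : ∀ d' ∈ Code, Disjoint d' (O1.1 ∪ O2.1) → d' ≠ ∅ → x ∉ d' → d = d' := fun d' m e' n xd' => by
    have k8 := ((FourC2.four_golay c1 c2 c m e').resolve_left n).1
    have a := Finset.card_le_card (show d ∪ d' ⊆ (O1.1 ∪ O2.1)ᶜ.erase x from fun p hp =>
      Finset.mem_erase.2 ((Finset.mem_union.1 hp).elim (fun k => ⟨ne_of_mem_of_not_mem k xd, sub e k⟩)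
        fun k => ⟨ne_of_mem_of_not_mem k xd', sub e' k⟩))
    rw [Finset.card_erase_of_mem xY] at a
    have b := Finset.card_union_add_card_inter d d'
    exact Golay.octad_eq_of_le_card_inter (Golay.mem_octads.2 ⟨hd, h8⟩) (Golay.mem_octads.2 ⟨m, k8⟩) (by omega)
  by_cases x1 : x ∈ d1
  · by_cases x2 : x ∈ d2
    · rw [key _ (Golay.symmDiff_mem_code m1 m2) ((Finset.disjoint_union_left.2 ⟨e1, e2⟩).mono_left symmDiff_le_sup)
        n3 (by simp [Finset.mem_symmDiff, x1, x2])]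
      exact ev_r.2 (iff_of_true v1 v2)
    · rwa [key _ m2 e2 n2 x2]
  · rwa [key _ m1 e1 n1 x1]

theorem out (c1 : O1.1.card = 8) (c2 : O2.1.card = 8) (c : (O1.1 ∩ O2.1).card = 4) (hS : Even S.card)
    (hv : ∀ o ∈ Code, o.card = 8 → O1.1 ∩ O2.1 ⊆ o → ev S o) (hd : d ∈ Code)
    (e : Disjoint d (O1.1 ∪ O2.1)) : ev S d := by
  rcases FourC2.four_golay c1 c2 c hd e with rfl | ⟨h8, T, Td, T4, hT⟩
  · exact ev_e
  have e1 : ∀ p ∈ d, p ∉ O1.1 ∧ p ∉ O2.1 := fun p hp => by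
    simpa [not_or] using Finset.disjoint_left.1 e hp
  have a := Golay.card_symmDiff_add O1.1 O2.1
  have b := Golay.card_symmDiff_add (O1.1 ∆ O2.1) d
  rw [show O1.1 ∆ O2.1 ∩ d = ∅ from Finset.eq_empty_of_forall_notMem fun p hp => by
    rw [Finset.mem_inter, Finset.mem_symmDiff] at hp
    have := e1 p hp.2
    tauto, Finset.card_empty] at b
  have := hv _ (Golay.compl_mem_code (Golay.symmDiff_mem_code (Golay.symmDiff_mem_code O1.2 O2.2) hd))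
    (by rw [Finset.card_compl, Golay.card_pt]; omega) fun p hp => by
      have := e1 p
      rw [Finset.mem_inter] at hp
      simp only [Finset.mem_compl, Finset.mem_symmDiff]
      tauto
  rw [ev_c hS, ev_r, ev_r] at this
  exact this.1 (iff_of_true (hv _ O1.2 c1 Finset.inter_subset_left) (hv _ O2.2 c2 Finset.inter_subset_right))

theorem inn (c1 : O1.1.card = 8) (c2 : O2.1.card = 8) (c : (O1.1 ∩ O2.1).card = 4) (v1 : ev S O1.1)
    (v2 : ev S O2.1) (hd : d ∈ Code) (e : d ⊆ O1.1 ∪ O2.1) : ev S d := by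
  rcases FourB.word c1 c2 c hd e with k | k | k | k
  · exact k ▸ ev_e
  · exact (ev_r.1 (k ▸ ev_e)).2 v1
  · exact (ev_r.1 (k ▸ ev_e)).2 v2
  · exact (ev_r.1 ((ev_r.1 (k ▸ ev_e)).2 v2)).2 v1

theorem all (c1 : O1.1.card = 8) (c2 : O2.1.card = 8) (hS : Even S.card) (v1 : ev S O1.1) (v2 : ev S O2.1)
    (c : (O1.1 ∩ O2.1).card = 4) (hv : ∀ d ∈ Code, Disjoint d (O1.1 ∪ O2.1) → ev S d) (hd : d ∈ Code)
    (h8 : d.card = 8) (le : O1.1 ∩ O2.1 ⊆ d) : ev S d := by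
  have key : ∀ O : Code, O.1.card = 8 → O1.1 ∩ O2.1 ⊆ O.1 → d ≠ O.1 → ∀ p ∈ d, p ∈ O.1 → p ∈ O1.1 ∩ O2.1 :=
    fun O c8 l n p p1 p2 => by
      by_contra k
      have e := Finset.card_le_card
        (Finset.insert_subset (Finset.mem_inter.2 ⟨p1, p2⟩) (Finset.subset_inter le l))
      rw [Finset.card_insert_of_notMem k, c] at e
      exact n (Golay.octad_eq_of_le_card_inter (Golay.mem_octads.2 ⟨hd, h8⟩) (Golay.mem_octads.2 ⟨O.2, c8⟩) e)
  by_cases n1 : d = O1.1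
  · exact n1 ▸ v1
  by_cases n2 : d = O2.1
  · exact n2 ▸ v2
  have := hv _ (Golay.compl_mem_code (Golay.symmDiff_mem_code (Golay.symmDiff_mem_code O1.2 O2.2) hd))
    (Finset.disjoint_left.2 fun p hp hq => by
      have a := key O1 c1 Finset.inter_subset_left n1 p
      have b := key O2 c2 Finset.inter_subset_right n2 p
      have e := @le p
      simp only [Finset.mem_compl, Finset.mem_symmDiff, Finset.mem_union, Finset.mem_inter] at a b e hp hq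
      tauto)
  rw [ev_c hS, ev_r, ev_r] at this
  exact this.1 (iff_of_true v1 v2)

/-- `f ∈ Q_u q` with `q` over `4 S` -/
def P (R : leechLattice → G → Prop) (u f : G) (S : Finset GolayPt) : Prop :=
  ∃ r q, f = r * q ∧ r ∈ O2C u ∧ R4 R S q

theorem P.even (e : P R u f S) : Even S.card := let ⟨_, _, _, _, k⟩ := e; k.even

theorem P.mul (h : MH z Q R A D) (hu : R4 R T u) (e : P R u f S) (e' : P R u f' S') :
    P R u (f * f') (S ∆ S') := by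
  obtain ⟨r, q, rfl, hr, hq⟩ := e
  obtain ⟨r', q', rfl, hr', hq'⟩ := e'
  exact ⟨r * (q * r' * q⁻¹), q * q', by group, mul_mem hr (conj_mem_O2C (hq.comm h hu) hr'), hq.mul h hq'⟩

theorem P.swz (h : MH z Q R A D) (hu : R4 R T u) {e c : Code} (ne : ¬ ev T e.1) (hf : A (sgn c) f)
    (k : P R u f S) : P R (u * z) f ((e.1 ∩ c.1) ∆ S) := by
  obtain ⟨r, q, rfl, hr, hq⟩ := k
  obtain ⟨n, hn⟩ := h.ex_x ⟨_, two_lift_mem ((mem_supports_iff e.1).1 e.2)⟩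
  have k : n * u * n⁻¹ = u * z := by
    rw [(h.lx.comm n (h.R_mem hn) u (hu.mem h)).resolve_left fun k => ?_, mul_assoc u,
      h.lx.z_comm n (h.R_mem hn)]
    · group
    · exact ne ((hu.comm_two h hn (a := lift (ind e.1)) (fun _ => rfl) fun p => by
        rw [FrB.lift_ind]; split_ifs <;> simp [*]).1 k.symm)
  have hA := h.A_inv (h.A_mul hf (h.toMT.A_one (inv_mem (hq.mem h))))
  rw [mul_one, mul_inv_cancel_right, inv_eq_of_mul_eq_one_right (Sgn_sq (sgn_mem c))] at hA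
  refine ⟨n * r * n⁻¹, n * (r⁻¹ * n⁻¹ * r⁻¹⁻¹) * q, by group, k ▸ (mem_O2C_conj n).2 hr, R4.mul h ⟨_,
    fun i => if i ∈ c.1 then -lift (ind e.1) i else 0,
    h.R_mul (h.toMT.R_of_cong hn (cong_neg _).symm) (h.R_conj hA (h.toMT.R_inv hn)), fun i => ?_, fun i => ?_⟩ hq⟩
  · simp only [AddSubgroup.coe_add, AddSubgroup.coe_neg, Pi.add_apply, Pi.neg_apply, sgn_apply, Pi.smul_apply,
      smul_eq_mul]
    split_ifs <;> ring
  · beta_reduce
    rw [Finset.mem_inter, FrB.lift_ind]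
    split_ifs <;> simp [*]

theorem P.sws (h : MH z Q R A D) (hs : R (e8 none) s) (hu : R4 R T u) {e : Code} (ne : ¬ ev T e.1)
    (hf : Dv R s f d) (k : P R u f S) : P R (u * s) f ((e.1 ∩ d) ∆ S) := by
  obtain ⟨r, q, ef, hr, hq⟩ := k
  obtain ⟨p, hp, q', v, a, ef', hq', hv, ha⟩ := hf
  obtain ⟨n, hn, hA⟩ := exists_mem_sgn h hs e
  obtain ⟨zs, sQ, -⟩ := cj_e8 h hs
  have k : n * u * n⁻¹ = u * s := by
    rw [((lx_of h zs).comm n hn u ((r4_iff h hs).2 ⟨_, hu⟩).2).resolve_left fun k => ?_, mul_assoc u,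
      ← comm_of_mem hn]
    · group
    · exact ne ((hu.sgn_iff h hA).1 (Or.inl (by rw [k, mul_inv_cancel_right])))
  obtain ⟨w, b, hw, hb, -⟩ := id hq
  have h2 := h.R_mul hq' (h.toMT.R_inv hw)
  have er : r = p * (q' * q⁻¹) := by rw [← mul_assoc, ← ef', ef, mul_inv_cancel_right]
  generalize q' * q⁻¹ = x at h2 er
  have m0 : R4 R (e.1 ∩ d) (n * x⁻¹ * n⁻¹ * x) := by
    refine ⟨_, fun i => if i ∈ e.1 then -(a i + 2 * b i) else 0,
      h.R_mul (h.R_conj hA (h.toMT.R_inv h2)) (h.toMT.R_of_cong h2 (cong_neg _).symm), fun i => ?_, fun i => ?_⟩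
    · simp only [AddSubgroup.coe_add, AddSubgroup.coe_neg, Pi.add_apply, Pi.neg_apply, sgn_apply, hv, hb]
      split_ifs <;> ring
    · rw [Finset.mem_inter, ← ha, Int.odd_iff, Int.odd_iff]
      beta_reduce
      split_ifs with hi <;> simp only [hi, true_and, false_and, iff_false] <;> omega
  refine ⟨n * r * n⁻¹, n * r⁻¹ * n⁻¹ * r * q, by rw [ef]; group, k ▸ (mem_O2C_conj n).2 hr, R4.mul h ?_ hq⟩
  rw [er, show n * (p * x)⁻¹ * n⁻¹ * (p * x) = n * x⁻¹ * (p⁻¹ * (n⁻¹ * p)) * x by group]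
  rcases (lx_of h zs).comm _ (inv_mem hn) p hp with e1 | e1 <;> rw [e1]
  · rwa [inv_mul_cancel_left]
  · rw [show n * x⁻¹ * (p⁻¹ * (p * n⁻¹ * s)) * x = n * x⁻¹ * n⁻¹ * (s * x) by group]
    rcases h.lx.comm s sQ x (h.R_mem h2) with e2 | e2 <;> rw [e2]
    · exact mul_assoc _ x s ▸ m0.mul_s h hs
    · rw [← mul_assoc, ← mul_assoc]
      exact (m0.mul_s h hs).mul_z h

theorem ok (k : F4 h F y1 y2 O1 O2) (hs : R (e8 none) s) (g : Good R F s (O1.1 ∪ O2.1))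
    (hu : R4 R (O1.1 ∩ O2.1) u) (hf : f ∈ F) (e : P R u f S) :
    (∀ c, A (sgn c) f → ev S c.1) ∧ ∀ d, Dv R s f d → ev S d := by
  obtain ⟨c0, d0, S0, r0, q0, e0, hr0, hq0, a0, v0, j0, l0, p1, p2⟩ := FourC2.decomp k hs g hu hf
  have hS := e.even
  obtain ⟨r, q, e1, hr, hq⟩ := e
  have m : q0 * q ∈ O2C u := by
    rw [← inv_eq_of_mul_eq_one_right (hq.sq h), show q0 * q⁻¹ = r0⁻¹ * r by
      rw [eq_inv_mul_iff_mul_eq, ← mul_assoc, ← e0, e1, mul_inv_cancel_right]]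
    exact mul_mem (inv_mem hr0) hr
  have hv : ∀ o ∈ Code, o.card = 8 → O1.1 ∩ O2.1 ⊆ o → ev (S0 ∆ S) o := fun o a b c =>
    hu.ev h k.c12 (hq0.mul h hq) m a b c
  have u1 : ev S c0.1 := (ev_l.1 (inn k.c1 k.c2 k.c12 (hv _ O1.2 k.c1 Finset.inter_subset_left)
    (hv _ O2.2 k.c2 Finset.inter_subset_right) c0.2 l0)).1 p1
  have u2 : ev S d0 := (ev_l.1 (out k.c1 k.c2 k.c12 (hq0.mul h hq).even hv v0.code j0)).1 p2
  refine ⟨fun c a => ?_, fun d v => ?_⟩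
  · rcases A_sgn_unique h a0 a with t | t <;> rw [t]
    exacts [u1, (ev_c hS).2 u1]
  · rcases v0.unique h hs v with t | t <;> rw [t]
    exacts [u2, (ev_c hS).2 u2]

theorem core (k : F4 h F y1 y2 O1 O2) (hs : R (e8 none) s) (g : Good R F s (O1.1 ∪ O2.1))
    (n : ¬ G1 F s) : ∃ u, R4 R (O1.1 ∩ O2.1) u ∧ F ≤ O2C u := by
  simp only [G1, not_forall] at n
  obtain ⟨f1, F1, f2, F2, n1, n2, n3⟩ := n
  obtain ⟨d1, v1, j1⟩ := g f1 F1
  obtain ⟨d2, v2, j2⟩ := g f2 F2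
  have z1 : d1 ≠ ∅ := fun e => n1 ((v1.mem_iff h hs).2 (Or.inl e))
  have z2 : d2 ≠ ∅ := fun e => n2 ((v2.mem_iff h hs).2 (Or.inl e))
  have z3 : d1 ∆ d2 ≠ ∅ := fun e => n3 (((v1.mul h hs v2 (FourB.cz k F2)).mem_iff h hs).2 (Or.inl e))
  obtain ⟨e, ne⟩ : ∃ e : Code, ¬ ev e.1 (O1.1 ∩ O2.1) := by
    obtain ⟨w, hw, n⟩ : ∃ w ∈ golayCode, ∑ i, w i * ind (O1.1 ∩ O2.1) i ≠ 0 := by
      by_contra! c
      have := Golay.card_of_mem_code ((mem_supports_iff _).2 (mem_code_of_orth c))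
      have := k.c12
      omega
    rw [Golay.dot_eq_card_inter, support_ind, Ne, ZMod.natCast_eq_zero_iff, ← even_iff_two_dvd] at n
    exact ⟨⟨_, (support_mem_supports_iff w).2 hw⟩, n⟩
  have ne' := fun k => ne (ev_comm.1 k)
  have nd : ¬ ev e.1 (d1 ∩ d2) := by
    have a1 := ((FourC2.four_golay k.c1 k.c2 k.c12 v1.code j1).resolve_left z1).1
    have a2 := ((FourC2.four_golay k.c1 k.c2 k.c12 v2.code j2).resolve_left z2).1
    have j3 := Finset.disjoint_union_left.2 ⟨j1, j2⟩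
    have a3 := ((FourC2.four_golay k.c1 k.c2 k.c12 (Golay.symmDiff_mem_code v1.code v2.code)
      (j3.mono_left symmDiff_le_sup)).resolve_left z3).1
    have a4 := Golay.card_symmDiff_add d1 d2
    have a5 := Finset.card_union_add_card_inter d1 d2
    have a6 := card12 k.c1 k.c2 k.c12
    have a7 := Golay.card_of_mem_code e.2
    rwa [← ev_u e.2 v1.code v2.code, Finset.eq_of_subset_of_card_le (sub j3) (by omega),
      ev_c (by rw [Nat.even_iff]; omega), ev_u e.2 O1.2 O2.2]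
  have ex : ∀ u, R4 R (O1.1 ∩ O2.1) u → ∀ f ∈ F, ∃ S, P R u f S := fun u hu f hf =>
    let ⟨_, _, S, r, q, a, b, c, _⟩ := FourC2.decomp k hs g hu hf
    ⟨S, r, q, a, b, c⟩
  obtain ⟨u, hu, S1, p1, w1⟩ : ∃ u, R4 R (O1.1 ∩ O2.1) u ∧ ∃ S, P R u y1 S ∧ ev S O2.1 := by
    obtain ⟨t, ht⟩ := exists_r4 h (S := O1.1 ∩ O2.1) (by rw [k.c12]; decide)
    obtain ⟨S, p⟩ := ex t ht y1 k.m1
    by_cases w : ev S O2.1
    · exact ⟨t, ht, S, p, w⟩
    · exact ⟨_, ht.mul_z h, _, p.swz h ht ne' k.a1,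
        ev_l.2 (iff_of_false (by rwa [ev, Finset.inter_assoc]) w)⟩
  obtain ⟨u, hu, ⟨S1, p1, w1⟩, S2, p2, w2⟩ : ∃ u, R4 R (O1.1 ∩ O2.1) u ∧ (∃ S, P R u y1 S ∧ ev S O2.1) ∧
      ∃ S, P R u f1 S ∧ ev S d2 := by
    obtain ⟨S, p⟩ := ex u hu f1 F1
    by_cases w : ev S d2
    · exact ⟨u, hu, ⟨S1, p1, w1⟩, S, p, w⟩
    · obtain ⟨d, v, j⟩ := g y1 k.m1
      refine ⟨_, hu.mul_s h hs, ⟨_, p1.sws h hs hu ne' v, ev_l.2 (iff_of_true ?_ w1)⟩, _, p.sws h hs hu ne' v1,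
        ev_l.2 (iff_of_false (by rwa [ev, Finset.inter_assoc]) w)⟩
      rw [ev, Finset.inter_assoc, Finset.disjoint_iff_inter_eq_empty.1 (j.mono_right Finset.subset_union_right)]
      exact ev_e
  have pr1 : ∀ f0 ∈ F, ∀ S0 (c0 : Code), P R u f0 S0 → A (sgn c0) f0 → ev S0 O1.1 → ev S0 O2.1 →
      ∀ f ∈ F, ∀ S, P R u f S → ev S c0.1 := fun f0 F0 S0 c0 p0 a0 b1 b2 f hf S p => by
    obtain ⟨c, -, -, -, -, -, -, -, a, -, -, l, -⟩ := FourC2.decomp k hs g hu hf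
    have t := (ok k hs g hu (mul_mem F0 hf) (p0.mul h hu p)).1 ⟨_, Golay.symmDiff_mem_code c0.2 c.2⟩
      (A_sgn_mul h a0 a rfl)
    exact (ev_r.1 ((ev_l.1 t).1 (ev_r.2 (iff_of_true ((ok k hs g hu F0 p0).1 c0 a0)
      (inn k.c1 k.c2 k.c12 b1 b2 c.2 l))))).2 ((ok k hs g hu hf p).1 c a)
  have pr2 : ∀ f0 ∈ F, ∀ S0 d0, P R u f0 S0 → Dv R s f0 d0 → ev S0 d1 → ev S0 d2 →
      ∀ f ∈ F, ∀ S, P R u f S → ev S d0 := fun f0 F0 S0 d0 p0 a0 b1 b2 f hf S p => by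
    obtain ⟨d, v, j⟩ := g f hf
    have t := (ok k hs g hu (mul_mem F0 hf) (p0.mul h hu p)).2 _ (a0.mul h hs v (FourB.cz k hf))
    exact (ev_r.1 ((ev_l.1 t).1 (ev_r.2 (iff_of_true ((ok k hs g hu F0 p0).2 d0 a0)
      (tri k.c1 k.c2 k.c12 v1.code v2.code j1 j2 z1 z2 z3 b1 b2 v.code j))))).2 ((ok k hs g hu hf p).2 d v)
  have r1 := pr1 y1 k.m1 S1 O1 p1 k.a1 ((ok k hs g hu k.m1 p1).1 O1 k.a1) w1
  obtain ⟨S3, p3⟩ := ex u hu y2 k.m2
  have r2 := pr1 y2 k.m2 S3 O2 p3 k.a2 (r1 _ k.m2 _ p3) ((ok k hs g hu k.m2 p3).1 O2 k.a2)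
  have r3 := pr2 f1 F1 S2 d1 p2 v1 ((ok k hs g hu F1 p2).2 d1 v1) w2
  obtain ⟨S4, p4⟩ := ex u hu f2 F2
  have r4 := pr2 f2 F2 S4 d2 p4 v2 (r3 _ F2 _ p4) ((ok k hs g hu F2 p4).2 d2 v2)
  refine ⟨u, hu, fun f hf => ?_⟩
  obtain ⟨S, p⟩ := ex u hu f hf
  obtain ⟨r, q, rfl, hr, hq⟩ := id p
  exact mul_mem hr (hu.mem_of_ev h k.c12 hq fun d a b c => all k.c1 k.c2 hq.even (r1 _ hf _ p) (r2 _ hf _ p) k.c12
    (fun d a b => tri k.c1 k.c2 k.c12 v1.code v2.code j1 j2 z1 z2 z3 (r3 _ hf _ p) (r4 _ hf _ p) a b) a b c)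

end CL.ML.FourC3
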