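import Cfsg.Agent.SPOR.ML.ArkA

/-!
Maximal 2-local subgroups of the Monster: the standard frame and the arks of octads.
-/

set_option autoImplicit false
set_option linter.dupNamespace false
set_option linter.unusedSectionVars false

namespace CL.ML

open Cfsg CL.Leech CL.MT CL.LX CL.MSS CL.MP Subgroup
open CL.Golay (Code)
open scoped symmDiff

variable {G : Type*} [Group G] [Finite G] {z : G} {Q : Subgroup G} {R : leechLattice → G → Prop}
  {A : Co0 → G → Prop} {D : Set G}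

open scoped Pointwise

namespace FrA

omit [Finite G] in
theorem pr_eq (h : MH z Q R A D) {k k' : Co0} {y : G} (a : A k y) (b : A k' y) : Co1T.pr k = Co1T.pr k' := by
  rw [← mul_inv_eq_one, ← map_inv, ← map_mul, Co1T.pr_eq_one, ← CL.Leech.mem_center_iff]
  exact (h.A_ker (h.A_mul a (h.A_inv b))).1 (by rw [mul_inv_cancel]; exact one_mem _)

omit [Finite G] in
theorem A_of_pr (h : MH z Q R A D) {k k' : Co0} {y : G} (a : A k y) (e : Co1T.pr k' = Co1T.pr k) : A k' y := by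
  rcases Co1T.pr_eq_iff.1 e with rfl | rfl
  exacts [a, h.A_center a neg1_mem_center]

theorem sgn_compl {c d : Code} (e : d.1 = c.1ᶜ) : sgn d = neg1 * sgn c := by
  rw [← StdCo.sgn_c1, StdCo.sgn_mul]
  exact congrArg sgn (Subtype.ext (e.trans (top_symmDiff c.1).symm))

omit [Finite G] in
theorem conj_Q (h : MH z Q R A D) {k : Co0} {c x : G} (a : A k c) (hx : x ∈ Q) : c * x * c⁻¹ ∈ Q :=
  let ⟨_, hv⟩ := h.ex_v x hx; h.R_mem (h.R_conj a hv)

theorem LO_perm (σ : M24) {O : Finset GolayPt} {v : leechLattice} (hv : LO O v) :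
    LO (σ.1 • O) (permHom σ • v) := fun p hp => by
  rw [permHom_apply]
  exact hv _ fun q => hp ((StdCo.mem_smul_iff _ _ _).2 q)

end FrA

/-- `E8C.oct_t.ca`, `CA.exists_conj`, `CA.conj`; see `red` in `MR.conj_into_Q` -/
theorem octT_iff (h : MH z Q R A D) {y : G} : OctT z A z y ↔ ∃ k, A k y ∧ Co1T.CA (Co1T.pr k) := by
  constructor
  · rintro ⟨g, hg, e⟩
    obtain ⟨m, hm⟩ := h.ex_g g (mul_inv_eq_iff_eq_mul.1 hg)
    refine ⟨m * E8C.t * m⁻¹, ?_, ?_⟩
    · have := h.A_mul (h.A_mul hm e) (h.A_inv hm)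
      rwa [show g * (g⁻¹ * y * g) * g⁻¹ = y by group] at this
    · rw [map_mul, map_mul, map_inv]
      exact E8C.oct_t.ca.conj _
  · rintro ⟨k, hk, ca⟩
    obtain ⟨m, hm⟩ := ca.exists_conj E8C.oct_t.ca
    obtain ⟨m, rfl⟩ := Co1T.pr_surj m
    obtain ⟨d, hd⟩ := h.ex_c m
    refine ⟨d⁻¹, by rw [inv_inv, mul_assoc, ← h.A_comm hd, inv_mul_cancel_left], ?_⟩
    rw [inv_inv]
    exact FrA.A_of_pr h (h.A_mul (h.A_mul hd hk) (h.A_inv hd)) (by rw [← hm, map_mul, map_mul, map_inv])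

theorem octT_sgn (h : MH z Q R A D) {c : Code} {y : G} (hy : A (sgn c) y) :
    OctT z A z y ↔ c.1.card = 8 ∨ c.1.card = 16 := by
  rw [octT_iff h, ← Co1T.oct_sgn_iff]
  exact ⟨fun ⟨k, hk, ca⟩ => (FrA.pr_eq h hk hy ▸ ca).oct (Co1T.sgn_mem_A0 c), fun e => ⟨_, hy, e.ca⟩⟩

theorem A_compl (h : MH z Q R A D) {c d : Code} {y : G} (hy : A (sgn c) y) (e : d.1 = c.1ᶜ) :
    A (sgn d) y := by
  rw [FrA.sgn_compl e]
  exact h.A_center hy neg1_mem_center

theorem A_sgn_mul (h : MH z Q R A D) {c d e : Code} {x y : G} (hx : A (sgn c) x) (hy : A (sgn d) y)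
    (he : e.1 = c.1 ∆ d.1) : A (sgn e) (x * y) := by
  rw [show e = StdCo.cx c d from Subtype.ext he, ← StdCo.sgn_mul]
  exact h.A_mul hx hy

theorem mem_Q_iff_sgn (h : MH z Q R A D) {c : Code} {y : G} (hy : A (sgn c) y) :
    y ∈ Q ↔ c.1 = ∅ ∨ c.1 = Finset.univ := by
  rw [h.A_ker hy, CL.Leech.mem_center_iff, ← StdCo.sgn_c0, ← StdCo.sgn_c1]
  exact or_congr ⟨fun e => congrArg Subtype.val (StdCo.sgn_inj e), fun e => congrArg sgn (Subtype.ext e)⟩
    ⟨fun e => congrArg Subtype.val (StdCo.sgn_inj e), fun e => congrArg sgn (Subtype.ext e)⟩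

theorem A_sgn_unique (h : MH z Q R A D) {c d : Code} {y : G} (hc : A (sgn c) y) (hd : A (sgn d) y) :
    d.1 = c.1 ∨ d.1 = c.1ᶜ := by
  rcases Co1T.pr_eq_iff.1 (FrA.pr_eq h hd hc) with e | e
  · exact Or.inl (congrArg Subtype.val (StdCo.sgn_inj e))
  · rw [← FrA.sgn_compl (d := ⟨_, Golay.compl_mem_code c.2⟩) rfl] at e
    exact Or.inr (congrArg Subtype.val (StdCo.sgn_inj e))

theorem cj_e8 (h : MH z Q R A D) {s : G} (hs : R (e8 none) s) : IsConj z s ∧ s ∈ Q ∧ s ≠ z := by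
  exact ⟨h.conj_of_64 hs (sqNorm_e8 _), h.R_mem hs, (e8_ne h.toMT hs).2⟩

/-- `norm_of_conj`, `conj_of_norm` -/
theorem move (h : MH z Q R A D) {x : G} (hx : x ∈ Q) (hz : IsConj z x) (hne : x ≠ z) :
    ∃ c, c * z = z * c ∧ R (e8 none) (c * x * c⁻¹) := by
  obtain ⟨v, hv, n⟩ := h.norm_of_conj hx hz hne
  obtain ⟨s, hs⟩ := h.ex_x (e8 none)
  obtain ⟨c, c1, c2⟩ := h.conj_of_norm hv hs (Or.inl ⟨n, sqNorm_e8 _⟩)
  exact ⟨c, c1, c2 ▸ hs⟩

/-- `lifts_e8`, `exists_sgn` -/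
theorem sgn_of_mem (h : MH z Q R A D) {s p : G} (hs : R (e8 none) s) (hp : p ∈ O2C s)
    (hc : p * z = z * p) : ∃ c, A (sgn c) p := by
  obtain ⟨g, rfl⟩ := isConj_iff.1 (cj_e8 h hs).1
  rw [O2C_cj h] at hp
  obtain ⟨k, hk⟩ := h.ex_g p hc
  obtain ⟨c, rfl⟩ := exists_sgn ((h.lifts_e8 hs).le (show k ∈ h.toMT.lifts (g •ᶜ Q) from ⟨p, hp, hk⟩))
  exact ⟨c, hk⟩

theorem exists_mem_sgn (h : MH z Q R A D) {s : G} (hs : R (e8 none) s) (c : Code) :
    ∃ p ∈ O2C s, A (sgn c) p := by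
  obtain ⟨g, rfl⟩ := isConj_iff.1 (cj_e8 h hs).1
  rw [O2C_cj h]
  exact (h.lifts_e8 hs).ge (sgn_mem c)

theorem oa_A0 (h : MH z Q R A D) : OA h ⟨_, Golay.O0_mem.1⟩ (A0 h) := by
  refine ⟨⟨1, (cj_one _).symm⟩, Golay.O0_mem.2, z_mem_A0 h, fun b hb hQ => ?_, fun x => ?_⟩
  · exact A_compl h (c := E8C.cT) (A0_ovr h hb hQ) (compl_compl _).symm
  · rw [mem_A0_inf h]
    exact exists_congr fun v => and_congr_left' E8C.mem_L

theorem OA.perm {h : MH z Q R A D} {O O' : Code} {E : Subgroup G} (e : OA h O E) {σ : M24} {c : G}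
    (hc : A (permHom σ) c) (hO : O'.1 = σ.1 • O.1) : OA h O' (c •ᶜ E) := by
  obtain rfl : O' = StdCo.cs σ O := Subtype.ext hO
  refine ⟨e.ark.conj c, (Finset.card_smul_finset _ _).trans e.card, ?_, fun b hb hQ => ?_, fun x => ?_⟩
  · have := conj_mem_cj (g := c) e.z_mem
    rwa [h.A_comm hc, mul_inv_cancel_right] at this
  · obtain ⟨b', hb', rfl⟩ := mem_cj'.1 hb
    rw [← StdCo.conj_sgn σ StdCo.c0 O]
    exact h.A_mul (h.A_mul hc (e.ovr b' hb' fun q => hQ (FrA.conj_Q h hc q))) (h.A_inv hc)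
  · constructor
    · rintro ⟨hx, hQ⟩
      obtain ⟨b, hb, rfl⟩ := mem_cj'.1 hx
      have := FrA.conj_Q h (h.A_inv hc) hQ
      rw [show c⁻¹ * (c * b * c⁻¹) * c⁻¹⁻¹ = b by group] at this
      obtain ⟨v, v1, v2⟩ := (e.inf b).1 ⟨hb, this⟩
      exact ⟨_, FrA.LO_perm σ v1, h.R_conj hc v2⟩
    · rintro ⟨v, v1, v2⟩
      have a := FrA.LO_perm σ⁻¹ v1
      rw [map_inv] at a
      have b := h.R_conj (h.A_inv hc) v2
      rw [inv_inv] at b
      exact ⟨mem_cj.2 ((e.inf _).2 ⟨_, fun p hp => a p fun q => hp (by simpa [StdCo.cs] using q), b⟩).1, h.R_mem v2⟩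

/-- `M24` is transitive on octads -/
theorem exists_oa (h : MH z Q R A D) {O : Code} (hO : O.1.card = 8) : ∃ E, OA h O E := by
  obtain ⟨g, hg, e⟩ := Golay.exists_smul_octad Golay.O0_mem ⟨O.2, hO⟩
  obtain ⟨c, hc⟩ := h.ex_c (permHom ⟨g, hg⟩)
  exact ⟨_, (oa_A0 h).perm hc e.symm⟩

/-- `IsArk.eq_Ak` -/
theorem OA.eq_Ak {h : MH z Q R A D} {O : Code} {E : Subgroup G} (e : OA h O E) {y : G}
    (hy : A (sgn O) y) : Ak z y = E := by
  obtain ⟨b, hb, -, b1⟩ := e.ark.exists_not_mem e.z_mem (IsConj.refl z)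
  refine (e.ark.eq_Ak e.z_mem (IsConj.refl z) hb b1 ?_).1
  rw [O2C_z h] at b1 ⊢
  have := h.A_mul (e.ovr b hb b1) hy
  rw [Sgn_sq (sgn_mem O)] at this
  exact (h.A_ker this).2 (one_mem _)

theorem OA.unique {h : MH z Q R A D} {O : Code} {E E' : Subgroup G} (e : OA h O E) (e' : OA h O E') :
    E = E' := by
  obtain ⟨y, hy⟩ := h.ex_c (sgn O)
  rw [← e.eq_Ak hy, e'.eq_Ak hy]

theorem OA.e8_mem {h : MH z Q R A D} {O : Code} {E : Subgroup G} (e : OA h O E) {s : G}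
    (hs : R (e8 none) s) : s ∈ E := by
  obtain ⟨i, hi⟩ := Finset.card_pos.1 (show 0 < O.1.card by rw [e.card]; norm_num)
  exact ((e.inf s).2 ⟨e8 i, fun p hp => by
    rw [coe_e8, Pi.single_eq_of_ne (ne_of_mem_of_not_mem hi hp).symm], h.R_of_cong hs (cong_e8 _ _)⟩).1

/-- take `b ∈ E \ Q`; one of `b ⊥ s`, `b z ⊥ s`... (`IsArk.mul_mem_O2C` for `a := s`: `z ∈ Q_s`, so use
`b ∈ Q_s` or `b ∈ Q_{s z}` from `AC.perp`; `s z` also lies over `e8`); `sgn_of_mem`, `IsArk.octT`,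
`octT_sgn`, `A_compl`, `exists_oa`, `OA.eq_Ak`, `IsArk.eq_Ak`. -/
theorem oa_of_mem (h : MH z Q R A D) {E : Subgroup G} (e : IsArk h E) (hz : z ∈ E) {s : G} (hE : s ∈ E)
    (hs : R (e8 none) s) : ∃ O, OA h O E := by
  obtain ⟨b, hb, -, b1⟩ := e.exists_not_mem hz (IsConj.refl z)
  have hc : ∃ c, A (sgn c) b := by
    by_cases b2 : b ∈ O2C s
    · exact sgn_of_mem h hs b2 (e.comm hb hz)
    refine sgn_of_mem h (h.R_z hs) ?_ (e.comm hb hz)
    obtain ⟨φ, K⟩ := e.ac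
    have c1 := (cj_e8 h hs).1
    have c2 := (cj_e8 h (h.R_z hs)).1
    obtain ⟨a, ha⟩ := (K.mem z).1 hz
    obtain ⟨u, rfl⟩ := (K.mem s).1 hE
    obtain ⟨v, rfl⟩ := (K.mem b).1 hb
    have c0 := (K.fus a).1 (ha.symm ▸ IsConj.refl z)
    have c3 := (K.fus u).1 c1
    have c4 : φ u * z = φ (u + a) := by rw [K.add, ha]
    rw [c4] at c2 ⊢
    have c5 := (K.fus _).1 c2
    rw [← ha, K.perp a v c0.1 c0.2] at b1
    rw [K.perp u v c3.1 c3.2] at b2
    rw [K.perp _ v c5.1 c5.2, QuadraticMap.polar_add_left]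
    revert b1 b2
    generalize QuadraticMap.polar q10 a v = x
    generalize QuadraticMap.polar q10 u v = y
    revert x y
    decide
  obtain ⟨c, hc⟩ := hc
  have bb : b * b ∈ O2C z := e.sq hb ▸ one_mem _
  have key : ∀ O : Code, O.1.card = 8 → A (sgn O) b → OA h O E := fun O hO hA => by
    obtain ⟨E', e'⟩ := exists_oa h hO
    rwa [← e'.eq_Ak hA, (e.eq_Ak hz (IsConj.refl z) hb b1 bb).1] at e'
  rcases (octT_sgn h hc).1 (e.octT hz (IsConj.refl z) hb b1 bb) with a | a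
  · exact ⟨c, key c a hc⟩
  · exact ⟨⟨_, Golay.compl_mem_code c.2⟩, key _ (by rw [Finset.card_compl, a]; rfl) (A_compl h hc rfl)⟩

/-- `fus_W` moved by a permutation -/
theorem isConj_iff_LO (h : MH z Q R A D) {O : Code} (hO : O.1.card = 8) {v : leechLattice} {x : G}
    (hv : LO O.1 v) (hx : R v x) : IsConj z x ↔ x ≠ 1 ∧ (64 : ℤ) ∣ sqNorm v.1 := by
  obtain ⟨g, hg, e⟩ := Golay.exists_smul_octad ⟨O.2, hO⟩ Golay.O0_mem
  obtain ⟨c, hc⟩ := h.ex_c (permHom ⟨g, hg⟩)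
  have := fus_W h.toMT (E8C.mem_L.2 (e ▸ FrA.LO_perm ⟨g, hg⟩ hv)) (h.R_conj hc hx)
  rw [sqNorm_smul, Ne, conj_eq_one_iff] at this
  have c1 : IsConj x (c * x * c⁻¹) := isConj_iff.2 ⟨c, rfl⟩
  exact ⟨fun a => this.1 (a.trans c1), fun a => (this.2 a).trans c1.symm⟩

theorem LO.four_or {O : Code} (hO : O.1.card = 8) {v : leechLattice} (hv : LO O.1 v) :
    (∀ p, (4 : ℤ) ∣ v.1 p) ∨ ∀ p ∈ O.1, v.1 p % 4 = 2 := by
  obtain ⟨m, -, h1, h2, -⟩ := (mem_iff' _).1 v.2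
  obtain ⟨p, hp⟩ := Finset.card_pos.1 (show 0 < O.1ᶜ.card by rw [Finset.card_compl, hO]; decide)
  obtain rfl : m = 0 := by rw [← h1 p, hv _ (Finset.mem_compl.1 hp)]; rfl
  have h5 := (support_mem_supports_iff _).2 h2
  have h6 : support₂ (red fun i => v.1 i / 2) ⊆ O.1 := fun k hk => by
    by_contra h
    rw [mem_support_red, hv k h] at hk
    omega
  have h7 := Finset.card_le_card h6
  have h8 := Golay.card_of_mem_code h5
  rcases (by omega : (support₂ (red fun i => v.1 i / 2)).card = 0 ∨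
    O.1.card ≤ (support₂ (red fun i => v.1 i / 2)).card) with h | h
  · refine Or.inl fun i => ?_
    have h10 : i ∉ support₂ (red fun i => v.1 i / 2) := by
      rw [Finset.card_eq_zero.1 h]; exact Finset.notMem_empty i
    rw [mem_support_red] at h10
    have := h1 i
    omega
  · refine Or.inr fun i hi => ?_
    rw [← Finset.eq_of_subset_of_card_le h6 h, mem_support_red] at hi
    have := h1 i
    omega

/-- `v - w = 2 u`, `u` has a zero coordinate so it is even, `v = 4 a`, `w = 4 b`, the odd coordinates of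
`a - b` form a code word, which meets `O₁` in `0`, `4` or `8` points (it is disjoint from the octad
`(O₁ ∪ O₂)ᶜ`). -/
theorem LO.norm {O1 O2 : Code} (h1 : O1.1.card = 8) (h2 : O2.1.card = 8) (hd : Disjoint O1.1 O2.1)
    {v w : leechLattice} (hv : LO O1.1 v) (hw : LO O2.1 w) (e : Cong v w) : (64 : ℤ) ∣ sqNorm v.1 := by
  obtain ⟨u, hu⟩ := e
  have hu' : ∀ p, v.1 p - w.1 p = 2 * u.1 p := fun p => by
    simpa using congrFun (congrArg Subtype.val hu) p
  obtain ⟨m, -, k1, k2, -⟩ := (mem_iff' _).1 u.2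
  have n1 : (O1.1 ∆ O2.1).card = 16 := by
    have := Golay.card_symmDiff_add O1.1 O2.1
    rw [Finset.disjoint_iff_inter_eq_empty.1 hd, Finset.card_empty] at this
    omega
  have n2 : O1.1 ∆ O2.1 = O1.1 ∪ O2.1 := hd.symmDiff_eq_sup
  have z0 : ∀ p ∉ O1.1 ∪ O2.1, u.1 p = 0 := fun p hp => by
    rw [Finset.mem_union, not_or] at hp
    have := hu' p
    rw [hv p hp.1, hw p hp.2] at this
    omega
  obtain ⟨p, hp⟩ := Finset.card_pos.1 (show 0 < (O1.1 ∪ O2.1)ᶜ.card by rw [Finset.card_compl, ← n2, n1]; decide)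
  obtain rfl : m = 0 := by rw [← k1 p, z0 _ (Finset.mem_compl.1 hp)]; rfl
  have h5 := (support_mem_supports_iff _).2 k2
  have mem := mem_support_red fun i => u.1 i / 2
  generalize support₂ (red fun i => u.1 i / 2) = c at h5 mem
  have h6 : c ⊆ O1.1 ∪ O2.1 := fun k hk => by
    by_contra h
    rw [mem, z0 k h] at hk
    omega
  have a0 := Golay.card_of_mem_code h5
  have a1 := Golay.card_of_mem_code (Golay.symmDiff_mem_code h5 O1.2)
  have a2 := Golay.card_of_mem_code (Golay.symmDiff_mem_code h5 O2.2)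
  have a3 := Golay.card_of_mem_code (Golay.symmDiff_mem_code h5 (Golay.symmDiff_mem_code O1.2 O2.2))
  have b1 := Golay.card_symmDiff_add c O1.1
  have b2 := Golay.card_symmDiff_add c O2.1
  have b3 := Golay.card_symmDiff_add c (O1.1 ∆ O2.1)
  have b4 : c ∩ (O1.1 ∆ O2.1) = c := by rw [n2]; exact Finset.inter_eq_left.2 h6
  have b5 : c.card = (c ∩ O1.1).card + (c ∩ O2.1).card := by
    rw [← Finset.card_union_of_disjoint (hd.mono Finset.inter_subset_right Finset.inter_subset_right),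
      ← Finset.inter_union_distrib_left, Finset.inter_eq_left.2 h6]
  rw [b4, n1] at b3
  have b6 : 4 ∣ (c ∩ O1.1).card := by omega
  have : (64 : ℤ) ∣ ∑ i, (v.1 i ^ 2 - if i ∈ c ∩ O1.1 then 16 else 0) := Finset.dvd_sum fun i _ => by
    by_cases hi : i ∈ O1.1
    · have e1 := hu' i
      have e2 := k1 i
      rw [hw i (Finset.disjoint_left.1 hd hi)] at e1
      simp only [Finset.mem_inter, hi, and_true, mem]
      split_ifs with e3
      · obtain ⟨a, ha⟩ : 8 ∣ v.1 i - 4 := by omega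
        exact ⟨a * a + a, by rw [eq_add_of_sub_eq ha]; ring⟩
      · obtain ⟨a, ha⟩ : 8 ∣ v.1 i := by omega
        exact ⟨a * a, by rw [ha]; ring⟩
    · simp [hv i hi, hi]
  rw [Finset.sum_sub_distrib, Finset.sum_ite_mem, Finset.univ_inter, Finset.sum_const, nsmul_eq_mul] at this
  unfold sqNorm
  omega

/-- `exists_mono_of`, `fix_pairs` -/
theorem OA.fix {h : MH z Q R A D} {O : Code} {E : Subgroup G} (e : OA h O E) {k : Co0} {g : G}
    (hg : A k g) (ht : ∀ w ∈ E, w ∈ Q → g * w * g⁻¹ = w ∨ g * w * g⁻¹ = w * z) :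
    ∃ σ c, k = mono σ c ∧ (∀ i ∈ O.1, σ.1 i = i) ∧ (O.1 ⊆ c.1 ∨ Disjoint O.1 c.1) := by
  have key : ∀ v, LO O.1 v → Cong (k • v) v := fun v hv => by
    obtain ⟨x, hx⟩ := h.ex_x v
    obtain ⟨a, b⟩ := (e.inf x).2 ⟨v, hv, hx⟩
    exact ((h.R_cong hx (h.R_conj hg hx)).2 (ht x a b)).symm
  obtain ⟨s, hs⟩ := h.ex_x (e8 none)
  obtain ⟨σ, c, rfl⟩ := exists_mono_of ((h.R_cong hs (h.R_conj hg hs)).2 (ht s (e.e8_mem hs) (h.R_mem hs))).symm
  obtain ⟨h1, h2⟩ := fix_pairs (σ := σ) (c := c) (S := O.1) (by rw [e.card]; norm_num) fun i hi j hj _ =>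
    key _ fun p hp => by
      rw [f44_apply, if_neg (ne_of_mem_of_not_mem hi hp).symm, if_neg (ne_of_mem_of_not_mem hj hp).symm]; rfl
  refine ⟨σ, c, rfl, h1, or_iff_not_imp_right.2 fun n i hi => ?_⟩
  obtain ⟨j, hj, hj'⟩ := Finset.not_disjoint_iff.1 n
  exact (h2 j hj i hi).1 hj'

theorem OA.triv_iff {h : MH z Q R A D} {O c : Code} {E : Subgroup G} (e : OA h O E) {g : G}
    (hg : A (sgn c) g) : (∀ w ∈ E, w ∈ Q → g * w * g⁻¹ = w ∨ g * w * g⁻¹ = w * z) ↔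
      O.1 ⊆ c.1 ∨ Disjoint O.1 c.1 := by
  constructor
  · intro ht
    obtain ⟨σ, c', a, -, b⟩ := e.fix hg ht
    rwa [(StdCo.mono_inj a).2]
  · intro hc w hw hQ
    obtain ⟨v, v1, v2⟩ := (e.inf w).1 ⟨hw, hQ⟩
    refine (h.R_cong v2 (h.R_conj hg v2)).1 ?_
    rcases hc with hc | hc
    · rw [show sgn c • v = -v from Subtype.ext (funext fun p => by
        rw [sgn_apply]
        split_ifs with hp
        · rfl
        · simp [v1 p fun q => hp (hc q)])]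
      exact (cong_neg v).symm
    · rw [show sgn c • v = v from Subtype.ext (funext fun p => by
        rw [sgn_apply]
        split_ifs with hp
        · simp [v1 p fun q => Finset.disjoint_left.1 hc q hp]
        · rfl)]
      exact Cong.refl v

end CL.ML
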