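import Cfsg.Agent.SPOR.ML.FrA

/-!
Maximal 2-local subgroups of the Monster: the extraspecial group of an involution over a tetrad.
-/

set_option autoImplicit false
set_option linter.dupNamespace false

namespace CL.ML.FrB2

open Cfsg CL.Leech CL.MT CL.LX CL.MSS CL.MP Subgroup
open CL.Golay (Code)
open scoped symmDiff

variable {G : Type*} [Group G] [Finite G] {z : G} {Q : Subgroup G} {R : leechLattice → G → Prop}
  {A : Co0 → G → Prop} {D : Set G} {S S' T : Finset GolayPt} {s t x x' g : G}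

theorem par (X Y Z : Finset GolayPt) : Even ((X ∆ Y) ∩ Z).card ↔ (Even (X ∩ Z).card ↔ Even (Y ∩ Z).card) := by
  have := Golay.card_symmDiff_add (X ∩ Z) (Y ∩ Z)
  rw [show (X ∆ Y) ∩ Z = (X ∩ Z) ∆ (Y ∩ Z) from inf_symmDiff_distrib_right X Y Z]
  simp only [Nat.even_iff]
  omega

theorem norm_eq {w : GolayPt → ℤ} {n : ℤ} (h : ∀ p, w p ^ 2 = if p ∈ S then n else 0) : sqNorm w = n * S.card := by
  simp [sqNorm, h, mul_comm]

theorem exists_odd (hT : T.card = 4) : ∃ c ∈ Code, ¬ Even (c ∩ T).card := by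
  by_contra! k
  have := Golay.card_of_mem_code ((mem_supports_iff T).2 (mem_code_of_orth fun v hv => by
    rw [Golay.dot_eq_card_inter, support_ind]
    exact (ZMod.natCast_eq_zero_iff_even).2 (k _ ((support_mem_supports_iff v).2 hv))))
  omega

omit [Finite G] in
theorem nf (h : MH z Q R A D) (e : R4 R S x) (p0 : GolayPt) : ∃ (u : leechLattice) (k : ℤ), (k = 0 ∨ k = 1) ∧ R u x ∧
    ∀ p, u.1 p = 4 * ((if p ∈ S then 1 else 0) - 2 * if p = p0 then k else 0) := by
  obtain ⟨v, a, hv, ha, ho⟩ := e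
  let c : GolayPt → ℤ := fun p => a p / 2 + if p = p0 then (∑ q, a q / 2) % 2 else 0
  have hc : (∑ p, c p) % 2 = 0 := by
    simp only [c, Finset.sum_add_distrib, Finset.sum_ite_eq', Finset.mem_univ, if_true]
    omega
  refine ⟨v - 2 • ⟨_, four_mem hc⟩, _, Int.emod_two_eq_zero_or_one (∑ q, a q / 2), h.R_of_cong hv ⟨_, sub_sub_cancel _ _⟩,
    fun p => ?_⟩
  have := ho p
  rw [Int.odd_iff] at this
  simp only [two_nsmul, AddSubgroup.coe_sub, AddSubgroup.coe_add, Pi.sub_apply, Pi.add_apply, Pi.smul_apply, ha, c,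
    smul_eq_mul]
  by_cases hp : p ∈ S <;> simp only [hp, if_true, if_false, iff_true, iff_false] at this ⊢ <;> omega

omit [Finite G] in
theorem norm (h : MH z Q R A D) (e : R4 R S x) (h0 : 0 < S.card) : ∃ u : leechLattice, R u x ∧ sqNorm u.1 = 16 * S.card := by
  obtain ⟨p0, h0⟩ := Finset.card_pos.1 h0
  obtain ⟨u, k, hk, hu, hp⟩ := nf h e p0
  refine ⟨u, hu, norm_eq fun p => ?_⟩
  rw [hp]
  by_cases e : p = p0
  · rcases hk with rfl | rfl <;> simp [e, h0]
  · by_cases e' : p ∈ S <;> simp [e, e']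

omit [Finite G] in
theorem four (h : MH z Q R A D) (e : R4 R T t) (hT : T.card = 4) : IsConj z t ∧ t ≠ z := by
  obtain ⟨u, hu, n⟩ := norm h e (by omega)
  rw [hT] at n
  exact ⟨h.conj_of_64 hu n, (h.ne_of_norm hu n.le (by rw [n]; decide)).2⟩

omit [Finite G] in
theorem mul (h : MH z Q R A D) (e : R4 R S x) (e' : R4 R S' x') : R4 R (S ∆ S') (x * x') := by
  obtain ⟨v, a, hv, ha, ho⟩ := e
  obtain ⟨w, b, hw, hb, hp⟩ := e'
  refine ⟨v + w, a + b, h.R_mul hv hw, fun p => by simp [ha, hb, mul_add], fun p => ?_⟩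
  rw [Pi.add_apply, Finset.mem_symmDiff, ← ho, ← hp]
  simp only [Int.odd_iff]
  omega

omit [Finite G] in
theorem code (h : MH z Q R A D) (e : R4 R S x) {c : Finset GolayPt} (hc : c ∈ Code) : R4 R (S ∆ c) x := by
  obtain ⟨v, a, hv, ha, ho⟩ := e
  refine ⟨v + 2 • ⟨_, two_lift_mem ((mem_supports_iff c).1 hc)⟩, a + lift (ind c),
    h.R_of_cong hv (Cong.symm ⟨_, add_sub_cancel_left _ _⟩), fun p => by simp [ha]; ring, fun p => ?_⟩
  rw [Pi.add_apply, Finset.mem_symmDiff, ← ho]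
  by_cases hp : p ∈ c <;> simp [lift, ind, hp]

theorem exists_two (h : MH z Q R A D) (e : R4 R T t) (hT : T.card = 4) {d : Finset GolayPt} (hd : d ∈ Code)
    (h8 : d.card = 8) (hTd : T ⊆ d) : ∃ (q : G) (v : leechLattice) (a : GolayPt → ℤ), R v q ∧ q ∈ O2C t ∧
      (∀ i, v.1 i = 2 * a i) ∧ (∀ i, Odd (a i) ↔ i ∈ d) := by
  obtain ⟨p0, h0⟩ := Finset.card_pos.1 (show 0 < T.card by omega)
  obtain ⟨p1, h1, n1⟩ := Finset.exists_mem_notMem_of_card_lt_card (show T.card < d.card by omega)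
  obtain ⟨u, k, hk, hu, hp⟩ := nf h e p0
  let r : GolayPt → ℤ := fun p => -(if p = p0 then k else 0) - if p = p1 then k else 0
  let v : leechLattice := ⟨_, add_mem (two_lift_mem ((mem_supports_iff d).1 hd)) (four_mem (y := r) (by
    simp only [r, Finset.sum_sub_distrib, Finset.sum_neg_distrib, Finset.sum_ite_eq', Finset.mem_univ, if_true]
    omega))⟩
  have hv : ∀ p, v.1 p = 2 * ((if p ∈ d then 1 else 0) + 2 * r p) := fun p => by
    by_cases hp : p ∈ d <;> simp [v, lift, ind, hp] <;> ring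
  have ne : p0 ≠ p1 := ne_of_mem_of_not_mem h0 n1
  have key : ∀ p, (u.1 p ^ 2 = if p ∈ T then 16 else 0) ∧ (v.1 p ^ 2 = if p ∈ d then 4 else 0) ∧
      (v.1 - u.1) p ^ 2 = if p ∈ d then 4 else 0 := fun p => by
    rw [Pi.sub_apply, hp, hv]
    by_cases e0 : p = p0
    · rcases hk with rfl | rfl <;> simp [r, e0, h0, hTd h0, ne]
    by_cases e1 : p = p1
    · rcases hk with rfl | rfl <;> simp [r, e1, h1, n1, ne.symm]
    by_cases e2 : p ∈ T
    · simp [r, e0, e1, e2, hTd e2]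
    · by_cases e3 : p ∈ d <;> simp [r, e0, e1, e2, e3]
  have n1 := norm_eq fun p => (key p).1
  have n2 := norm_eq fun p => (key p).2.1
  have n3 := norm_eq fun p => (key p).2.2
  rw [hT] at n1
  rw [h8] at n2 n3
  obtain ⟨q, hq⟩ := h.ex_x v
  refine ⟨q, v, _, hq, lemL h (four h e hT).1 (h.of_R hq n2) ((h.comm_iff hq hu).2 ?_)
    (h.of_R (v := v - u) (h.R_of_cong (h.R_mul hq hu) ⟨u, by rw [two_nsmul]; abel⟩) n3), hv, fun i => ?_⟩
  · rw [sqNorm_sub, n1, n2] at n3
    omega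
  · rw [Int.odd_iff]
    split_ifs with c <;> simp only [c, iff_true, iff_false] <;> omega

theorem ev (h : MH z Q R A D) (e : R4 R T t) (hT : T.card = 4) (e' : R4 R S g) (hg : g ∈ O2C t)
    {d : Finset GolayPt} (hd : d ∈ Code) (h8 : d.card = 8) (hTd : T ⊆ d) : Even (S ∩ d).card := by
  obtain ⟨q, v, a, hq, hqt, hv, ha⟩ := exists_two h e hT hd h8 hTd
  obtain ⟨w, b, hw, hb, ho⟩ := e'
  have k := (h.comm_iff hq hw).1 (inf_comm' h (IsConj.refl z) (four h e hT).1 (four h e hT).2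
    (O2C_z h ▸ h.R_mem hq) hqt (O2C_z h ▸ h.R_mem hw) hg).1
  have k2 := Rk.dt_of_dot hv hb k
  rw [Rk.dt, Golay.dot_eq_card_inter, red_eq_ind (s := d) fun i => by rw [← ha, Int.odd_iff],
    red_eq_ind (s := S) fun i => by rw [← ho, Int.odd_iff], support_ind, support_ind, Finset.inter_comm] at k2
  exact ZMod.natCast_eq_zero_iff_even.1 k2

theorem mem_of_ev (h : MH z Q R A D) (e : R4 R T t) (hT : T.card = 4) (e' : R4 R S g)
    (hv : ∀ d ∈ Code, d.card = 8 → T ⊆ d → Even (S ∩ d).card) : g ∈ O2C t := by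
  have ⟨cj, _⟩ := four h e hT
  have hX := Golay.sextetOf_mem hT
  have ⟨u, a, hu, ha, _⟩ := e
  have hz : z ∈ O2C t := perp_symm h (IsConj.refl z) cj (O2C_z h ▸ h.R_mem hu)
  have k0 : ∀ x, R4 R ∅ x → x ∈ O2C t := fun x ⟨v, b, hv, hb, ho⟩ => by
    obtain ⟨s, hs⟩ := h.ex_x (e8 none)
    obtain ⟨c, rfl⟩ := isConj_iff.1 (cj_e8 h hs).1
    have : c * z * c⁻¹ ∈ O2C t := perp_symm h (cj_e8 h hs).1 cj
      (O2C_cj h c ▸ four_mem_cj h.toMT hs (fun i => ⟨_, ha i⟩) hu)
    rcases Rk.cong_of4 hb (by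
      rw [red_eq_ind (s := ∅) fun i => by rw [← ho, Int.odd_iff]]
      exact (mem_supports_iff _).1 Golay.empty_mem_code) with k | k
    · exact mem_of_under h.toMT hz ⟨1, one_mem _, h.R_of_cong h.R_zero k⟩ hv
    · exact mem_of_under h.toMT hz ⟨_, this, h.R_of_cong hs k⟩ hv
  have k1 : ∀ (n : ℕ) (S : Finset GolayPt) (x : G), S.card = n → R4 R S x →
      (∀ U ∈ Golay.sextetOf T, Even (S ∩ U).card) → x ∈ O2C t := fun n => by
    induction n using Nat.strong_induction_on with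
    | _ n ih =>
    intro S x hn ex hS
    rcases S.eq_empty_or_nonempty with rfl | ⟨i, hi⟩
    · exact k0 x ex
    obtain ⟨U, hU, iU⟩ := Golay.exists_tetrad_mem hX i
    obtain ⟨j, hj, ij⟩ := Finset.exists_mem_ne (s := S ∩ U) (by
      have := Finset.card_pos.2 ⟨i, Finset.mem_inter.2 ⟨hi, iU⟩⟩
      have := Nat.even_iff.1 (hS U hU)
      omega) i
    obtain ⟨jS, jU⟩ := Finset.mem_inter.1 hj
    obtain ⟨f, hf⟩ := h.ex_x (f44 i j)
    have ef : R4 R {i, j} f := ⟨_, fun p => (if p = i then 1 else 0) + if p = j then 1 else 0, hf, fun p => by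
      rw [f44_apply]; beta_reduce; split_ifs <;> rfl, fun p => by
      by_cases a : p = i <;> by_cases b : p = j <;> simp_all⟩
    have c2 : ({i, j} : Finset GolayPt).card = 2 := Finset.card_pair ij.symm
    have sub : ∀ {W : Finset GolayPt}, i ∈ W → j ∈ W → (({i, j} : Finset GolayPt) ∩ W).card = 2 := fun a b => by
      rw [Finset.inter_eq_left.2 (Finset.insert_subset a (Finset.singleton_subset_iff.2 b)), c2]
    have ⟨U4, US⟩ := Golay.mem_sextetOf.1 hU
    have e2 := code h (mul h ef e) (Golay.Syn_eq_iff.1 US.symm)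
    rw [symmDiff_assoc, symmDiff_symmDiff_cancel_left] at e2
    have c3 := Golay.card_symmDiff_add {i, j} U
    rw [sub iU jU, c2, U4] at c3
    obtain ⟨w, hw, n⟩ := norm h e2 (by omega)
    have hft : f ∈ O2C t := lemL h cj (h.of_R hf (sqNorm_f44 ij.symm)) ((h.comm_iff hu hf).2 (by
      rw [dot_f44, ha, ha]; omega)).symm (h.of_R hw (by rw [n, show (({i, j} : Finset GolayPt) ∆ U).card = 2 by omega]; rfl))
    have c4 := Golay.card_symmDiff_add {i, j} S
    rw [sub hi jS, c2] at c4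
    refine (mul_mem_cancel_left hft).1 (ih _ (by omega) _ _ rfl (mul h ef ex) fun W hW => ?_)
    rw [par, iff_true_right (hS W hW)]
    by_cases e : U = W
    · rw [← e, sub iU jU]; decide
    · rw [Finset.disjoint_iff_inter_eq_empty.1 ((Golay.disjoint_of_mem_sextet hX hU hW e).mono_left
        (Finset.insert_subset iU (Finset.singleton_subset_iff.2 jU)))]
      decide
  have k2 : ∀ S, R4 R S g → (∀ d ∈ Code, d.card = 8 → T ⊆ d → Even (S ∩ d).card) → Even (S ∩ T).card → g ∈ O2C t :=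
    fun S e' hv h0 => k1 _ S g rfl e' fun U hU => by
      by_cases e : T = U
      · exact e ▸ h0
      have ⟨U4, US⟩ := Golay.mem_sextetOf.1 hU
      have o := Golay.mem_octads.1 ((Golay.union_mem_octads_iff hT U4).2 ⟨e, US.symm⟩)
      have := hv _ o.1 o.2 Finset.subset_union_left
      rw [show T ∪ U = T ∆ U from (Golay.disjoint_of_mem_sextet hX (Golay.self_mem_sextetOf hT) hU e).symmDiff_eq_sup.symm,
        Finset.inter_comm, par, Finset.inter_comm T, Finset.inter_comm U] at this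
      exact this.1 h0
  by_cases h0 : Even (S ∩ T).card
  · exact k2 S e' hv h0
  obtain ⟨c, hc, c0⟩ := exists_odd hT
  exact k2 _ (code h e' hc) (fun d hd h8 hT => (par _ _ _).2 (iff_of_true (hv d hd h8 hT) (Golay.even_card_inter hc hd)))
    ((par _ _ _).2 (iff_of_false h0 c0))

theorem r4 {h : MH z Q R A D} {O : Code} {E : Subgroup G} (o : OA h O E) {s x : G}
    (hs : R (e8 none) s) (hx : x ∈ E) (hQ : x ∈ Q) (hP : x ∈ O2C s) : ∃ S ⊆ O.1, R4 R S x := by
  obtain ⟨v, lo, hv⟩ := (o.inf x).1 ⟨hx, hQ⟩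
  rcases lo.four_or o.card with k | k
  · choose a ha using k
    refine ⟨Finset.univ.filter fun p => Odd (a p), fun p hp => by_contra fun n => ?_, v, a, hv, ha, by simp⟩
    have := lo p n
    have := Int.odd_iff.1 (Finset.mem_filter.1 hp).2
    have := ha p
    omega
  · obtain ⟨i, hi⟩ := Finset.card_pos.1 (show 0 < O.1.card by rw [o.card]; decide)
    obtain ⟨j, -, hj⟩ := Finset.exists_mem_notMem_of_card_lt_card (s := O.1) (t := Finset.univ)
      (by rw [o.card, Finset.card_univ, card_pt]; decide)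
    obtain ⟨f, hf⟩ := h.ex_x (f44 i j)
    obtain ⟨cj, -, ne⟩ := cj_e8 h hs
    obtain ⟨c, rfl⟩ := isConj_iff.1 cj
    have := (h.comm_iff hv hf).1 (inf_comm' h (IsConj.refl z) cj ne (O2C_z h ▸ hQ) hP (O2C_z h ▸ h.R_mem hf)
      (O2C_cj h c ▸ f44_mem h.toMT hs hf)).1
    rw [dot_f44, lo j hj] at this
    have := k i hi
    omega

end CL.ML.FrB2
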