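import Cfsg.Agent.SPOR.ML.FrA
import Cfsg.Agent.SPOR.GolayCoset

/-!
Maximal 2-local subgroups of the Monster: normal forms in the even cocode.
-/

set_option autoImplicit false
set_option linter.dupNamespace false

namespace CL.ML.FrB3

open Cfsg CL.Leech CL.MT CL.LX CL.MSS CL.MP Subgroup
open CL.Golay (Code)
open scoped symmDiff Pointwise

variable {G : Type*} [Group G] [Finite G] {z : G} {Q : Subgroup G} {R : leechLattice → G → Prop}
  {A : Co0 → G → Prop} {D : Set G} {S S' T : Finset GolayPt} {s t x x' g : G} {a b : GolayPt → ℤ}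

theorem sup_red (ha : ∀ p, Odd (a p) ↔ p ∈ S) : support₂ (red a) = S := by
  ext p; rw [mem_support_red, ← Int.odd_iff, ha]

theorem code_iff (ha : ∀ p, Odd (a p) ↔ p ∈ S) (hb : ∀ p, Odd (b p) ↔ p ∈ S') :
    S ∆ S' ∈ Code ↔ red a + red b ∈ golayCode := by
  rw [← sup_red ha, ← sup_red hb, ← Golay.support₂_add, support_mem_supports_iff]

theorem sum_par (ha : ∀ p, Odd (a p) ↔ p ∈ S) : (∑ i, a i) % 2 = 0 ↔ Even S.card := by
  rw [Finset.sum_int_mod, ← funext (lift_mod_two a), sum_lift, sup_red ha, Nat.even_iff]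
  omega

theorem four_iff {v : GolayPt → ℤ} (hv : ∀ p, v p = 4 * a p) : v ∈ leechLattice ↔ (∑ i, a i) % 2 = 0 := by
  refine ⟨fun h => ?_, fun h => (funext hv : v = (4 : ℤ) • a) ▸ four_mem h⟩
  obtain ⟨m, -, h1, -, h2⟩ := (mem_iff' v).1 h
  have := h1 none
  simp only [hv, ← Finset.mul_sum] at h2 this
  omega

omit [Finite G] in
theorem even (e : R4 R S x) : Even S.card :=
  let ⟨v, _, _, hv, ha⟩ := e; (sum_par ha).1 ((four_iff hv).1 v.2)

omit [Finite G] in
theorem one (h : MH z Q R A D) : R4 R ∅ (1 : G) := ⟨0, 0, h.toMT.R_zero, by simp, by simp⟩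

theorem odd_ite (T : Finset GolayPt) (p : GolayPt) : Odd (if p ∈ T then 1 else 0 : ℤ) ↔ p ∈ T := by
  split_ifs with h <;> simp [h]

theorem cong_add {u v w : leechLattice} (h : Cong u (v - w)) : Cong (w + u) v := by
  simpa using (Cong.refl w).add h

omit [Finite G] in
theorem eq_cases (h : MH z Q R A D) (hs : R (e8 none) s) (e : R4 R S x) (e' : R4 R S' x') :
    S ∆ S' ∈ Code ↔ x' = x ∨ x' = x * z ∨ x' = x * s ∨ x' = x * s * z := by
  obtain ⟨v, a, r, hv, ha⟩ := e
  obtain ⟨w, b, r', hw, hb⟩ := e'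
  rw [code_iff ha hb, ← or_assoc, ← h.R_cong r r', ← h.R_cong (h.R_mul r hs) r']
  refine ⟨fun k => ?_, fun k => k.elim (Rk.cong4 hv hw) fun k => ?_⟩
  · refine (Rk.cong_of4 (v := w - v) (a := b - a) (fun i => ?_) (by rwa [red_sub, add_comm])).imp
      (fun k => by simpa using cong_add k) cong_add
    simp [hv, hw, mul_sub]
  · have := Rk.cong4 (a := a + Pi.single none 2) (fun i => by
      simp only [AddSubgroup.coe_add, Pi.add_apply, hv, coe_e8, Pi.single_apply]
      split_ifs <;> omega) hw k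
    rwa [red_congr (b := a) fun i => by
      simp only [Pi.add_apply, Pi.single_apply]
      split_ifs <;> omega] at this

omit [Finite G] in
/-- normal form -/
theorem nf (h : MH z Q R A D) (e : R4 R S x) (hT : S ∆ T ∈ Code) (t : GolayPt) :
    ∃ (v : leechLattice) (k : ℤ), R v x ∧ (k = 0 ∨ k = 1) ∧
      ∀ p, v.1 p = 4 * ((if p ∈ T then 1 else 0) - if p = t then 2 * k else 0) := by
  have h1 : Even T.card := by
    have := Golay.card_symmDiff_add S T
    have := Golay.card_of_mem_code hT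
    have := Nat.even_iff.1 (even e)
    rw [Nat.even_iff]
    omega
  obtain ⟨v, a, r, hv, ha⟩ := e
  let u : leechLattice := ⟨fun p => 4 * if p ∈ T then 1 else 0, (four_iff fun _ => rfl).2 ((sum_par (odd_ite T)).2 h1)⟩
  rcases Rk.cong_of4 (v := v - u) (a := a - fun p => if p ∈ T then 1 else 0) (fun i => by simp [hv, u, mul_sub])
    (by rwa [red_sub, ← code_iff ha (odd_ite T)]) with k | k
  · exact ⟨u, 0, h.toMT.R_of_cong r (by simpa using (cong_add k).symm), Or.inl rfl, by simp [u]⟩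
  · have k1 : Cong (e8 none) (-e8 t) := by simpa [Cong] using e8_sub_e8 none t (-1) (Or.inr rfl)
    refine ⟨u + -e8 t, 1, h.toMT.R_of_cong r (cong_add (k1.symm.trans k)).symm, Or.inr rfl, fun p => ?_⟩
    simp only [AddSubgroup.coe_add, Pi.add_apply, u, coe_e8, Pi.single_apply, AddSubgroup.coe_neg, Pi.neg_apply]
    split_ifs <;> omega

omit [Finite G] in
theorem norm (h : MH z Q R A D) (e : R4 R S x) (hS : S.card ≠ 0) : ∃ v, R v x ∧ sqNorm v.1 = 16 * S.card := by
  obtain ⟨t, ht⟩ := Finset.card_ne_zero.1 hS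
  obtain ⟨v, k, r, hk, hv⟩ := nf h e (T := S) (by simpa using Golay.empty_mem_code) t
  refine ⟨v, r, ?_⟩
  have : ∀ p, v.1 p ^ 2 = if p ∈ S then 16 else 0 := fun p => by
    rw [hv]
    by_cases e : p = t
    · rcases hk with rfl | rfl <;> simp [e, ht]
    · split_ifs <;> simp
  simp [sqNorm, this, mul_comm]

omit [Finite G] in
theorem code' (h : MH z Q R A D) (e : R4 R S x) (hT : S ∆ T ∈ Code) : R4 R T x := by
  obtain ⟨v, k, r, -, hv⟩ := nf h e hT none
  refine ⟨v, _, r, hv, fun p => ?_⟩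
  rw [Int.odd_iff]
  split_ifs with h1 <;> simp [h1] <;> omega

omit [Finite G] in
theorem two (h : MH z Q R A D) (e : R4 R S x) (hS : S.card = 2) : x ∈ D := by
  obtain ⟨v, r, hv⟩ := norm h e (by omega)
  exact h.of_R r (by rw [hv, hS]; rfl)

omit [Finite G] in
theorem four (h : MH z Q R A D) (hs : R (e8 none) s) (e : R4 R T x) (hT : T.card = 4) :
    IsConj z x ∧ x ≠ z ∧ x ≠ s ∧ x ≠ s * z := by
  obtain ⟨v, r, hv⟩ := norm h e (by omega)
  have k := (eq_cases h hs (one h) e).not.1 fun k => by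
    have := Golay.card_of_mem_code k
    rw [← Finset.bot_eq_empty, bot_symmDiff] at this
    omega
  simp only [one_mul, not_or] at k
  exact ⟨h.toMT.conj_of_64 r (by rw [hv, hT]; rfl), k.2⟩

theorem tetrad (h : MH z Q R A D) (hs : R (e8 none) s) (e : R4 R S x) (hx : IsConj z x) (n1 : x ≠ z)
    (n2 : x ≠ s) (n3 : x ≠ s * z) : ∃ T, T.card = 4 ∧ R4 R T x := by
  obtain ⟨T, h4, hT⟩ := Golay.exists_small_Syn S
  have e' := code' h e (Golay.Syn_eq_iff.1 hT.symm)
  refine ⟨T, ?_, e'⟩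
  have h0 : T.card ≠ 0 := fun k => by
    rw [Finset.card_eq_zero.1 k] at e'
    have := (eq_cases h hs (one h) e').1 (by simpa using Golay.empty_mem_code)
    simp only [one_mul] at this
    exact this.elim (sq_of h hx).2 fun k => k.elim n1 fun k => k.elim n2 n3
  have h2 : T.card ≠ 2 := fun k => not_conj_of_D h (two h e' k) hx
  have := Nat.even_iff.1 (even e')
  omega

omit [Finite G] in
theorem comm_two (h : MH z Q R A D) (e : R4 R S x) {q : G} {v : leechLattice} {a : GolayPt → ℤ}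
    {d : Finset GolayPt} (hq : R v q) (hv : ∀ i, v.1 i = 2 * a i) (ha : ∀ i, Odd (a i) ↔ i ∈ d) :
    x * q = q * x ↔ Even (S ∩ d).card := by
  obtain ⟨w, b, r, hw, hb⟩ := e
  rw [h.toMT.comm_iff r hq, ← sum_par (a := fun i => b i * a i) fun p => by rw [Int.odd_mul, ha, hb, Finset.mem_inter],
    show dotInt w.1 v.1 = 8 * ∑ i, b i * a i by
      rw [dotInt, Finset.mul_sum]; exact Finset.sum_congr rfl fun i _ => by rw [hv, hw]; ring]
  omega

omit [Finite G] in
theorem perm (h : MH z Q R A D) (e : R4 R S x) {σ : M24} {c : G} (hc : A (permHom σ) c) :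
    R4 R (σ.1 • S) (c * x * c⁻¹) := by
  obtain ⟨w, b, r, hw, hb⟩ := e
  exact ⟨_, fun i => b (σ.1.symm i), h.R_conj hc r, fun p => by rw [permHom_apply, hw],
    fun p => by rw [hb, ← Finset.inv_smul_mem_iff]; rfl⟩

omit [Finite G] in
theorem sgn_iff (h : MH z Q R A D) (e : R4 R S x) {c : Code} {p : G} (hp : A (sgn c) p) :
    (p * x * p⁻¹ = x ∨ p * x * p⁻¹ = x * z) ↔ Even (S ∩ c.1).card := by
  obtain ⟨w, b, r, hw, hb⟩ := e
  rw [← h.R_cong r (h.R_conj hp r), cong_iff_coe, ← sum_par (a := fun i => if i ∈ c.1 then b i else 0) fun i => by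
    split_ifs with k <;> simp [k, hb], ← four_iff (v := fun i => 4 * if i ∈ c.1 then b i else 0) fun _ => rfl]
  refine ⟨fun ⟨u, hu, e⟩ => ?_, fun k => ⟨_, k, funext fun i => ?_⟩⟩
  · convert hu using 1
    funext i
    have := congrFun e i
    simp only [Pi.sub_apply, sgn_apply, hw, Pi.smul_apply, nsmul_eq_mul, Nat.cast_ofNat] at this
    split_ifs at this ⊢ <;> omega
  · simp only [Pi.sub_apply, sgn_apply, hw, Pi.smul_apply, nsmul_eq_mul, Nat.cast_ofNat]
    split_ifs <;> omega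

omit [Finite G] in
theorem mem_oa {h : MH z Q R A D} {O : Code} {E : Subgroup G} (o : OA h O E) (e : R4 R S x)
    (hS : S ⊆ O.1) : x ∈ E := by
  obtain ⟨t, ht⟩ := Finset.card_ne_zero.1 (show O.1.card ≠ 0 by rw [o.card]; norm_num)
  obtain ⟨v, k, r, -, hv⟩ := nf h e (T := S) (by simpa using Golay.empty_mem_code) t
  refine ((o.inf x).2 ⟨v, fun p hp => ?_, r⟩).1
  rw [hv, if_neg fun k => hp (hS k), if_neg fun k : p = t => hp (k ▸ ht)]
  rfl

end CL.ML.FrB3
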