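import Cfsg.Agent.SPOR.ML.Defs

/-!
Maximal 2-local subgroups of the Monster: a lattice lemma on a trio.
-/

set_option autoImplicit false
set_option linter.dupNamespace false

namespace CL.ML.FrC2

open Cfsg CL.Leech CL.MT CL.LX CL.MSS CL.MP Subgroup
open CL.Golay (Code)
open scoped symmDiff

theorem sub8 {s O : Finset GolayPt} (hs : s ∈ Code) (h : s ⊆ O) (h8 : O.card = 8) : s = ∅ ∨ s = O := by
  have := Finset.card_le_card h
  rcases Golay.card_of_mem_code hs with e | e | e | e | e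
  · exact Or.inl (Finset.card_eq_zero.1 e)
  · exact Or.inr (Finset.eq_of_subset_of_card_le h (by omega))
  all_goals omega

theorem sq_odd {O : Finset GolayPt} {a : GolayPt → ℤ} (h : ∀ i ∈ O, a i % 2 = 1) :
    (∑ i ∈ O, a i ^ 2) % 8 = (O.card : ℤ) % 8 := by
  rw [show (O.card : ℤ) = ∑ _i ∈ O, (1 : ℤ) by simp, Finset.sum_int_mod,
    Finset.sum_int_mod (f := fun _ => (1 : ℤ))]
  congr 1
  refine Finset.sum_congr rfl fun i hi => ?_
  obtain ⟨k, e⟩ : ∃ k, a i = 2 * k + 1 := ⟨a i / 2, by have := h i hi; omega⟩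
  obtain ⟨m, e'⟩ := Int.even_mul_succ_self k
  have : (2 * k + 1) ^ 2 = 8 * m + 1 := by linear_combination 4 * e'
  rw [e, this]; omega

theorem sq_even {O : Finset GolayPt} {a : GolayPt → ℤ} (h : ∀ i ∈ O, a i % 2 = 0) :
    (∑ i ∈ O, a i ^ 2) % 8 = (2 * ∑ i ∈ O, a i) % 8 := by
  rw [Finset.mul_sum, Finset.sum_int_mod, Finset.sum_int_mod (f := fun i => 2 * a i)]
  congr 1
  refine Finset.sum_congr rfl fun i hi => ?_
  obtain ⟨k, e⟩ : ∃ k, a i = 2 * k := ⟨a i / 2, by have := h i hi; omega⟩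
  obtain ⟨m, e'⟩ := Int.even_mul_succ_self (k - 1)
  have : (2 * k) ^ 2 = 8 * m + 2 * (2 * k) := by linear_combination 4 * e'
  rw [e, this]; omega

theorem par {O : Finset GolayPt} {a : GolayPt → ℤ} (h : support₂ (red a) ∩ O ∈ Code) (h8 : O.card = 8) :
    (∀ i ∈ O, a i % 2 = 0) ∨ ∀ i ∈ O, a i % 2 = 1 :=
  (sub8 h Finset.inter_subset_right h8).imp
    (fun e i hi => by
      have : ¬ a i % 2 = 1 := fun c => Finset.notMem_empty i
        (e ▸ Finset.mem_inter.2 ⟨(mem_support_red a i).2 c, hi⟩)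
      omega)
    fun e i hi => (mem_support_red a i).1 (Finset.mem_inter.1 (e.ge hi)).1

theorem five_lat {O1 O2 : Code} (h1 : O1.1.card = 8) (h2 : O2.1.card = 8) (hd : Disjoint O1.1 O2.1)
    {v : leechLattice} (ho : ∀ u, LO O1.1 u → (16 : ℤ) ∣ dotInt v.1 u.1)
    (hc : Cong (sgn O2 • v - v) (e8 none)) (hn : (32 : ℤ) ∣ sqNorm v.1) :
    ∃ (w : leechLattice) (a : GolayPt → ℤ), Cong v w ∧ (∀ i, w.1 i = 2 * a i) ∧
      ((∀ i, ¬ Odd (a i)) ∨ ∀ i, Odd (a i) ↔ i ∈ O1.1) := by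
  obtain ⟨m, -, m1, m2, m3⟩ := (mem_iff' v.1).1 v.2
  obtain ⟨i₀, hi₀⟩ := Finset.card_pos.1 (show 0 < O1.1.card by omega)
  obtain rfl : m = 0 := by
    have := ho (e8 i₀) fun p hp => by
      rw [coe_e8, Pi.single_eq_of_ne (ne_of_mem_of_not_mem hi₀ hp).symm]
    rw [dot_e8] at this
    have := m1 i₀
    omega
  obtain ⟨a, ha⟩ : ∃ a : GolayPt → ℤ, ∀ i, v.1 i = 2 * a i :=
    ⟨fun i => v.1 i / 2, fun i => by have := m1 i; show _ = 2 * (v.1 i / 2); omega⟩
  have dC : support₂ (red a) ∈ Code :=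
    ⟨_, (red_congr fun i => by rw [ha]; omega : red (fun i => v.1 i / 2) = red a) ▸ m2, rfl⟩
  simp only [ha, ← Finset.mul_sum] at m3
  have p1 : (∀ i ∈ O1.1, a i % 2 = 0) ∨ ∀ i ∈ O1.1, a i % 2 = 1 := by
    have k : ∀ i ∈ O1.1, a i % 2 = a i₀ % 2 := fun i hi => by
      have := ho (f44 i i₀) fun p hp => by
        rw [f44_apply, if_neg (ne_of_mem_of_not_mem hi hp).symm,
          if_neg (ne_of_mem_of_not_mem hi₀ hp).symm]; rfl
      rw [dot_f44, ha, ha] at this
      omega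
    exact (Int.emod_two_eq_zero_or_one (a i₀)).imp (fun e i hi => (k i hi).trans e)
      fun e i hi => (k i hi).trans e
  have c1 : support₂ (red a) ∩ O1.1 ∈ Code := by
    rcases p1 with e | e
    · convert Golay.empty_mem_code
      refine Finset.eq_empty_of_forall_notMem fun i hi => ?_
      rw [Finset.mem_inter, mem_support_red] at hi
      have := e i hi.2
      omega
    · rw [Finset.inter_eq_right.2 fun i hi => (mem_support_red a i).2 (e i hi)]
      exact O1.2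
  have s1 : (∑ i ∈ O1.1, a i) % 4 = 0 := by
    have l : ∀ i, lift (ind O1.1) i = if i ∈ O1.1 then 1 else 0 := fun i => by
      by_cases c : i ∈ O1.1 <;> simp [lift, ind, c]
    have := ho ⟨_, two_lift_mem ((mem_supports_iff _).1 O1.2)⟩ fun p hp => by simp [l, hp]
    have e : dotInt v.1 ((2 : ℤ) • lift (ind O1.1)) = 4 * ∑ i ∈ O1.1, a i := by
      rw [dotInt, Finset.mul_sum, ← Finset.sum_subset (Finset.subset_univ O1.1) fun i _ hi => by
        simp [l, hi]]
      exact Finset.sum_congr rfl fun i hi => by simp only [ha, Pi.smul_apply, l, if_pos hi]; simp; ring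
    rw [e] at this
    omega
  obtain ⟨y, hy, ey⟩ := cong_iff_coe.1 hc
  have ey' : ∀ i, y i = -2 * (if i ∈ O2.1 then a i else 0) - 4 * (Pi.single none 1 : GolayPt → ℤ) i :=
    fun i => by
      have := congrFun ey i
      simp only [AddSubgroup.coe_sub, Pi.sub_apply, sgn_apply, ha, coe_e8, Pi.smul_apply, nsmul_eq_mul,
        Nat.cast_ofNat, Pi.single_apply] at this ⊢
      split_ifs at this ⊢ <;> omega
  obtain ⟨n, -, n1, n2, n3⟩ := (mem_iff' y).1 hy
  obtain rfl : n = 0 := by have := n1 none; rw [ey'] at this; omega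
  have c2 : support₂ (red a) ∩ O2.1 ∈ Code := by
    refine ⟨_, n2, Finset.ext fun i => ?_⟩
    rw [Finset.mem_inter, mem_support_red, mem_support_red, ey']
    by_cases c : i ∈ O2.1
    · simp only [c, if_true, and_true]; omega
    · simp only [c, if_false, and_false, iff_false]; omega
  have s2 : (∑ i ∈ O2.1, a i) % 4 = 2 := by
    simp only [ey', Finset.sum_sub_distrib, ← Finset.mul_sum, Finset.sum_pi_single', Finset.mem_univ,
      if_true, Finset.sum_ite_mem, Finset.univ_inter] at n3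
    omega
  have h3 : (O1.1 ∪ O2.1)ᶜ.card = 8 := by
    rw [Finset.card_compl, Finset.card_union_of_disjoint hd, card_pt, h1, h2]
  have c3 : support₂ (red a) ∩ (O1.1 ∪ O2.1)ᶜ ∈ Code := by
    convert Golay.symmDiff_mem_code (Golay.symmDiff_mem_code dC c1) c2 using 1
    ext i
    have : i ∈ O1.1 → i ∉ O2.1 := fun c => Finset.disjoint_left.1 hd c
    simp only [Finset.mem_inter, Finset.mem_compl, Finset.mem_union, Finset.mem_symmDiff]
    tauto
  have sp : ∀ f : GolayPt → ℤ, ∑ i, f i = ∑ i ∈ O1.1, f i + ∑ i ∈ O2.1, f i + ∑ i ∈ (O1.1 ∪ O2.1)ᶜ, f i :=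
    fun f => by rw [← Finset.sum_union hd, Finset.sum_add_sum_compl]
  have nn : sqNorm v.1 = 4 * ∑ i, a i ^ 2 := by
    rw [sqNorm, Finset.mul_sum]
    exact Finset.sum_congr rfl fun i _ => by rw [ha]; ring
  rw [nn, sp] at hn
  rw [sp] at m3
  have q1 : (∑ i ∈ O1.1, a i ^ 2) % 8 = 0 := by
    rcases p1 with e | e
    · have := sq_even e; omega
    · have := sq_odd e; omega
  have out : (∀ i ∉ O1.1, a i % 2 = 0) ∨ ∀ i ∉ O1.1, a i % 2 = 1 := by
    have k : ∀ {r : ℤ}, (∀ i ∈ O2.1, a i % 2 = r) → (∀ i ∈ (O1.1 ∪ O2.1)ᶜ, a i % 2 = r) →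
        ∀ i ∉ O1.1, a i % 2 = r := fun e e' i hi => (_root_.em (i ∈ O2.1)).elim (e i) fun c =>
      e' i (by simp [hi, c])
    rcases par c2 h2 with e | e <;> rcases par c3 h3 with e' | e'
    · exact Or.inl (k e e')
    · have := sq_even e; have := sq_odd e'; omega
    · have := sq_odd e; have := sq_even e'; omega
    · exact Or.inr (k e e')
  have fin : ∀ b : GolayPt → ℤ, ((∀ i ∈ O1.1, b i % 2 = 0) ∨ ∀ i ∈ O1.1, b i % 2 = 1) →
      (∀ i ∉ O1.1, b i % 2 = 0) → (∀ i, ¬ Odd (b i)) ∨ ∀ i, Odd (b i) ↔ i ∈ O1.1 := fun b e e' =>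
    e.imp (fun e i => by
      rw [Int.odd_iff, (_root_.em (i ∈ O1.1)).elim (e i) (e' i)]; decide) fun e i => by
      rw [Int.odd_iff]
      exact ⟨fun c => by_contra fun c' => by have := e' i c'; omega, e i⟩
  rcases out with e | e
  · exact ⟨v, a, Cong.refl v, ha, fin a p1 e⟩
  · have o : ∀ i, odd3 none i % 2 = 1 := fun i => by unfold odd3; split_ifs <;> rfl
    refine ⟨v + 2 • ⟨_, odd3_mem none⟩, fun i => a i + odd3 none i, ⟨-⟨_, odd3_mem none⟩, by simp⟩,
      fun i => by simp [ha]; ring, fin _ (p1.symm.imp (fun e i hi => ?_) fun e i hi => ?_) fun i hi => ?_⟩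
    · have := e i hi; have := o i; omega
    · have := e i hi; have := o i; omega
    · have := e i hi; have := o i; omega

end CL.ML.FrC2
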