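import Cfsg.Agent.SPOR.ML.FrB
import Cfsg.Agent.SPOR.ML.ArkB
import Cfsg.Agent.SPOR.ML.FrC2

/-!
Maximal 2-local subgroups of the Monster: the image in `C(s) / Q_s` in the coordinates of `z`.
-/

set_option autoImplicit false
set_option linter.dupNamespace false
set_option linter.unusedSectionVars false

namespace CL.ML

open Cfsg CL.Leech CL.MT CL.LX CL.MSS CL.MP Subgroup
open CL.Golay (Code)
open scoped symmDiff

variable {G : Type*} [Group G] [Finite G] {z : G} {Q : Subgroup G} {R : leechLattice → G → Prop}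
  {A : Co0 → G → Prop} {D : Set G}

namespace FrC

theorem eq_of_cong {v w : leechLattice} {a b : GolayPt → ℤ} {d d' : Finset GolayPt}
    (hv : ∀ i, v.1 i = 2 * a i) (hw : ∀ i, w.1 i = 2 * b i) (ha : ∀ i, Odd (a i) ↔ i ∈ d)
    (hb : ∀ i, Odd (b i) ↔ i ∈ d') (e : Cong v w) : d' = d ∨ d' = dᶜ := by
  obtain ⟨t, ht, e⟩ := cong_iff_coe.1 e
  obtain ⟨m, hm, h2, -⟩ := (mem_iff' t).1 ht
  have e' : ∀ i, a i - b i = t i := fun i => by
    have := congrFun e i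
    simp only [Pi.sub_apply, Pi.smul_apply, hv, hw, nsmul_eq_mul, Nat.cast_ofNat] at this
    omega
  rcases hm with rfl | rfl
  · refine Or.inl (Finset.ext fun i => ?_)
    have := e' i
    have := h2 i
    rw [← ha, ← hb, Int.odd_iff, Int.odd_iff]
    omega
  · refine Or.inr (Finset.ext fun i => ?_)
    have := e' i
    have := h2 i
    rw [Finset.mem_compl, ← ha, ← hb, Int.odd_iff, Int.odd_iff]
    omega

theorem odd3_odd (i : GolayPt) : odd3 none i % 2 = 1 := by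
  unfold odd3; split_ifs <;> rfl

theorem mem_of_empty (h : MH z Q R A D) {s f : G} (hs : R (e8 none) s) (e : Dv R s f ∅) :
    f ∈ O2C s := by
  obtain ⟨p, hp, q, v, a, rfl, hq, hv, ha⟩ := e
  refine mul_mem hp ((r4_iff h hs).2 ⟨Finset.univ.filter fun i => Odd (a i / 2), v, fun i => a i / 2, hq,
    fun i => ?_, fun i => by simp⟩).2
  have := (ha i).not.2 (Finset.notMem_empty i)
  rw [Int.odd_iff] at this
  rw [hv]
  beta_reduce
  omega

end FrC

namespace Dv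
variable {s f g : G} {d d' : Finset GolayPt}

/-- `exists_mem_sgn`; `p` and `f` commute with `s`, so `q` does and its vector is even -/
theorem ex (h : MH z Q R A D) (hs : R (e8 none) s) {c : Code} (hf : A (sgn c) f) (hc : f * s = s * f) :
    ∃ d, Dv R s f d := by
  obtain ⟨p, hp, hA⟩ := exists_mem_sgn h hs c
  have hq : p⁻¹ * f ∈ Q :=
    (h.A_ker (h.A_mul (h.A_inv hA) hf)).2 (by rw [inv_mul_cancel]; exact one_mem _)
  obtain ⟨v, hv⟩ := h.ex_v _ hq
  have k : p⁻¹ * f * s = s * (p⁻¹ * f) :=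
    ((show Commute p s from (comm_of_mem hp).symm).inv_left.mul_left hc).eq
  rw [h.toMT.comm_iff hv hs, dot_e8] at k
  obtain ⟨m, -, h2, -⟩ := (mem_iff' v.1).1 v.2
  refine ⟨Finset.univ.filter fun i => Odd (v.1 i / 2), p, hp, _, v, fun i => v.1 i / 2,
    (mul_inv_cancel_left p f).symm, hv, fun i => ?_, fun i => by simp⟩
  have := h2 i
  have := h2 none
  beta_reduce
  omega

theorem code (e : Dv R s f d) : d ∈ Code := by
  obtain ⟨p, -, q, v, a, -, -, hv, ha⟩ := e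
  obtain ⟨m, -, -, h2, -⟩ := (mem_iff' v.1).1 v.2
  rw [red_eq_ind (s := d) fun i => by rw [← ha, hv, Int.odd_iff]; omega] at h2
  exact (mem_supports_iff d).2 h2

/-- add `2 • o3` -/
theorem compl (h : MH z Q R A D) (e : Dv R s f d) : Dv R s f dᶜ := by
  obtain ⟨p, hp, q, v, a, rfl, hq, hv, ha⟩ := e
  refine ⟨p, hp, q, v + 2 • Gr.o3, fun i => a i + odd3 none i, rfl,
    h.toMT.R_of_cong hq ⟨-Gr.o3, by rw [smul_neg]; abel⟩, fun i => ?_, fun i => ?_⟩
  · simp only [two_nsmul, AddSubgroup.coe_add, Pi.add_apply, hv, Gr.o3]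
    ring
  · have := FrC.odd3_odd i
    rw [Finset.mem_compl, ← ha, Int.odd_iff, Int.odd_iff]
    beta_reduce
    omega

/-- `p'⁻¹ p = q' q⁻¹ ∈ Q ∩ Q_s`, `r4_iff`, `Rk.cong2` -/
theorem unique (h : MH z Q R A D) (hs : R (e8 none) s) (e : Dv R s f d) (e' : Dv R s f d') :
    d' = d ∨ d' = dᶜ := by
  obtain ⟨p, hp, q, v, a, rfl, hq, hv, ha⟩ := e
  obtain ⟨p', hp', q', v', a', e, hq', hv', ha'⟩ := e'
  have k : q' * q⁻¹ = p'⁻¹ * p := by rw [eq_inv_mul_iff_mul_eq, ← mul_assoc, ← e, mul_inv_cancel_right]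
  obtain ⟨S, u, b, hu, hb, -⟩ := (r4_iff h hs).1
    ⟨mul_mem (h.R_mem hq') (inv_mem (h.R_mem hq)), k ▸ mul_mem (inv_mem hp') hp⟩
  have k2 := h.R_mul hu hq
  rw [inv_mul_cancel_right] at k2
  refine FrC.eq_of_cong (a := fun i => 2 * b i + a i) (fun i => ?_) hv' (fun i => ?_) ha'
    (h.toMT.cong_of k2 hq')
  · rw [AddSubgroup.coe_add, Pi.add_apply, hb, hv]; ring
  · rw [← ha, Int.odd_iff, Int.odd_iff]; omega

/-- `p q p' q' = p p' (p'⁻¹ q p') q'`, `p'` lies over a sign change (`sgn_of_mem`) -/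
theorem mul (h : MH z Q R A D) (hs : R (e8 none) s) (e : Dv R s f d) (e' : Dv R s g d')
    (hg : g * z = z * g) : Dv R s (f * g) (d ∆ d') := by
  obtain ⟨p, hp, q, v, a, rfl, hq, hv, ha⟩ := e
  obtain ⟨p', hp', q', v', a', rfl, hq', hv', ha'⟩ := e'
  have k : Commute p' z := by
    have := (show Commute (p' * q') z from hg).mul_left
      (show Commute q' z from h.lx.z_comm _ (h.R_mem hq')).inv_left
    rwa [mul_inv_cancel_right] at this
  obtain ⟨c, hc⟩ := sgn_of_mem h hs (inv_mem hp') k.inv_left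
  refine ⟨p * p', mul_mem hp hp', _, _, fun i => (if i ∈ c.1 then -a i else a i) + a' i, by group,
    h.R_mul (h.R_conj hc hq) hq', fun i => ?_, fun i => ?_⟩
  · rw [AddSubgroup.coe_add, Pi.add_apply, sgn_apply, hv, hv']
    beta_reduce
    split_ifs <;> ring
  · rw [Finset.mem_symmDiff, ← ha, ← ha', Int.odd_iff, Int.odd_iff, Int.odd_iff]
    beta_reduce
    split_ifs <;> omega

theorem mem_iff (h : MH z Q R A D) (hs : R (e8 none) s) (e : Dv R s f d) :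
    f ∈ O2C s ↔ d = ∅ ∨ d = Finset.univ := by
  refine ⟨fun hf => ?_, ?_⟩
  · obtain ⟨p, hp, q, v, a, rfl, hq, hv, ha⟩ := e
    obtain ⟨S, u, b, hu, hb, -⟩ := (r4_iff h hs).1 ⟨h.R_mem hq, (Subgroup.mul_mem_cancel_left _ hp).1 hf⟩
    rw [← Finset.compl_empty]
    refine FrC.eq_of_cong (a := fun i => 2 * b i) (fun i => by rw [hb]; ring) hv (fun i => ?_) ha
      (h.toMT.cong_of hu hq)
    simp
  · rintro (rfl | rfl)
    · exact FrC.mem_of_empty h hs e
    · exact FrC.mem_of_empty h hs (Finset.compl_univ (α := GolayPt) ▸ e.compl h)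

/-- `n` over `o3` has `n s n⁻¹ = s z`; `f = (n p n⁻¹) (n p⁻¹ n⁻¹ p) q` and the middle factor lies over
`± (o3 - sgn c • o3)`, which is `2 · odd` on `c` and `0` elsewhere -/
theorem swap (h : MH z Q R A D) (hs : R (e8 none) s) {c : Code} (hf : A (sgn c) f) (e : Dv R s f d) :
    Dv R (s * z) f (d ∆ c.1) := by
  obtain ⟨p, hp, q, v, a, rfl, hq, hv, ha⟩ := e
  obtain ⟨n, hn⟩ := h.ex_x Gr.o3
  have k : n * s * n⁻¹ = s * z := by
    rw [(h.lx.comm n (h.R_mem hn) s (h.R_mem hs)).resolve_left fun e => ?_, mul_assoc s,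
      h.lx.z_comm n (h.R_mem hn)]
    · group
    · rw [h.toMT.comm_iff hn hs, dot_e8] at e
      revert e
      decide
  have hA := h.A_inv (h.A_mul hf (h.toMT.A_one (inv_mem (h.R_mem hq))))
  rw [mul_one, mul_inv_cancel_right, inv_eq_of_mul_eq_one_right (Sgn_sq (sgn_mem c))] at hA
  refine ⟨n * p * n⁻¹, k ▸ (mem_O2C_conj n).2 hp, _, _,
    fun i => (if i ∈ c.1 then -odd3 none i else 0) + a i, by group,
    h.R_mul (h.R_mul (h.toMT.R_of_cong hn (cong_neg _).symm) (h.R_conj hA (h.toMT.R_inv hn))) hq,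
    fun i => ?_, fun i => ?_⟩
  · simp only [AddSubgroup.coe_add, AddSubgroup.coe_neg, Pi.add_apply, Pi.neg_apply, sgn_apply, hv, Gr.o3]
    split_ifs <;> ring
  · have := FrC.odd3_odd i
    rw [Finset.mem_symmDiff, ← ha, Int.odd_iff, Int.odd_iff]
    beta_reduce
    split_ifs with hi <;> simp only [hi, not_true, not_false_iff, and_true, and_false, true_and, false_and,
      or_false, false_or] <;> omega

/-- `g` over `f44 i j`, `i, j ∈ O`, lies in `E ∩ Q ∩ Q_s`: `[p, g] ∈ ⟨s⟩`, `[q, g] ∈ ⟨z⟩`, `[f, g] = 1`, so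
`[q, g] = 1`; `R4.comm_two` -/
theorem const {h : MH z Q R A D} (hs : R (e8 none) s) {O : Code} {E : Subgroup G} (o : OA h O E)
    (hf : f ∈ centralizer (E : Set G)) (e : Dv R s f d) : O.1 ⊆ d ∨ Disjoint O.1 d := by
  obtain ⟨p, hp, q, v, a, rfl, hq, hv, ha⟩ := e
  by_contra hn
  rw [not_or, Finset.not_subset, Finset.not_disjoint_iff] at hn
  obtain ⟨⟨i, hi, hi'⟩, j, hj, hj'⟩ := hn
  have hij : i ≠ j := fun e => hi' (e ▸ hj')
  obtain ⟨g, hg⟩ := h.ex_x (f44 i j)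
  have r := r4_f44 h hij hg
  have k1 := mem_centralizer_iff.1 hf g (r.mem_oa o (by simp [Finset.insert_subset_iff, hi, hj]))
  obtain ⟨zs, -, ne⟩ := cj_e8 h hs
  have k2 : q * g = g * q * z := (h.lx.comm q (h.R_mem hq) g (h.R_mem hg)).resolve_left fun e => by
    rw [h.toMT.comm_iff hq hg, dot_f44, hv, hv] at e
    rw [← ha, Int.odd_iff] at hi' hj'
    omega
  rw [mul_assoc p, k2, mul_assoc g q, h.lx.z_comm q (h.R_mem hq), ← mul_assoc, ← mul_assoc,
    ← mul_assoc, mul_left_inj] at k1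
  rcases (lx_of h zs).comm p hp g ((r4_iff h hs).2 ⟨_, r⟩).2 with e | e
  · exact h.lx.z_ne (mul_eq_left.1 (by rwa [e, eq_comm] at k1))
  · rw [e, mul_assoc (g * p), left_eq_mul, ← h.lx.z_sq] at k1
    exact ne (mul_right_cancel k1)

end Dv

/-- `v = 2 a` is even (orthogonal to `e8`); the code word `d` of odd coordinates is constant on `O₁`
(test `f44`), on `O₂` (`sgn O₂ • v - v = -2 v|O₂`, `Rk.cong4`), hence on `O₃ = (O₁ ∪ O₂)ᶜ`. Modulo `2 • o3`,
`d ∈ {∅, O₁, O₂, O₃}`. If `d = O₂` or `O₃`: `v = 2 · 1_d + 4 w`, `Σ w` even, `Σ_{O₁} w` even (test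
`2 · 1_{O₁}`), `Σ_{O₂} w` odd (`4 · 1_{O₂} ≡ 0`, `Rk.cong8`), so `Σ_d w` is odd and the norm is `16` mod `32`. -/
theorem five_lat {O1 O2 : Code} (h1 : O1.1.card = 8) (h2 : O2.1.card = 8) (hd : Disjoint O1.1 O2.1)
    {v : leechLattice} (ho : ∀ u, LO O1.1 u → (16 : ℤ) ∣ dotInt v.1 u.1)
    (hc : Cong (sgn O2 • v - v) (e8 none)) (hn : (32 : ℤ) ∣ sqNorm v.1) :
    ∃ (w : leechLattice) (a : GolayPt → ℤ), Cong v w ∧ (∀ i, w.1 i = 2 * a i) ∧
      ((∀ i, ¬ Odd (a i)) ∨ ∀ i, Odd (a i) ↔ i ∈ O1.1) :=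
  FrC2.five_lat h1 h2 hd ho hc hn

/-- `p ∈ E₁ ∩ Q_s \ Q` (`IsArk.sep` with `t := s`), `q = p y ∈ Q ∩ C(E₁)`, `q² = 1`; `b ∉ Q`, `p` commutes
with `b`, `[y, b] = p [q, b] p` lies over `± (sgn O₂ • v - v)`; `five_lat`, `Dv.mem_iff`, `Dv.swap`. -/
theorem five {h : MH z Q R A D} {s y b : G} (hs : R (e8 none) s) {O1 O2 : Code} {E1 E2 : Subgroup G}
    (o1 : OA h O1 E1) (o2 : OA h O2 E2) (hd : Disjoint O1.1 O2.1) (hc : E2 ≤ centralizer (E1 : Set G))
    (hy : y ∈ centralizer (E1 : Set G)) (y2 : y * y = 1) (ha : A (sgn O1) y) (hb : b ∈ E2)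
    (e : y * b * y⁻¹ * b⁻¹ = s ∨ y * b * y⁻¹ * b⁻¹ = s * z) : y ∈ O2C s ∨ y ∈ O2C (s * z) := by
  obtain ⟨t, ht, e⟩ : ∃ t, R (e8 none) t ∧ y * b * y⁻¹ * b⁻¹ = t :=
    e.elim (fun e => ⟨_, hs, e⟩) fun e => ⟨_, h.toMT.R_z hs, e⟩
  obtain ⟨zs, -, ne⟩ := cj_e8 h hs
  obtain ⟨p, hp, hQ, hP, -⟩ := o1.ark.sep o1.z_mem (IsConj.refl z) (o1.e8_mem hs) zs (o1.e8_mem hs) zs
    ne.symm ne.symm (by rw [(sq_of h zs).1]; exact h.lx.z_ne)
  rw [O2C_z h] at hQ
  have hq : p * y ∈ Q :=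
    (h.A_ker (h.A_mul (o1.ovr p hp hQ) ha)).2 (by rw [Sgn_sq (sgn_mem O1)]; exact one_mem _)
  obtain ⟨v, hv⟩ := h.ex_v _ hq
  have c1 : Commute p y := mem_centralizer_iff.1 hy p hp
  have c2 : Commute p b := mem_centralizer_iff.1 (hc hb) p hp
  have k : p * y * b * (p * y)⁻¹ * b⁻¹ = t :=
    calc p * y * b * (p * y)⁻¹ * b⁻¹ = p * (y * b * y⁻¹) * (p⁻¹ * b⁻¹) := by group
      _ = p * (y * b * y⁻¹ * b⁻¹) * p⁻¹ := by rw [c2.inv_inv.eq]; group
      _ = t := by rw [e, o1.ark.comm hp (o1.e8_mem ht), mul_inv_cancel_right]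
  have bQ : b ∉ Q := fun bQ => by
    rcases h.lx.comm _ hq b bQ with e' | e'
    · exact (e8_ne h.toMT ht).1 (by rw [← k, e']; group)
    · refine (e8_ne h.toMT ht).2 ?_
      rw [← k, e', mul_assoc b, h.lx.z_comm _ hq, ← mul_assoc b, h.lx.z_comm b bQ]
      group
  have k2 := R_comm h.toMT (o2.ovr b hb bQ) hv
  rw [show b * (p * y) * b⁻¹ * (p * y)⁻¹ = t⁻¹ by rw [← k]; group] at k2
  obtain ⟨w, a, hw, ha', hO⟩ := five_lat o1.card o2.card hd (v := v) (fun u hu => by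
      obtain ⟨x, hx⟩ := h.ex_x u
      have xE := ((o1.inf x).2 ⟨u, hu, hx⟩).1
      exact (h.toMT.comm_iff hv hx).1 ((show Commute p x from o1.ark.comm hp xE).mul_left
        (show Commute x y from mem_centralizer_iff.1 hy x xE).symm).eq)
    (h.toMT.cong_of k2 (h.toMT.R_inv ht))
    ((h.toMT.sq_iff hv).1 (by rw [c1.symm.mul_mul_mul_comm, o1.ark.sq hp, y2, mul_one]))
  have ey : y = p * (p * y) := by rw [← mul_assoc, o1.ark.sq hp, one_mul]
  rcases hO with hO | hO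
  · exact Or.inl (FrC.mem_of_empty h hs
      ⟨p, hP, _, w, a, ey, h.toMT.R_of_cong hv hw, ha', fun i => by simpa using hO i⟩)
  · have := Dv.swap h hs ha ⟨p, hP, _, w, a, ey, h.toMT.R_of_cong hv hw, ha', hO⟩
    rw [symmDiff_self] at this
    exact Or.inr (FrC.mem_of_empty h (h.toMT.R_z hs) this)

end CL.ML
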