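import Cfsg.Agent.SPOR.ML.SingB

/-!
Maximal 2-local subgroups of the Monster: small singular subgroups of the same order are conjugate.
-/

set_option autoImplicit false
set_option linter.dupNamespace false

namespace CL.ML.SingA2

open Cfsg CL.Leech CL.MT CL.LX CL.MSS CL.MP Subgroup
open CL.Golay (Code)
open scoped symmDiff Pointwise

variable {G : Type*} [Group G] [Finite G] {z : G} {Q : Subgroup G} {R : leechLattice → G → Prop}
  {A : Co0 → G → Prop} {D : Set G}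

theorem eq_of {U U' : Subgroup G} (hc : Nat.card U = Nat.card U') (L : List G) (hn : L.Nodup)
    (h : ∀ x ∈ L, x ∈ U ∧ x ∈ U') (hl : Nat.card U < 2 * L.length) : U = U' := by
  classical
  have h1 : L.length ≤ Nat.card (U ⊓ U' : Subgroup G) := by
    rw [← List.toFinset_card_of_nodup hn, ← Set.ncard_coe_finset]
    exact Set.ncard_le_ncard (t := (U ⊓ U' : Subgroup G)) fun x hx => h x (List.mem_toFinset.1 hx)
  obtain ⟨k, hk⟩ := card_dvd_of_le (inf_le_left : U ⊓ U' ≤ U)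
  have h2 : Nat.card U ≤ Nat.card (U ⊓ U' : Subgroup G) := by
    rcases k with _ | _ | k
    · exact hk.le.trans (by simp)
    · exact hk.le.trans (by simp)
    · nlinarith
  exact (eq_of_le_of_card_ge inf_le_left h2).symm.trans (eq_of_le_of_card_ge inf_le_right (hc ▸ h2))

theorem exists_nmem {U : Subgroup G} (L : List G) (hl : L.length < Nat.card U) : ∃ x ∈ U, x ∉ L := by
  classical
  by_contra! k
  have := Set.ncard_le_ncard (s := (U : Set G)) (t := (L.toFinset : Set G)) fun x hx => List.mem_toFinset.2 (k x hx)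
  rw [Set.ncard_coe_finset] at this
  exact hl.not_ge (this.trans L.toFinset_card_le)

theorem tet (h : MH z Q R A D) {U : Subgroup G} (e : Sing z U) (h8 : 4 < Nat.card U) {s : G} (hz : z ∈ U)
    (hU : s ∈ U) (hs : R (e8 none) s) : ∃ t ∈ U, t ∉ [1, z, s, s * z] ∧ ∃ T, T.card = 4 ∧ R4 R T t := by
  obtain ⟨t, ht, n⟩ := exists_nmem [1, z, s, s * z] h8
  obtain ⟨S, k⟩ := (r4_iff h hs).1 ⟨O2C_z h ▸ (e z hz h.lx.z_ne).2 ht, (e s hU (e8_ne h.toMT hs).1).2 ht⟩
  have n' := n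
  simp only [List.mem_cons, List.not_mem_nil, or_false, not_or] at n'
  exact ⟨t, ht, n, k.tetrad h hs (e t ht n'.1).1 n'.2.1 n'.2.2.1 n'.2.2.2⟩

theorem std (h : MH z Q R A D) {U U' : Subgroup G} (e : Sing z U) (e' : Sing z U')
    (hc : Nat.card U = Nat.card U') (h8 : Nat.card U ≤ 8) {s : G} (hs : R (e8 none) s) (a : z ∈ U) (b : s ∈ U)
    (a' : z ∈ U') (b' : s ∈ U') : ∃ g : G, U' = g •ᶜ U := by
  obtain ⟨s1, sz⟩ := e8_ne h.toMT hs
  have z1 := h.lx.z_ne
  have nd : [1, z, s, s * z].Nodup := by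
    have := (e8_ne h.toMT (h.R_z hs)).1
    simp [s1, s1.symm, sz.symm, z1, z1.symm, this.symm]
  rcases h8.lt_or_eq with h8 | h8
  · exact ⟨1, by rw [cj_one]; exact (eq_of hc _ nd (by simp [a, b, a', b', mul_mem]) h8).symm⟩
  obtain ⟨t, ht, -, T, hT, k⟩ := tet h e (by omega) a b hs
  obtain ⟨t', ht', n, T', hT', k'⟩ := tet h e' (by omega) a' b' hs
  obtain ⟨σ, hσ, rfl⟩ := Golay.exists_smul_eq_of_card_eq (hT.trans hT'.symm) (by omega)
  obtain ⟨c, hc'⟩ := h.ex_c (permHom ⟨σ, hσ⟩)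
  have m1 : z ∈ c •ᶜ U := mul_inv_eq_iff_eq_mul.2 (h.A_comm hc') ▸ conj_mem_cj a
  have m2 : s ∈ c •ᶜ U := by
    rcases h.cases_of (h.R_of_cong (h.R_conj hc' hs) (permHom_e8 _ _ ▸ cong_e8 _ none)) hs with e | e <;> rw [e]
    exacts [conj_mem_cj b, mul_mem (conj_mem_cj b) m1]
  have m3 : t' ∈ c •ᶜ U := by
    have m := conj_mem_cj (g := c) ht
    rcases ((k.perm h hc').eq_cases h hs k').1 (by rw [symmDiff_self]; exact Golay.empty_mem_code)
      with e | e | e | e <;> rw [e]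
    exacts [m, mul_mem m m1, mul_mem m m2, mul_mem (mul_mem m m2) m1]
  refine ⟨c, eq_of (by rw [card_cj, hc]) _ (List.nodup_cons.2 ⟨n, nd⟩) ?_ (by rw [← hc, h8]; simp)⟩
  generalize c •ᶜ U = X at m1 m2 m3
  simp [m1, m2, m3, ht', a', b', mul_mem]

theorem exists_conj (h : MH z Q R A D) {U U' : Subgroup G} (e : Sing z U) (e' : Sing z U')
    (hc : Nat.card U = Nat.card U') (h8 : Nat.card U ≤ 8) : ∃ g : G, U' = g •ᶜ U := by
  by_cases h2 : Nat.card U < 2
  · exact ⟨1, by rw [cj_one]; exact (eq_of hc [1] (by simp) (by simp) h2).symm⟩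
  by_cases h4 : Nat.card U < 4
  · obtain ⟨u, hu, n⟩ := exists_nmem (U := U) [1] (by simp; omega)
    obtain ⟨u', hu', n'⟩ := exists_nmem (U := U') [1] (by simp; omega)
    rw [List.mem_singleton] at n n'
    obtain ⟨g, rfl⟩ := isConj_iff.1 ((e u hu n).1.symm.trans (e' u' hu' n').1)
    exact ⟨g, eq_of (by rw [card_cj, hc]) [g * u * g⁻¹, 1] (by simpa using n)
      (by simp [hu', hu]) (hc ▸ h4)⟩
  obtain ⟨g, s, a, b, hs⟩ := e.std h (not_lt.1 h4)
  obtain ⟨g', s', a', b', hs'⟩ := e'.std h (hc ▸ not_lt.1 h4)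
  obtain ⟨c, k⟩ := std h (e.conj g) (e'.conj g') (by rw [card_cj, card_cj, hc]) (by rwa [card_cj]) hs a b a' (by
    rcases h.cases_of hs' hs with e | e <;> rw [e]
    exacts [b', mul_mem b' a'])
  exact ⟨g'⁻¹ * (c * g), by rw [cj_mul, cj_mul, ← k, inv_cj_cj]⟩

end CL.ML.SingA2
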