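import Cfsg.Agent.SPOR.ML.SingB
import Cfsg.Agent.SPOR.ML.Comm
import Cfsg.Agent.SPOR.ML.SingA2

/-!
Maximal 2-local subgroups of the Monster: classes of singular subgroups.
-/

set_option autoImplicit false
set_option maxHeartbeats 200000
set_option linter.dupNamespace false

namespace CL.ML

open Cfsg CL.Leech CL.MT CL.LX CL.MSS CL.MP Subgroup
open CL.Golay (Code)
open scoped symmDiff

variable {G : Type*} [Group G] [Finite G] {z : G} {Q : Subgroup G} {R : leechLattice → G → Prop}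
  {A : Co0 → G → Prop} {D : Set G}

theorem Sing.exists_conj (h : MH z Q R A D) {U U' : Subgroup G} (e : Sing z U) (e' : Sing z U')
    (hc : Nat.card U = Nat.card U') (h8 : Nat.card U ≤ 8) : ∃ g : G, U' = g •ᶜ U := SingA2.exists_conj h e e' hc h8

theorem Sing.sq (h : MH z Q R A D) {U : Subgroup G} (e : Sing z U) {u : G} (hu : u ∈ U) : u * u = 1 := by
  by_cases h1 : u = 1
  · rw [h1, mul_one]
  · exact (sq_of h (e u hu h1).1).1

theorem Sing.card_cases (h : MH z Q R A D) {U : Subgroup G} (e : Sing z U) (h1 : U ≠ ⊥) :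
    Nat.card U = 2 ∨ Nat.card U = 4 ∨ Nat.card U = 8 ∨ 16 ≤ Nat.card U := by
  have : Fact (Nat.Prime 2) := ⟨Nat.prime_two⟩
  have p : IsPGroup 2 U := fun u => ⟨1, Subtype.ext (by simpa [pow_two] using e.sq h u.2)⟩
  obtain ⟨n, hn⟩ := p.exists_card_eq
  rcases n with _ | _ | _ | _ | n
  · exact absurd (card_eq_one.1 hn) h1
  · exact Or.inl hn
  · exact Or.inr (Or.inl hn)
  · exact Or.inr (Or.inr (Or.inl hn))
  · exact Or.inr (Or.inr (Or.inr (hn ▸ Nat.pow_le_pow_right two_pos (Nat.le_add_left 4 n))))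

namespace SingA

theorem small {c : Finset GolayPt} (hc : c ∈ Code) (h : c.card < 8) : c = ∅ := by
  have := Golay.card_of_mem_code hc
  exact Finset.card_eq_zero.1 (by omega)

theorem ge4 {T S : Finset GolayPt} (c : T.card = 4) (e : T ∆ S ∈ Code) : 4 ≤ S.card := by
  by_contra hn
  have := Golay.card_symmDiff_add T S
  have e' : T = S := symmDiff_eq_bot.1 (small e (by omega))
  exact hn (e' ▸ c.ge)

theorem tet {O T S : Finset GolayPt} (hO : O ∈ Code) (c : O.card = 8) (c1 : T.card = 4) (a : S ⊆ O) (e : T ∆ S ∈ Code)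
    {p : GolayPt} (hp : p ∈ O) : ∃ S' ⊆ O, p ∈ S' ∧ S'.card = 4 ∧ T ∆ S' ∈ Code := by
  have e' : T ∆ (O \ S) ∈ Code := by
    rw [← symmDiff_of_le a, ← symmDiff_assoc]; exact Golay.symmDiff_mem_code e hO
  have h1 := ge4 c1 e
  have h2 := ge4 c1 e'
  have h3 := Finset.card_sdiff_of_subset a
  by_cases m : p ∈ S
  · exact ⟨S, a, m, by omega, e⟩
  · exact ⟨O \ S, Finset.sdiff_subset, Finset.mem_sdiff.2 ⟨hp, m⟩, by omega, e'⟩

theorem inter {O O' T S S' : Finset GolayPt} (hO : O ∈ Code) (hO' : O' ∈ Code) (c : O.card = 8) (c' : O'.card = 8)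
    (c1 : T.card = 4) (a : S ⊆ O) (a' : S' ⊆ O') (e : T ∆ S ∈ Code) (e' : T ∆ S' ∈ Code) (n : O ≠ O')
    {p : GolayPt} (hp : p ∈ O) (hp' : p ∈ O') : T ∆ (O ∩ O') ∈ Code := by
  obtain ⟨U, u1, u2, u3, u4⟩ := tet hO c c1 a e hp
  obtain ⟨V, v1, v2, v3, v4⟩ := tet hO' c' c1 a' e' hp'
  have m : U ∆ V ∈ Code := by
    have := Golay.symmDiff_mem_code u4 v4
    rwa [symmDiff_symmDiff_symmDiff_comm, symmDiff_self, bot_symmDiff] at this
  have k := Golay.card_symmDiff_add U V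
  have k' : 0 < (U ∩ V).card := Finset.card_pos.2 ⟨p, Finset.mem_inter.2 ⟨u2, v2⟩⟩
  obtain rfl : U = V := symmDiff_eq_bot.1 (small m (by omega))
  have := Golay.card_inter_octads ⟨hO, c⟩ ⟨hO', c'⟩ n
  rwa [← Finset.eq_of_subset_of_card_le (Finset.subset_inter u1 v1) (by omega)]

theorem out (U : Subgroup G) (l : List G) (h : l.length < Nat.card U) : ∃ u ∈ U, u ∉ l := by
  classical
  by_contra hn
  push Not at hn
  have := Set.ncard_le_ncard (s := (U : Set G)) (t := l.toFinset) fun u hu => by simpa using hn u hu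
  rw [Set.ncard_coe_finset] at this
  exact absurd (this.trans l.toFinset_card_le) (not_le.2 h)

end SingA

theorem two_golay {O O' T1 T2 S1 S2 S1' S2' : Finset GolayPt} (hO : O ∈ Code) (hO' : O' ∈ Code)
    (c : O.card = 8) (c' : O'.card = 8) (c1 : T1.card = 4) (c2 : T2.card = 4) (ne : T1 ∆ T2 ∉ Code)
    (a1 : S1 ⊆ O) (a2 : S2 ⊆ O) (b1 : S1' ⊆ O') (b2 : S2' ⊆ O') (e1 : T1 ∆ S1 ∈ Code)
    (e2 : T2 ∆ S2 ∈ Code) (e1' : T1 ∆ S1' ∈ Code) (e2' : T2 ∆ S2' ∈ Code) : O = O' ∨ Disjoint O O' := by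
  by_contra hn
  obtain ⟨n, d⟩ := not_or.1 hn
  obtain ⟨p, hp, hp'⟩ := Finset.not_disjoint_iff.1 d
  have := Golay.symmDiff_mem_code (SingA.inter hO hO' c c' c1 a1 b1 e1 e1' n hp hp')
    (SingA.inter hO hO' c c' c2 a2 b2 e2 e2' n hp hp')
  rw [symmDiff_symmDiff_symmDiff_comm, symmDiff_self, symmDiff_bot] at this
  exact ne this

theorem SingA.std (h : MH z Q R A D) {U E E' : Subgroup G} (e : Sing z U) (h16 : 16 ≤ Nat.card U)
    (k : IsArk h E) (k' : IsArk h E') (a : U ≤ E) (a' : U ≤ E') {s : G} (hz : z ∈ U) (sU : s ∈ U) (hs : R (e8 none) s) :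
    E' ≤ centralizer (E : Set G) := by
  obtain ⟨O, o⟩ := oa_of_mem h k (a hz) (a sU) hs
  obtain ⟨O', o'⟩ := oa_of_mem h k' (a' hz) (a' sU) hs
  have uQ : U ≤ Q := O2C_z h ▸ (e z hz (sq_of h (IsConj.refl z)).2).2
  have uS : U ≤ O2C s := (e s sU (sq_of h (cj_e8 h hs).1).2).2
  have key : ∀ u ∈ U, u ≠ 1 → u ≠ z → u ≠ s → u ≠ s * z → ∃ T S S', T.card = 4 ∧ R4 R T u ∧ S ⊆ O.1 ∧ S' ⊆ O'.1 ∧
      T ∆ S ∈ Code ∧ T ∆ S' ∈ Code := fun u hu n0 n1 n2 n3 => by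
    obtain ⟨S, a1, r⟩ := o.r4 hs (a hu) (uQ hu) (uS hu)
    obtain ⟨S', a2, r'⟩ := o'.r4 hs (a' hu) (uQ hu) (uS hu)
    obtain ⟨T, c, t⟩ := r.tetrad h hs (e u hu n0).1 n1 n2 n3
    exact ⟨T, S, S', c, t, a1, a2, (t.eq_cases h hs r).2 (Or.inl rfl), (t.eq_cases h hs r').2 (Or.inl rfl)⟩
  obtain ⟨u, hu, n⟩ := SingA.out U [1, z, s, s * z] (by simp only [List.length]; omega)
  obtain ⟨v, hv, m⟩ := SingA.out U [1, z, s, s * z, u, u * z, u * s, u * s * z] (by simp only [List.length]; omega)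
  simp only [List.mem_cons, List.not_mem_nil, or_false, not_or] at n m
  obtain ⟨T1, S1, S1', c1, t1, a1, b1, e1, e1'⟩ := key u hu n.1 n.2.1 n.2.2.1 n.2.2.2
  obtain ⟨T2, S2, S2', c2, t2, a2, b2, e2, e2'⟩ := key v hv m.1 m.2.1 m.2.2.1 m.2.2.2.1
  have ne : T1 ∆ T2 ∉ Code := fun c => by
    have := (t1.eq_cases h hs t2).1 c
    tauto
  rcases two_golay O.2 O'.2 o.card o'.card c1 c2 ne a1 a2 b1 b2 e1 e2 e1' e2' with q | q
  · obtain rfl : O = O' := Subtype.ext q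
    rw [← o.unique o']
    exact fun x hx y hy => k.comm hy hx
  · exact o.comm o' q

theorem Sing.ark_comm (h : MH z Q R A D) {U E E' : Subgroup G} (e : Sing z U) (h16 : 16 ≤ Nat.card U)
    (k : IsArk h E) (k' : IsArk h E') (a : U ≤ E) (a' : U ≤ E') : E' ≤ centralizer (E : Set G) := by
  obtain ⟨g, s, hz, sU, hs⟩ := e.std h (by omega)
  have := Comm.cj_cent (SingA.std h (e.conj g) (by rwa [card_cj]) (k.conj g) (k'.conj g) (cj_mono g a) (cj_mono g a')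
    hz sU hs) g⁻¹
  rwa [inv_cj_cj, inv_cj_cj] at this

theorem Sing.big (h : MH z Q R A D) {U : Subgroup G} (e : Sing z U) (h16 : 16 ≤ Nat.card U) :
    (∃ E, IsArk h E ∧ normalizer (U : Set G) ≤ normalizer (E : Set G)) ∨
      ∃ W, WT h W ∧ normalizer (U : Set G) ≤ normalizer (W : Set G) := fam (X := {E | IsArk h E ∧ U ≤ E}) (e.in_ark h h16) (fun _ k => k.1)
    (fun _ k _ k' => e.ark_comm h h16 k.1 k'.1 k.2 k'.2)
    fun n hn _ k => ⟨k.1.conj n, cj_eq_of_mem_normalizer hn ▸ cj_mono n k.2⟩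

end CL.ML
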