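import Cfsg.Agent.SPOR.ML.Two
import Cfsg.Agent.SPOR.ML.A3

/-!
Maximal 2-local subgroups of the Monster: index four.
-/

set_option autoImplicit false
set_option linter.dupNamespace false

namespace CL.ML

open Cfsg CL.Leech CL.MT CL.LX CL.MSS CL.MP Subgroup
open CL.Golay (Code)
open scoped symmDiff

variable {G : Type*} [Group G] [Finite G] {z : G} {Q : Subgroup G} {R : leechLattice → G → Prop}
  {A : Co0 → G → Prop} {D : Set G}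

/-- equal indices give `B = F (B ∩ T)` -/
theorem TwoB.surj {F B T : Subgroup G} (hF : F ≤ B) (e : T.relIndex B ≤ T.relIndex F) {b : G} (hb : b ∈ B) :
    ∃ f ∈ F, f⁻¹ * b ∈ T := by
  have k := (quotientSubgroupOfEmbeddingOfLE T hF).injective.bijective_of_nat_card_le e
  obtain ⟨q, hq⟩ := k.2 (QuotientGroup.mk ⟨b, hb⟩)
  obtain ⟨f, rfl⟩ := QuotientGroup.mk_surjective q
  rw [quotientSubgroupOfEmbeddingOfLE_apply_mk, QuotientGroup.eq] at hq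
  exact ⟨f, f.2, hq⟩

/-- `B(x) = Ak x y₁ ⊔ Ak x y₂`. If `u ≠ 1` lies in `Ak x y₁ ⊓ Ak x y₂` and in `F`, then `u` is 2B (`wt_sing`),
of index `≤ 4` (`le_B`, `index_B`), so `Mn z F u` and `B = F (B ∩ Q_u)`; for `b_i ∈ Ak x y_i \ Q_u` there is
`f_i ∈ F` with `b_i f_i ∈ Q_u`, `Ak u f_i = Ak x y_i` (`eq_Ak`). Any `y ∈ F \ Q_u` has `Ak u y ≤ B`
(`comm12`, `max_B`). -/
theorem Cfg.ak_le (h : MH z Q R A D) {F P : Subgroup G} (c : Cfg F P) {x y1 y2 u y : G} (m : Mn z F x)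
    (m1 : y1 ∈ F) (m2 : y2 ∈ F) (n1 : y1 ∉ O2C x) (n2 : y2 ∉ O2C x) (n3 : y1 * y2 ∉ O2C x)
    (uF : u ∈ F) (u0 : u ≠ 1) (u1 : u ∈ Ak x y1) (u2 : u ∈ Ak x y2) :
    Mn z F u ∧ (∃ f ∈ F, f ∉ O2C u ∧ Ak u f = Ak x y1) ∧ (∃ f ∈ F, f ∉ O2C u ∧ Ak u f = Ak x y2) ∧
      (y ∈ F → y ∉ O2C u → Ak u y ≤ Ak x y1 ⊔ Ak x y2) := by
  obtain ⟨a1, -⟩ := (c.octT h m m1 n1).ark h
  obtain ⟨a2, -⟩ := (c.octT h m m2 n2).ark h
  obtain ⟨c2, d2⟩ := c.comm12 h m m1 m2 n1 n2 n3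
  have hu := ((wt_sing a1 a2 d2 c2).1 u ⟨u1, u2⟩ u0).1
  have hB := c.le_B h m m1 m2 n1 n2 n3
  have i1 := index_B a1 a2 c2 u1 u2 hu
  have i2 : (O2C x).relIndex F = 4 := by
    rcases c.cases h m with k | k | k
    · exact absurd (k m1) n1
    · obtain ⟨w, -, -, k⟩ := exists_of_two k
      have := mul_mem (inv_mem ((k y1 m1).resolve_left n1)) ((k y2 m2).resolve_left n2)
      rw [show (w * y1)⁻¹ * (w * y2) = y1⁻¹ * y2 by group, inv_eq_of_mul_eq_one_right (c.sq y1 m1)] at this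
      exact absurd this n3
    · exact k
  have i3 := m.min u uF hu
  have i4 : (O2C u).relIndex F ≤ (O2C u).relIndex (Ak x y1 ⊔ Ak x y2) :=
    relIndex_le_of_le_right hB FiniteIndex.index_ne_zero
  have mu : Mn z F u := ⟨hu, uF, fun v hv k => le_trans (by omega) (m.min v hv k)⟩
  have key : ∀ {E : Subgroup G}, IsArk h E → u ∈ E → E ≤ Ak x y1 ⊔ Ak x y2 →
      (∃ f ∈ F, f ∉ O2C u ∧ Ak u f = E) ∧ (y ∈ F → y ∉ O2C u → Ak u y ≤ centralizer (E : Set G)) := by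
    intro E a uE le
    obtain ⟨b, hb, -, nb⟩ := a.exists_not_mem uE hu
    obtain ⟨f, hf, k⟩ := TwoB.surj hB (T := O2C u) (by omega) (le hb)
    have nf : f ∉ O2C u := fun k' => nb (by simpa using mul_mem k' k)
    have k1 : b * f ∈ O2C u := by
      have := inv_mem k
      rwa [mul_inv_rev, inv_inv, inv_eq_of_mul_eq_one_right (a.sq hb)] at this
    have e1 := (a.eq_Ak uE hu hb nb k1).1
    refine ⟨⟨f, hf, nf, e1⟩, fun hy ny => ?_⟩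
    by_cases k2 : f * y ∈ O2C u
    · have k3 : b * y ∈ O2C u := by
        have := mul_mem k1 k2
        rwa [mul_assoc, ← mul_assoc f, c.sq f hf, one_mul] at this
      rw [(a.eq_Ak uE hu hb nb k3).1]
      exact fun v hv w hw => a.comm hw hv
    · exact e1 ▸ (c.comm12 h mu hf hy nf ny k2).1
  obtain ⟨p1, q1⟩ := key a1 u1 le_sup_left
  obtain ⟨p2, q2⟩ := key a2 u2 le_sup_right
  exact ⟨mu, p1, p2, fun hy ny w hw =>
    max_B a1 a2 d2 c2 (((c.octT h mu hy ny).ark h).1.sq hw) (q1 hy ny hw) (q2 hy ny hw)⟩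

namespace TwoB

/-- a complement to `y` in the four-group `F / (F ∩ Q_x)` -/
theorem ex2 {F : Subgroup G} {x y : G} (sq : ∀ f ∈ F, f * f = 1) (e : (O2C x).relIndex F = 4) :
    ∃ y2 ∈ F, y2 ∉ O2C x ∧ y * y2 ∉ O2C x := by
  obtain ⟨a, ha, b, hb, n1, n2, n3⟩ := exists_of_four sq e
  by_cases k : y * a ∈ O2C x
  · refine ⟨b, hb, n2, fun k' => n3 ?_⟩
    have := mul_mem (inv_mem k) k'
    rwa [show (y * a)⁻¹ * (y * b) = a⁻¹ * b by group, inv_eq_of_mul_eq_one_right (sq a ha)] at this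
  · exact ⟨a, ha, n1, k⟩

omit [Finite G] in
theorem ne_bot {U : Subgroup G} (k : 2 ≤ Nat.card U) : U ≠ ⊥ := by
  rintro rfl
  simp at k

theorem inf_ne {h : MH z Q R A D} {E U V W : Subgroup G} (e : IsArk h E) (hW : W ≤ E) (c : Nat.card W = 32)
    (hU : U ≤ W) (hV : V ≤ W) (cU : 8 ≤ Nat.card U) (cV : 8 ≤ Nat.card V) : U ⊓ V ≠ ⊥ := by
  have k := Comm.card_sup (U := U) (V := V) fun v hv u hu => e.comm (hW (hU hu)) (hW (hV hv))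
  have k2 : Nat.card ↥(U ⊔ V) ≤ 32 := c ▸ card_le_of_le (sup_le hU hV)
  intro e0
  rw [e0, card_bot, mul_one] at k
  have := Nat.mul_le_mul cU cV
  omega

/-- the four arks have a common non-trivial element -/
theorem common (h : MH z Q R A D) {F P : Subgroup G} (c : Cfg F P) {x y x2 y2 : G} (m : Mn z F x)
    (m' : Mn z F y) (n1 : y ∉ O2C x) (n1' : x ∉ O2C y) (m2 : y2 ∈ F) (n2 : y2 ∉ O2C x) (n3 : y * y2 ∉ O2C x)
    (m2' : x2 ∈ F) (n2' : x2 ∉ O2C y) (n3' : x * x2 ∉ O2C y) :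
    (Ak x y ⊓ Ak x y2) ⊓ (Ak y x ⊓ Ak y x2) ≠ ⊥ := by
  have o := c.octT h m m'.mem n1
  have o' := c.octT h m' m.mem n1'
  obtain ⟨a1, x1, -⟩ := o.ark h
  obtain ⟨a1', y1, -⟩ := o'.ark h
  obtain ⟨a2, -⟩ := (c.octT h m m2 n2).ark h
  obtain ⟨a2', -⟩ := (c.octT h m' m2' n2').ark h
  obtain ⟨c2, d2⟩ := c.comm12 h m m'.mem m2 n1 n2 n3
  obtain ⟨c2', d2'⟩ := c.comm12 h m' m.mem m2' n1' n2' n3'
  have b := c.le_B h m m'.mem m2 n1 n2 n3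
  have b' := c.le_B h m' m.mem m2' n1' n2' n3'
  by_cases e : Ak x y = Ak y x
  · rw [← e] at c2' d2' b' y1 ⊢
    have k := lemI a1 a2 a2' d2 d2' c2 c2' (b m2) (b' m2) fun k => n3 (a1.mul_mem_O2C x1 m.cj y1 k n1 n2)
    rw [show Ak x y ⊓ Ak x y2 ⊓ (Ak x y ⊓ Ak y x2) = Ak x y ⊓ Ak x y2 ⊓ Ak y x2 from
      le_antisymm (inf_le_inf_left _ inf_le_right) (le_inf inf_le_left (inf_le_inf_right _ inf_le_left))]
    exact ne_bot (by omega)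
  · have cc := a3_comm h o o'
    have cc' := a3_comm h o' o
    have k1 : y ∉ Ak x y := fun k => e (a1.eq_Ak k m'.cj x1 n1' (by rw [c.sq x m.mem]; exact one_mem _)).1.symm
    have k2 : x ∉ Ak y x := fun k => e (a1'.eq_Ak k m.cj y1 n1 (by rw [c.sq y m'.mem]; exact one_mem _)).1
    have l1 := lemI a1 a2 a1' d2 e c2 cc (b m'.mem) (mem_sup_right y1) k1
    have l2 := lemI a1' a2' a1 d2' (Ne.symm e) c2' cc' (b' m.mem) (mem_sup_right x1) k2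
    have k := inf_ne a1 inf_le_left (wt_sing a1 a1' e cc).2.1 (inf_le_inf_right _ inf_le_left)
      (le_inf inf_le_right (inf_le_left.trans inf_le_left)) l1 l2
    exact fun e0 => k (le_bot_iff.1 (e0 ▸ inf_le_inf inf_le_left inf_le_left))

end TwoB

/-- `X = {u | Mn z F u}` is pairwise orthogonal, so `tg_of_perp`. Let `x, y ∈ X`, `y ∉ Q_x`, `E = Ak x y`,
`E' = Ak y x`, `B(x) = E ⊔ E₂`, `B(y) = E' ⊔ E₂'` (`exists_of_four`), both contain `F` (`le_B`). If `E = E'`: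
`lemI` with `b ∈ F \ E` (or `E₂ = E₂'`). If `E ≠ E'`: they commute (`a3_comm`), `y ∉ E`, `x ∉ E'`; `lemI` with
`b = y` (or `E₂ = E'`) gives `|E ⊓ E₂ ⊓ E'| ≥ 8`, with `b = x` gives `|E' ⊓ E₂' ⊓ E| ≥ 8`, inside `E ⊓ E'` of
order `32`. So `U = E ⊓ E₂ ⊓ E' ⊓ E₂' ≠ 1`, `P`-invariant (`norm_Ak`), `Cfg.fix_sub` gives `u ∈ U ∩ F`;
`ak_le` gives `B(x) = B(y)`, so `y ∈ E' ⊓ E₂' ≤ E ⊓ E₂` (`inf_le_ark`), which is singular and contains `x`. -/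
theorem Cfg.two (h : MH z Q R A D) {F P : Subgroup G} (c : Cfg F P) {x : G} (m : Mn z F x)
    (e : (O2C x).relIndex F = 4) : Tg h (normalizer (F : Set G)) := by
  have i4 : ∀ {u}, Mn z F u → (O2C u).relIndex F = 4 := fun {u} mu =>
    e ▸ le_antisymm (mu.min x m.mem m.cj) (m.min u mu.mem mu.cj)
  refine tg_of_perp h (X := {u | Mn z F u}) ⟨x, m⟩ (fun _ k => k.cj) ?_ fun n hn _ k => k.norm hn
  clear e
  intro x m y m'
  by_contra n1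
  have n1' : x ∉ O2C y := fun k => n1 (perp_symm h m'.cj m.cj k)
  obtain ⟨y2, m2, n2, n3⟩ := TwoB.ex2 (y := y) c.sq (i4 m)
  obtain ⟨x2, m2', n2', n3'⟩ := TwoB.ex2 (y := x) c.sq (i4 m')
  obtain ⟨a1, x1, -⟩ := (c.octT h m m'.mem n1).ark h
  obtain ⟨a1', y1, -⟩ := (c.octT h m' m.mem n1').ark h
  obtain ⟨a2, x2', -⟩ := (c.octT h m m2 n2).ark h
  obtain ⟨a2', y2', -⟩ := (c.octT h m' m2' n2').ark h
  have nr : ∀ {a b n w : G}, a ∈ F → b ∈ F → n ∈ P → w ∈ Ak a b → n * w * n⁻¹ ∈ Ak a b :=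
    fun {a b n w} ha hb hn hw =>
      (mem_normalizer_iff.1 (norm_Ak (c.comm a ha n hn).symm (c.comm b hb n hn).symm) w).1 hw
  obtain ⟨u, ⟨⟨u1, u2⟩, u3, u4⟩, u0, uF⟩ := c.fix_sub (TwoB.common h c m m' n1 n1' m2 n2 n3 m2' n2' n3')
    (fun w hw => a1.sq hw.1.1) fun n hn w hw =>
      ⟨⟨nr m.mem m'.mem hn hw.1.1, nr m.mem m2 hn hw.1.2⟩, nr m'.mem m.mem hn hw.2.1, nr m'.mem m2' hn hw.2.2⟩
  obtain ⟨-, ⟨f1, g1, k1, e1⟩, ⟨f2, g2, k2, e2⟩, -⟩ :=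
    c.ak_le h (y := u) m m'.mem m2 n1 n2 n3 uF u0 u1 u2
  have l1 := (c.ak_le h m' m.mem m2' n1' n2' n3' uF u0 u3 u4).2.2.2 g1 k1
  have l2 := (c.ak_le h m' m.mem m2' n1' n2' n3' uF u0 u3 u4).2.2.2 g2 k2
  rw [e1] at l1
  rw [e2] at l2
  obtain ⟨c2, d2⟩ := c.comm12 h m m'.mem m2 n1 n2 n3
  obtain ⟨c2', d2'⟩ := c.comm12 h m' m.mem m2' n1' n2' n3'
  exact n1 (((wt_sing a1 a2 d2 c2).1 x ⟨x1, x2'⟩ (sq_of h m.cj).2).2
    ⟨inf_le_ark a1' a2' d2' c2' a1 l1 ⟨y1, y2'⟩, inf_le_ark a1' a2' d2' c2' a2 l2 ⟨y1, y2'⟩⟩)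

end CL.ML
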