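import Cfsg.Agent.SPOR.ML.One
import Cfsg.Agent.SPOR.ML.TwoB
import Cfsg.Agent.SPOR.ML.SingA
import Cfsg.Agent.SPOR.ML.Base

/-!
Maximal 2-local subgroups of the Monster: the main theorem.
-/

set_option autoImplicit false
set_option linter.dupNamespace false

namespace CL.ML

open Cfsg CL.Leech CL.MT CL.LX CL.MSS CL.MP Subgroup
open CL.Golay (Code)
open scoped symmDiff

variable {G : Type*} [Group G] [Finite G] {z : G} {Q : Subgroup G} {R : leechLattice → G → Prop}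
  {A : Co0 → G → Prop} {D : Set G}

theorem tg_of_cfg (h : MH z Q R A D) {F P : Subgroup G} (c : Cfg F P) (hx : ∃ x ∈ F, IsConj z x) :
    Tg h (normalizer (F : Set G)) := by
  obtain ⟨x, ⟨hx, hz⟩, hm⟩ := exists_minimalFor_of_wellFoundedLT (fun x => x ∈ F ∧ IsConj z x)
    (fun x => (O2C x).relIndex F) hx
  have m : Mn z F x := ⟨hz, hx, fun u hu hc => le_of_not_gt fun e => e.not_ge (hm ⟨hu, hc⟩ e.le)⟩
  rcases c.cases h m with e | e | e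
  · refine tg_of_perp h (X := {u | u ∈ F ∧ IsConj z u ∧ F ≤ O2C u}) ⟨x, hx, hz, e⟩ (fun _ a => a.2.1)
      (fun _ a _ b => a.2.2 b.1) fun n hn u ⟨a, b, d⟩ => ⟨(mem_normalizer_iff.1 hn u).1 a,
        b.trans (isConj_iff.2 ⟨n, rfl⟩), fun f hf => ?_⟩
    have := (mem_O2C_conj n).2 (d ((mem_normalizer_iff.1 (inv_mem hn) f).1 hf))
    simpa [mul_assoc] using this
  · exact c.one h m e
  · exact c.two h m e

/-- the seven classes -/
def Cls (h : MH z Q R A D) (i : Fin 7) (U : Subgroup G) : Prop :=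
  match i with
  | 0 => (∀ x ∈ U, x ≠ 1 → x ∈ D) ∧ Nat.card U = 2
  | 1 => (∀ x ∈ U, x ≠ 1 → x ∈ D) ∧ Nat.card U = 4
  | 2 => Sing z U ∧ Nat.card U = 2
  | 3 => Sing z U ∧ Nat.card U = 4
  | 4 => Sing z U ∧ Nat.card U = 8
  | 5 => WT h U
  | 6 => IsArk h U

theorem ne_bot_of_card {U : Subgroup G} {n : ℕ} (e : Nat.card U = n) (h : n ≠ 1) : U ≠ ⊥ := by
  rintro rfl
  exact h (e.symm.trans card_bot)

theorem Cls.two {h : MH z Q R A D} {i : Fin 7} {U : Subgroup G} (e : Cls h i U) :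
    IsPGroup 2 U ∧ U ≠ ⊥ := by
  have k : ∀ {n : ℕ}, Nat.card U = 2 ^ (n + 1) → IsPGroup 2 U ∧ U ≠ ⊥ := fun {n} e =>
    ⟨IsPGroup.of_card e, ne_bot_of_card e (Nat.one_lt_two_pow n.succ_ne_zero).ne'⟩
  fin_cases i
  · exact k (n := 0) e.2
  · exact k (n := 1) e.2
  · exact k (n := 0) e.2
  · exact k (n := 1) e.2
  · exact k (n := 2) e.2
  · obtain ⟨E1, E2, a, b, c, d, rfl⟩ := e
    exact k (n := 4) (wt_sing a b c d).2.1
  · exact k (n := 9) (IsArk.card e)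

theorem Cls.exists_conj {h : MH z Q R A D}
    (np : ∀ x ∈ D, ∀ y ∈ D, ∀ u ∈ D, x * y ∈ D → x * u ∈ D → y * u ∈ D → x * (y * u) ∉ D)
    {i : Fin 7} {U U' : Subgroup G} (e : Cls h i U) (e' : Cls h i U') : ∃ g : G, U' = g •ᶜ U := by
  have hb := e.two.2
  fin_cases i
  · exact (pure_cls h np hb e.1).2 U' e'.1 (e'.2.trans e.2.symm)
  · exact (pure_cls h np hb e.1).2 U' e'.1 (e'.2.trans e.2.symm)
  · exact e.1.exists_conj h e'.1 (e.2.trans e'.2.symm) (e.2.le.trans (by norm_num))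
  · exact e.1.exists_conj h e'.1 (e.2.trans e'.2.symm) (e.2.le.trans (by norm_num))
  · exact e.1.exists_conj h e'.1 (e.2.trans e'.2.symm) e.2.le
  · exact WT.exists_conj e e'
  · obtain ⟨g, rfl⟩ := e
    obtain ⟨g', rfl⟩ := e'
    exact ⟨g' * g⁻¹, by rw [cj_mul, inv_cj_cj]⟩

theorem exists_cls (h : MH z Q R A D)
    (np : ∀ x ∈ D, ∀ y ∈ D, ∀ u ∈ D, x * y ∈ D → x * u ∈ D → y * u ∈ D → x * (y * u) ∉ D)
    {H : Subgroup G} (hH : IsMaximalTwoLocal H) : ∃ i U, Cls h i U ∧ H ≤ normalizer (U : Set G) := by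
  obtain ⟨F, h1, h2, rfl, h3⟩ := exists_cfg h hH
  by_cases hx : ∃ x ∈ F, IsConj z x
  · obtain ⟨P, c⟩ := h3 hx
    rcases tg_of_cfg h c hx with ⟨U, a, b, d⟩ | ⟨E, a, d⟩
    · rcases a.card_cases h b with e | e | e | e
      · exact ⟨2, U, ⟨a, e⟩, d⟩
      · exact ⟨3, U, ⟨a, e⟩, d⟩
      · exact ⟨4, U, ⟨a, e⟩, d⟩
      · rcases a.big h e with ⟨E, k, l⟩ | ⟨W, k, l⟩
        · exact ⟨6, E, k, d.trans l⟩
        · exact ⟨5, W, k, d.trans l⟩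
    · exact ⟨6, E, a, d⟩
  · have hD : ∀ x ∈ F, x ≠ 1 → x ∈ D := fun x a b =>
      (two_cls h (h2 x a) b).resolve_left fun e => hx ⟨x, a, e⟩
    rcases (pure_cls h np h1 hD).1 with e | e
    · exact ⟨0, F, ⟨hD, e⟩, le_rfl⟩
    · exact ⟨1, F, ⟨hD, e⟩, le_rfl⟩

theorem main (h : MH z Q R A D)
    (np : ∀ x ∈ D, ∀ y ∈ D, ∀ u ∈ D, x * y ∈ D → x * u ∈ D → y * u ∈ D → x * (y * u) ∉ D) :
    ∃ S : Finset (Subgroup G), S.card = 7 ∧ (∀ H ∈ S, IsTwoLocal H) ∧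
      ∀ H : Subgroup G, IsMaximalTwoLocal H → ∃ H₀ ∈ S, ∃ g : G, H = g •ᶜ H₀ := by
  have : ∀ i, ∃ U : Subgroup G, (IsPGroup 2 U ∧ U ≠ ⊥) ∧ ((∃ V, Cls h i V) → Cls h i U) := fun i => by
    by_cases e : ∃ V, Cls h i V
    · exact ⟨_, e.choose_spec.two, fun _ => e.choose_spec⟩
    · exact ⟨_, Cls.two (h := h) (i := 6) (U := A0 h) ⟨1, (cj_one _).symm⟩, fun a => absurd a e⟩
  choose U hU hC using this
  obtain ⟨S, h1, h2, h3⟩ := pad h U hU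
  refine ⟨S, h1, h2, fun H hH => ?_⟩
  obtain ⟨i, V, a, b⟩ := exists_cls h np hH
  obtain ⟨g, rfl⟩ := (hC i ⟨V, a⟩).exists_conj np a
  exact ⟨_, h3 i, g, by rw [cj_normalizer]; exact (hH.2 _ ⟨_, a.two.1, a.two.2, rfl⟩ b).symm⟩

end CL.ML
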