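import Cfsg.Agent.SPOR.ML.Two
import Cfsg.Agent.SPOR.ML.A3

/-!
Maximal 2-local subgroups of the Monster: index two.
-/

set_option autoImplicit false
set_option linter.dupNamespace false

namespace CL.ML

open Cfsg CL.Leech CL.MT CL.LX CL.MSS CL.MP Subgroup
open CL.Golay (Code)
open scoped symmDiff

variable {G : Type*} [Group G] [Finite G] {z : G} {Q : Subgroup G} {R : leechLattice → G → Prop}
  {A : Co0 → G → Prop} {D : Set G}

namespace One

theorem mem_Ak (h : MH z Q R A D) {u v f : G} (hv : IsConj z v) (e : v ∈ O2C u) (ne : v ≠ u)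
    (o : OctT z A u f) (hf : f ∈ O2C v) : v ∈ Ak u f := by
  obtain ⟨g, rfl⟩ := isConj_iff.1 o.cj
  have e1 : g⁻¹ * v * g⁻¹⁻¹ ∈ Q := by
    rw [O2C_cj h, mem_cj] at e; rwa [inv_inv]
  obtain ⟨c, hc, hs⟩ := move h e1 (hv.trans (isConj_iff.2 ⟨_, rfl⟩)) fun k => ne (by rw [← k]; group)
  have k1 : c * g⁻¹ * (g * z * g⁻¹) * (c * g⁻¹)⁻¹ = z := by
    rw [show c * g⁻¹ * (g * z * g⁻¹) * (c * g⁻¹)⁻¹ = c * z * c⁻¹ by group, hc, mul_inv_cancel_right]
  rw [show c * (g⁻¹ * v * g⁻¹⁻¹) * c⁻¹ = c * g⁻¹ * v * (c * g⁻¹)⁻¹ by group] at hs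
  generalize c * g⁻¹ = k at k1 hs
  have o' := o.conj k
  rw [← conj_mem_cj_iff (g := k), ← Ak_conj, k1]
  rw [k1] at o'
  obtain ⟨c₀, h0⟩ := sgn_of_mem h hs ((mem_O2C_conj k).2 hf) (o'.comm h)
  obtain ⟨O, h8, hO⟩ : ∃ O : Code, O.1.card = 8 ∧ A (sgn O) (k * f * k⁻¹) := by
    rcases (octT_sgn h h0).1 o' with e | e
    · exact ⟨c₀, e, h0⟩
    · exact ⟨⟨_, Golay.compl_mem_code c₀.2⟩, by rw [Finset.card_compl, card_pt, e], A_compl h h0 rfl⟩
  obtain ⟨E, oa⟩ := exists_oa h h8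
  rw [oa.eq_Ak hO]
  exact oa.e8_mem hs

variable {F P : Subgroup G}

theorem g1 (c : Cfg F P) {u : G} (e : (O2C u).relIndex F = 2) : G1 F u := fun f hf g hg n n' => by
  obtain ⟨y, -, -, k⟩ := exists_of_two e
  have := mul_mem (inv_mem ((k f hf).resolve_left n)) ((k g hg).resolve_left n')
  rwa [mul_inv_rev, mul_assoc, inv_mul_cancel_left, inv_eq_of_mul_eq_one_right (c.sq f hf)] at this

theorem indep (h : MH z Q R A D) (c : Cfg F P) {u y y' : G} (m : Mn z F u) (g : G1 F u) (hy : y ∈ F)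
    (hy' : y' ∈ F) (n : y ∉ O2C u) (n' : y' ∉ O2C u) : Ak u y' = Ak u y := by
  obtain ⟨k, a, -, b, hb, b1, b2⟩ := (c.octT h m hy n).ark h
  refine (k.eq_Ak a m.cj hb b1 ?_).1
  have := mul_mem b2 (g y hy y' hy' n n')
  rwa [mul_assoc, ← mul_assoc y, c.sq y hy, one_mul] at this

end One

/-- `X = {u | Mn z F u}` is `N(F)`-invariant (`Mn.norm`), all of index two. If some `u ≠ u'` in `X` have
`F ∩ Q_u = F ∩ Q_{u'}`, let `X'` be the set of such `u`. For `u, v ∈ X'` with partners `u', v'`: `u u'` is 2B with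
the same intersection (`isConj_mul`, `tri`, `Mn.min`), one `u₁` of `u, u', u u'` lies in `F ∩ Q_v` (index two),
so `v ∈ F ∩ Q_{u₁} = F ∩ Q_u` (`perp_symm`): `tg_of_perp`. Otherwise the arks `E(u) = Ak u y`, `y ∈ F \ Q_u`
(independent of `y` by `eq_Ak`; `F ≤ C(E(u))` by `cent_Ak`) commute pairwise, and `tg_of_fam` applies:
if `v ∉ Q_u` by `a3_comm` (`Cfg.octT` both ways). If `v ∈ Q_u`, `u ≠ v`, take `f ∈ F ∩ Q_v \ Q_u`, conjugate to
`u = z`, `v` over `e8`: `f` is over `sgn O` (`sgn_of_mem`, `octT_sgn`, `A_compl`), so `v ∈ E(u)` (`exists_oa`,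
`OA.eq_Ak`, `OA.e8_mem`); symmetrically `u ∈ E(v)`; for `b ∈ E(u) \ Q_u` with `b f ∈ Q_u`, `b` acts trivially on
`E(v) ∩ Q_u` modulo `u` since `f` centralises `E(v)`: `comm_of_triv`. -/
theorem Cfg.one (h : MH z Q R A D) {F P : Subgroup G} (c : Cfg F P) {x : G} (m : Mn z F x)
    (e : (O2C x).relIndex F = 2) : Tg h (normalizer (F : Set G)) := by
  have idx : ∀ {u}, Mn z F u → (O2C u).relIndex F = 2 := fun mu =>
    le_antisymm ((mu.min x m.mem m.cj).trans e.le) (e.ge.trans (m.min _ mu.mem mu.cj))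
  have g1 : ∀ {u}, Mn z F u → G1 F u := fun mu => One.g1 c (idx mu)
  have cjF : ∀ {n f}, n ∈ normalizer (F : Set G) → f ∈ F → n * f * n⁻¹ ∈ F := fun hn hf =>
    (mem_normalizer_iff.1 hn _).1 hf
  by_cases hA : ∃ u, Mn z F u ∧ ∃ u', Mn z F u' ∧ u' ≠ u ∧ ∀ f ∈ F, (f ∈ O2C u ↔ f ∈ O2C u')
  · refine tg_of_perp h (X := {u | Mn z F u ∧ ∃ u', Mn z F u' ∧ u' ≠ u ∧ ∀ f ∈ F, (f ∈ O2C u ↔ f ∈ O2C u')})
      hA (fun _ k => k.1.cj) ?_ ?_
    · rintro u ⟨mu, u', mu', ne, k⟩ v ⟨mv, -⟩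
      have e1 := (k u' mu'.mem).2 (lx_of h mu'.cj).z_mem
      have z1 := isConj_mul h mu.cj mu'.cj e1 ne
      have t : ∀ f ∈ F, f ∈ O2C u → f ∈ O2C (u' * u) := fun f hf a =>
        tri h mu.cj mu'.cj e1 ne a ((k f hf).1 a)
      have t' : ∀ f ∈ F, f ∈ O2C (u' * u) → f ∈ O2C u := fun f hf a => by_contra fun n => by
        have : F ≤ O2C (u' * u) := fun g hg => (_root_.em (g ∈ O2C u)).elim (t g hg) fun n' =>
          (Subgroup.mul_mem_cancel_left _ a).1 (t _ (mul_mem hf hg) (g1 mu f hf g hg n n'))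
        have i := mu.min _ (mul_mem mu'.mem mu.mem) z1
        rw [idx mu, relIndex_eq_one.2 this] at i
        omega
      by_cases a : u ∈ O2C v
      · exact perp_symm h mv.cj mu.cj a
      by_cases a' : u' ∈ O2C v
      · exact (k v mv.mem).2 (perp_symm h mv.cj mu'.cj a')
      · exact t' v mv.mem (perp_symm h mv.cj z1 (g1 mv _ mu'.mem _ mu.mem a' a))
    · rintro n hn u ⟨mu, u', mu', ne, k⟩
      refine ⟨mu.norm hn, _, mu'.norm hn, fun e => ne (mul_left_cancel (mul_right_cancel e)), fun f hf => ?_⟩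
      rw [show f = n * (n⁻¹ * f * n⁻¹⁻¹) * n⁻¹ by group, mem_O2C_conj, mem_O2C_conj]
      exact k _ (cjF (inv_mem hn) hf)
  have sep : ∀ {u v}, Mn z F u → Mn z F v → v ≠ u → ∃ f ∈ F, f ∈ O2C v ∧ f ∉ O2C u := by
    intro u v mu mv ne
    by_contra! k
    refine hA ⟨u, mu, v, mv, ne, fun f hf => ⟨fun a => by_contra fun n => ?_, k f hf⟩⟩
    obtain ⟨y, hy, n', -⟩ := exists_of_two (idx mu)
    exact n' ((Subgroup.mul_mem_cancel_left _ a).1
      (k _ (mul_mem hf hy) (g1 mv f hf y hy n fun b => n' (k y hy b))))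
  obtain ⟨y₀, hy₀, n₀, -⟩ := exists_of_two e
  refine tg_of_fam (X := {E | ∃ u y, Mn z F u ∧ y ∈ F ∧ y ∉ O2C u ∧ E = Ak u y})
    ⟨_, x, y₀, m, hy₀, n₀, rfl⟩ ?_ ?_ ?_
  · rintro _ ⟨u, y, mu, hy, n, rfl⟩
    exact ((c.octT h mu hy n).ark h).1
  · rintro _ ⟨u, y, mu, hy, n, rfl⟩ _ ⟨v, y', mv, hy', n', rfl⟩
    by_cases ne : v = u
    · subst ne
      rw [One.indep h c mu (g1 mu) hy hy' n n']
      exact fun a ha b hb => ((c.octT h mu hy n).ark h).1.comm hb ha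
    by_cases a : v ∈ O2C u
    · obtain ⟨f, hf, f1, f2⟩ := sep mu mv ne
      obtain ⟨f', hf', f1', f2'⟩ := sep mv mu (Ne.symm ne)
      rw [← One.indep h c mu (g1 mu) hy hf n f2, ← One.indep h c mv (g1 mv) hy' hf' n' f2']
      have o := c.octT h mu hf f2
      obtain ⟨k, a2, -, b, hb, b1, b2⟩ := (c.octT h mv hf' f2').ark h
      refine comm_of_triv (o.ark h).1 k (One.mem_Ak h mv.cj a ne o f1) a2 mv.cj hb b1 fun w hw w1 => ?_
      have e1 : b * w * b⁻¹ = b * f' * w * (b * f')⁻¹ := by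
        rw [mul_assoc b f', ← c.cent_Ak h mu hf f2 hf' (Or.inl f1') w hw]; group
      rw [e1]
      refine ((lx_of h mv.cj).comm _ b2 w w1).imp (fun e => ?_) fun e => ?_
      · rw [e, mul_inv_cancel_right]
      · rw [e, mul_assoc w, ← comm_of_mem b2]; group
    · have a' : u ∉ O2C v := fun b => a (perp_symm h mv.cj mu.cj b)
      rw [← One.indep h c mu (g1 mu) hy mv.mem n a, ← One.indep h c mv (g1 mv) hy' mu.mem n' a']
      exact a3_comm h (c.octT h mu mv.mem a) (c.octT h mv mu.mem a')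
  · rintro n hn _ ⟨u, y, mu, hy, n', rfl⟩
    exact ⟨_, _, mu.norm hn, cjF hn hy, mt (mem_O2C_conj n).1 n', (Ak_conj n u y).symm⟩

end CL.ML
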