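import Cfsg.Agent.SPOR.ML.FrB
import Cfsg.Agent.SPOR.ML.SingG

/-!
Maximal 2-local subgroups of the Monster: large singular subgroups lie in arks.
-/

set_option autoImplicit false
set_option linter.dupNamespace false
set_option linter.unusedSectionVars false

namespace CL.ML

open Cfsg CL.Leech CL.MT CL.LX CL.MSS CL.MP Subgroup
open CL.Golay (Code)
open scoped symmDiff

variable {G : Type*} [Group G] [Finite G] {z : G} {Q : Subgroup G} {R : leechLattice → G → Prop}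
  {A : Co0 → G → Prop} {D : Set G}

/-- finite check (verified by computer): for two different sextets meeting evenly there are exactly three
octads refined by both; each sextet meeting both evenly refines one or three of them; two such sextets
meeting evenly refine a common one. Move `T₁` to a standard tetrad. -/
theorem sing_golay {X : Set (Finset GolayPt)} (h4 : ∀ T ∈ X, T.card = 4)
    (hev : ∀ T ∈ X, ∀ T' ∈ X, ∀ d ∈ Code, d.card = 8 → T ⊆ d → Even (T' ∩ d).card)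
    {T1 T2 : Finset GolayPt} (h1 : T1 ∈ X) (h2 : T2 ∈ X) (ne : T1 ∆ T2 ∉ Code) :
    ∃ O ∈ Code, O.card = 8 ∧ ∀ T ∈ X, ∃ T' ⊆ O, T ∆ T' ∈ Code :=
  SingG.main h4 hev h1 h2 ne

namespace SingB

theorem exists_notMem {U : Subgroup G} (s : Finset G) (h : s.card < Nat.card U) : ∃ u ∈ U, u ∉ s :=
  Set.exists_mem_notMem_of_ncard_lt_ncard (s := (s : Set G)) (t := (U : Set G))
    (by rw [Set.ncard_coe_finset]; exact h.trans_eq (Nat.card_coe_set_eq _))

theorem mem_cj {g x : G} {U : Subgroup G} : x ∈ g •ᶜ U ↔ ∃ u ∈ U, g * u * g⁻¹ = x := mem_map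

theorem card_cj (g : G) (U : Subgroup G) : Nat.card ↥(g •ᶜ U) = Nat.card U :=
  card_map_of_injective (MulAut.conj g).injective

theorem std (h : MH z Q R A D) {U : Subgroup G} (e : Sing z U) (h16 : 16 ≤ Nat.card U) {s : G} (hz : z ∈ U)
    (hs : s ∈ U) (rs : R (e8 none) s) : ∃ E, IsArk h E ∧ U ≤ E := by
  classical
  obtain ⟨zs, sQ, sz⟩ := cj_e8 h rs
  have tet : ∀ u ∈ U, u ∉ ({1, z, s, s * z} : Finset G) → ∃ T, T.card = 4 ∧ R4 R T u := fun u hu n => by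
    simp only [Finset.mem_insert, Finset.mem_singleton, not_or] at n
    obtain ⟨S, k⟩ := (r4_iff h rs).1 ⟨O2C_z h ▸ (e z hz (sq_of h (IsConj.refl z)).2).2 hu, (e s hs (sq_of h zs).2).2 hu⟩
    exact k.tetrad h rs (e u hu n.1).1 n.2.1 n.2.2.1 n.2.2.2
  have c4 : ({1, z, s, s * z} : Finset G).card ≤ 4 := Finset.card_le_four
  obtain ⟨u, hu, nu⟩ := exists_notMem (U := U) _ (c4.trans_lt (by omega))
  obtain ⟨v, hv, nv⟩ := exists_notMem (U := U) ({1, z, s, s * z} ∪ {u, u * z, u * s, u * s * z})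
    ((Finset.card_union_le _ _).trans_lt ((Nat.add_le_add c4 Finset.card_le_four).trans_lt (by omega)))
  rw [Finset.mem_union, not_or] at nv
  obtain ⟨T1, a1, b1⟩ := tet u hu nu
  obtain ⟨T2, a2, b2⟩ := tet v hv nv.1
  obtain ⟨O, hO, c, k⟩ := sing_golay (X := {T | T.card = 4 ∧ ∃ u ∈ U, R4 R T u}) (fun _ k => k.1)
    (fun T ⟨a, t, ht, b⟩ T' ⟨_, t', ht', b'⟩ d hd c s' =>
      b.ev h a b' ((e t ht (sq_of h (b.four h rs a).1).2).2 ht') hd c s')
    ⟨a1, u, hu, b1⟩ ⟨a2, v, hv, b2⟩ fun m => nv.2 (by simpa using (b1.eq_cases h rs b2).1 m)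
  obtain ⟨E, o⟩ := exists_oa h (O := ⟨O, hO⟩) c
  refine ⟨E, o.ark, fun w hw => ?_⟩
  by_cases n : w ∈ ({1, z, s, s * z} : Finset G)
  · simp only [Finset.mem_insert, Finset.mem_singleton] at n
    rcases n with rfl | rfl | rfl | rfl
    exacts [E.one_mem, o.z_mem, o.e8_mem rs, E.mul_mem (o.e8_mem rs) o.z_mem]
  obtain ⟨T, a, b⟩ := tet w hw n
  obtain ⟨T', h1, h2⟩ := k T ⟨a, w, hw, b⟩
  have := b.code h h2
  rw [symmDiff_symmDiff_cancel_left] at this
  exact R4.mem_oa o this h1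

end SingB

/-- standard position -/
theorem Sing.std (h : MH z Q R A D) {U : Subgroup G} (e : Sing z U) (h4 : 4 ≤ Nat.card U) :
    ∃ g s, z ∈ g •ᶜ U ∧ s ∈ g •ᶜ U ∧ R (e8 none) s := by
  classical
  obtain ⟨u, hu, nu⟩ := SingB.exists_notMem (U := U) {1} (by rw [Finset.card_singleton]; omega)
  obtain ⟨v, hv, nv⟩ := SingB.exists_notMem (U := U) {1, u} (Finset.card_le_two.trans_lt (by omega))
  simp only [Finset.mem_insert, Finset.mem_singleton, not_or] at nu nv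
  obtain ⟨g, hg⟩ := isConj_iff.1 (e u hu nu).1.symm
  have k : g * v * g⁻¹ ∈ Q := by
    rw [← O2C_z h, ← hg]
    exact (mem_O2C_conj g).2 ((e u hu nu).2 hv)
  obtain ⟨c, c1, c2⟩ := move h k ((e v hv nv.1).1.trans (isConj_iff.2 ⟨g, rfl⟩)) fun m =>
    nv.2 (mul_left_cancel (mul_right_cancel (m.trans hg.symm)))
  refine ⟨c * g, _, SingB.mem_cj.2 ⟨u, hu, ?_⟩, SingB.mem_cj.2 ⟨v, hv, ?_⟩, c2⟩
  · calc _ = c * (g * u * g⁻¹) * c⁻¹ := by group
      _ = z := by rw [hg, c1, mul_inv_cancel_right]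
  · group

/-- `X = {T | |T| = 4, ∃ u ∈ U, R4 R T u}`; `r4_iff`, `R4.tetrad`, `R4.ev`, `R4.eq_cases` (order `≥ 16` gives
`T₁, T₂`), `sing_golay`, `exists_oa`, `R4.code`, `R4.mem_oa`, `OA.e8_mem` -/
theorem Sing.in_ark (h : MH z Q R A D) {U : Subgroup G} (e : Sing z U) (h16 : 16 ≤ Nat.card U) :
    ∃ E, IsArk h E ∧ U ≤ E := by
  obtain ⟨g, s, hz, hs, rs⟩ := e.std h (by omega)
  obtain ⟨E, k, hE⟩ := SingB.std h (e.conj g) ((SingB.card_cj g U).symm ▸ h16) hz hs rs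
  refine ⟨g⁻¹ •ᶜ E, k.conj _, fun u hu => SingB.mem_cj.2 ⟨g * u * g⁻¹, hE (SingB.mem_cj.2 ⟨u, hu, rfl⟩), by group⟩⟩

end CL.ML
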