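import Cfsg.Agent.SPOR.ML.FrB

/-!
Maximal 2-local subgroups of the Monster: pairwise evenly meeting sextets refine a common octad.
-/

set_option autoImplicit false
set_option linter.dupNamespace false

namespace CL.ML.SingB2

open Cfsg CL.Golay CL.K
open scoped symmDiff Pointwise

/-- tetrad `i` of the sextet `j` (the 91 sextets meeting the sextet of `T4` evenly) -/
def tb (j i : ℕ) : ℕ := fld 24 16777215 39028094763844398355363676377545478207600099687577195354371931934997003515963169734773770919243899098273451141221041016313661796706084702191906453782305727698018727909983278101224771593016732821141732910388077311684272038429291048832594983980803701156260490682753235433052449020257034161149783524899805385417014030776411666295518430701896858566783337059973443714228412706476485352605885319727213938304042504386332920326118243161217332223252564393805610394184383239221341935898611771452620468483022158866532817549826966069175032854600010709747428152377924776567629428751956920003482990677708873510845194248118071609927644836399289457858260924617743449570090223225140321674965463540600213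22549163826782358399534747107336791098181406016895367015118027700011725274354864405944554046747615273911828330639271845713890240805486186306263408592328491530244813519530544107793927540282962877620090076345789321731241475979006250314796826221610889027885361428837696903087520978010336161807068961532836401584581163795007551691757341530603001612092151299448808940330351333316474856136732381968471513699877620526169792219268591865202876577969390538681201223937555223833534628723541211166043199640227102389967229713473818953825850073436757324960322334577845671306159551800303653452499386186027866993248757830427408648160732601197428967674897493343629528410404812421918442000828352429866173017638039843591107575459261569396404125787637343542713248851244296822178530224844508908207150310023625399706100801937298504944842266946021708879729963198083256282656185970367368298160924171212473594473521205689102348781027564553626147255370506738108432153398167191410288244176312948187706287277147329707940209850952036231822944049400369136450793636262995895794307345591451929004290485964492168426728254715881608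91371489774148184738072365023888893653635112474740498133807420757920622269394269955399000117133220442713107344271727105034422142938072629477431857795634423688912445099939574598240032787703431384602675892242445575149885078187966382790817594567955339352686105353824181452561617395643394235569545052360484990254352130167882163261252303770210156760189874712085917345500166679027675633793868592438465327438786644899693782498478037449770935903565612951820929597303777435685717354741770489008360460399807010087903231070363965666617481862729536783617653413231791110250468296029980581067753043796831387896995332800746141290616577582831830338476553584626634507162314822237149821790485983110012514192213647211416773114466036088436415532425735390579740092265209191834412267994022626010840190606395088315602672324686173289790678582002611717341654756384733883291610248088019763518526950835136886010658721737227253159120105820636716694147972190322597815369216887183449030806906990944815225657722951856236519743461079455752124815260694953202035590256610203167350439211831515215412346359169230562146751862331890721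32618137388746054661645899450911867109798935511123349725536658167983940328605250232747583895292406813904878066654271887639817658814280255078497856611485535434212534010395156515066502173956576794799848429012851068067164593718841330900514224349344828573484598912874867714717450395625182417281012000832618933463093350512410906852493589404294551019602786071918446258234302727266345723283341721501091261419766817932007278282266304463717833746349684325080590238584456536392349516741239538133812903239650842533497193003837582655391596586481603657230254125988062636922322127274314113653179503878812469414998809163484547241587854862154902715299665133910668775568920154166900287185392890038761583654080184144110940378999325936996847563507140133961007040217752305142716863177035130824514050105730910987574634922394219663142613799784920605051929669435229411037465458253099291192598225605234353336666147852224811657272118046383805145150353956861075067696231497593102062557607443349506026431104510304472555458072690663965839949658764852249682039298119856679618959039696824434695 (Nat.add (Nat.mul 6 j) i)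
/-- the 15 octads refined by the sextet of `T4` -/
def oc (k : ℕ) : ℕ := fld 24 16777215 189177830812641892244874109857141659311208482368295438148477394701170035969917392875171335062547104270532655 k
/-- the 15 synthemes and the full set -/
def sy (a : ℕ) : ℕ := fld 15 32767 1766820949801646837106943682477653146752515437107094646025788541802644112 a
/-- the syntheme of the sextet `j` -/
def si (j : ℕ) : ℕ := fld 4 15 29656938492287616408842010442209743671767577046320562896006915317552216640532746308869650056843800629619439855 j
def sn (j : ℕ) : ℕ := fld 12 4095 23070938942049961844450163058842621491062993863065745975209755595759340701480501288573660209729431675544907348119390708860271449786148196445765738651199162087710019853002347853112476718711356766239568119024313935210000696209208471284052317810734196370721107382650453708942506366114900741577858292599197792166029961174688367836577 j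

noncomputable def pp (j c : ℕ) : Bool :=
  allLt (fun i => Nat.beq (Nat.mod (pc24 (Nat.land c (Nat.xor (tb j 0) (tb j i)))) 2) 0) 6

theorem chkA : lallA (fun c => !pp 0 c || anyLt (fun j => Nat.beq (syn c) (sn j)) 91) sexTab = true := by
  decide +kernel

theorem chkB : allLt (fun j => Nat.beq (syn (tb j 0)) (sn j) &&
    allLt (fun i => isTet (tb j i) && isCw (Nat.xor (tb j 0) (tb j i))) 6 &&
    allLt (fun k => !Nat.testBit (sy (si j)) k ||
      anyLt (fun i => Nat.beq (Nat.land (tb j i) (oc k)) (tb j i)) 6) 15) 91 = true := by
  decide +kernel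

theorem chkC : allLt (fun j => allLt (fun j' => !pp j (tb j' 0) ||
    !Nat.beq (Nat.land (sy (si j)) (sy (si j'))) 0) 91) 91 = true := by
  decide +kernel

theorem chkO : ∀ k < 15, isOct (oc k) = true := by decide +kernel

set_option synthInstance.maxSize 1000 in
theorem chkH : ∀ a < 15, ∀ b < 15, a ≠ b → sy a &&& sy b ≠ 0 → ∃ k < 15, ∀ c < 16,
    sy a &&& sy c ≠ 0 → sy b &&& sy c ≠ 0 → (sy c).testBit k = true := by decide +kernel

theorem chkH' : ∀ a < 16, ∃ k < 15, (sy a).testBit k = true ∧ (sy 15).testBit k = true := by decide +kernel

theorem helly {Y : Set ℕ} (hY : ∀ a ∈ Y, a < 16) (h : ∀ a ∈ Y, ∀ b ∈ Y, sy a &&& sy b ≠ 0) :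
    ∃ k < 15, ∀ a ∈ Y, (sy a).testBit k = true := by
  by_cases c : ∃ a ∈ Y, ∃ b ∈ Y, a ≠ b ∧ a ≠ 15 ∧ b ≠ 15
  · obtain ⟨a, ha, b, hb, n, n1, n2⟩ := c
    have := hY a ha
    have := hY b hb
    obtain ⟨k, hk, e⟩ := chkH a (by omega) b (by omega) n (h a ha b hb)
    exact ⟨k, hk, fun c hc => e c (hY c hc) (h a ha c hc) (h b hb c hc)⟩
  push Not at c
  by_cases d : ∃ a ∈ Y, a ≠ 15
  · obtain ⟨a, ha, n⟩ := d
    obtain ⟨k, hk, e, e'⟩ := chkH' a (hY a ha)
    refine ⟨k, hk, fun b hb => ?_⟩
    by_cases q : a = b
    · exact q ▸ e
    · exact c a ha b hb q n ▸ e'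
  · push Not at d
    obtain ⟨k, hk, e, -⟩ := chkH' 15 (by decide)
    exact ⟨k, hk, fun b hb => d b hb ▸ e⟩

theorem ev1 {T T' U : Finset GolayPt} (h4 : T.card = 4) (u4 : U.card = 4) (c : T ∆ U ∈ Code)
    (hev : ∀ d ∈ Code, d.card = 8 → T ⊆ d → Even (T' ∩ d).card) : Even (T' ∩ T ∆ U).card := by
  have e := card_symmDiff_add T U
  rcases card_of_mem_code c with q | q | q | q | q
  · rw [Finset.card_eq_zero.1 q]; simp
  · refine hev _ c q fun p hp => Finset.mem_symmDiff.2 (.inl ⟨hp, fun hu => ?_⟩)
    have := Finset.card_pos.2 ⟨p, Finset.mem_inter.2 ⟨hp, hu⟩⟩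
    omega
  all_goals omega

theorem ev2 {T T' U U' V : Finset GolayPt} (h4 : T.card = 4) (u4 : U.card = 4) (u4' : U'.card = 4)
    (c : T ∆ U ∈ Code) (c' : T ∆ U' ∈ Code) (cv : T' ∆ V ∈ Code)
    (hev : ∀ d ∈ Code, d.card = 8 → T ⊆ d → Even (T' ∩ d).card) : Even (V ∩ U ∆ U').card := by
  have e : U ∆ U' = (T ∆ U) ∆ (T ∆ U') := by
    rw [symmDiff_symmDiff_symmDiff_comm, symmDiff_self, bot_symmDiff]
  have k : Even (T' ∩ U ∆ U').card := by
    rw [e, Finset.inter_comm, FrB.ev_symm, Finset.inter_comm _ T', Finset.inter_comm _ T']
    exact iff_of_true (ev1 h4 u4 c hev) (ev1 h4 u4' c' hev)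
  exact ((FrB.ev_symm _ _ _).1 (even_card_inter cv (e ▸ symmDiff_mem_code c c'))).1 k

theorem tbB {j : ℕ} (hj : j < 91) : syn (tb j 0) = sn j ∧
    (∀ i < 6, (tb j i < 2 ^ 24 ∧ (E.setOf (tb j i)).card = 4) ∧ E.setOf (tb j 0) ∆ E.setOf (tb j i) ∈ Code) ∧
    ∀ k < 15, (sy (si j)).testBit k = true → ∃ i < 6, E.setOf (tb j i) ⊆ E.setOf (oc k) := by
  have := allLt_iff.1 chkB j hj
  rw [Bool.and_eq_true, Bool.and_eq_true, allLt_iff, allLt_iff, Nat.beq_eq] at this
  obtain ⟨⟨a, b⟩, c⟩ := this
  have b' : ∀ i < 6, (tb j i < 2 ^ 24 ∧ (E.setOf (tb j i)).card = 4) ∧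
      E.setOf (tb j 0) ∆ E.setOf (tb j i) ∈ Code := fun i hi => by
    have := b i hi
    rw [Bool.and_eq_true, isTet_iff] at this
    exact ⟨this.1, E.setOf_xor _ _ ▸ setOf_mem_of_isCw this.2⟩
  refine ⟨a, b', fun k hk e => ?_⟩
  have := c k hk
  rw [e, Bool.not_true, Bool.false_or, anyLt_iff] at this
  obtain ⟨i, hi, q⟩ := this
  exact ⟨i, hi, (E.setOf_subset_iff (b' i hi).1.1).2 (Nat.eq_of_beq_eq_true q)⟩

theorem pp_of {T T' : Finset GolayPt} {j c : ℕ} (hj : j < 91) (h4 : T.card = 4)
    (e : T ∆ E.setOf (tb j 0) ∈ Code) (e' : T' ∆ E.setOf c ∈ Code)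
    (hev : ∀ d ∈ Code, d.card = 8 → T ⊆ d → Even (T' ∩ d).card) : pp j c = true := by
  refine allLt_iff.2 fun i hi => ?_
  obtain ⟨-, b, -⟩ := tbB hj
  have := ev2 h4 (b 0 (by decide)).1.2 (b i hi).1.2 e
    (by simpa only [symmDiff_assoc, symmDiff_symmDiff_cancel_left] using symmDiff_mem_code e (b i hi).2) e' hev
  rw [← E.setOf_xor, ← E.setOf_and, card_setOf, Nat.even_iff] at this
  rw [Nat.beq_eq]
  exact this

theorem std {X : Set (Finset GolayPt)} (h4 : ∀ T ∈ X, T.card = 4)
    (hev : ∀ T ∈ X, ∀ T' ∈ X, ∀ d ∈ Code, d.card = 8 → T ⊆ d → Even (T' ∩ d).card)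
    (h1 : E.setOf T4 ∈ X) : ∃ O ∈ Code, O.card = 8 ∧ ∀ T ∈ X, ∃ T' ⊆ O, T ∆ T' ∈ Code := by
  have idx : ∀ T ∈ X, ∃ j < 91, T ∆ E.setOf (tb j 0) ∈ Code := fun T hT => by
    obtain ⟨c, hc, e⟩ := (sexTab_table.mem _).1 (sextetOf_mem (h4 T hT))
    obtain ⟨l, c4⟩ := isTet_iff.1 (sexTab_isTet c hc)
    have s : Syn (E.setOf c) = Syn T := (mem_sextetOf.1 (e ▸ self_mem_sextetOf c4)).2
    have := lallA_iff.1 chkA c hc
    rw [pp_of (j := 0) (by decide) card_T4 (by rw [show tb 0 0 = T4 by decide +kernel]; simpa using empty_mem_code)
      (Syn_eq_iff.1 s.symm) (hev _ h1 T hT), Bool.not_true, Bool.false_or, anyLt_iff] at this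
    obtain ⟨j, hj, q⟩ := this
    obtain ⟨a, b, -⟩ := tbB hj
    refine ⟨j, hj, Syn_eq_iff.1 ?_⟩
    rw [← s, Syn_setOf l, Syn_setOf (b 0 (by decide)).1.1, a]
    exact Nat.eq_of_beq_eq_true q
  choose! J hJ eJ using idx
  obtain ⟨k, hk, e⟩ := helly (Y := (fun T => si (J T)) '' X)
    (by rintro _ ⟨T, -, rfl⟩; exact Nat.lt_succ_of_le (fld_le _ _ _ _)) (by
      rintro _ ⟨T, hT, rfl⟩ _ ⟨T', hT', rfl⟩ q
      have := allLt_iff.1 (allLt_iff.1 chkC _ (hJ T hT)) _ (hJ T' hT')
      rw [pp_of (hJ T hT) (h4 T hT) (eJ T hT) (eJ T' hT') (hev T hT T' hT'), Bool.not_true, Bool.false_or,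
        show Nat.land (sy (si (J T))) (sy (si (J T'))) = 0 from q] at this
      exact absurd this (by decide))
  obtain ⟨o1, o2⟩ := mem_octads.1 (setOf_mem_of_isOct (chkO k hk))
  refine ⟨_, o1, o2, fun T hT => ?_⟩
  obtain ⟨-, b, c⟩ := tbB (hJ T hT)
  obtain ⟨i, hi, s⟩ := c k hk (e _ ⟨T, hT, rfl⟩)
  exact ⟨_, s, by
    simpa only [symmDiff_assoc, symmDiff_symmDiff_cancel_left] using symmDiff_mem_code (eJ T hT) (b i hi).2⟩

theorem sing_golay' {X : Set (Finset GolayPt)} (h4 : ∀ T ∈ X, T.card = 4)
    (hev : ∀ T ∈ X, ∀ T' ∈ X, ∀ d ∈ Code, d.card = 8 → T ⊆ d → Even (T' ∩ d).card)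
    {T1 : Finset GolayPt} (h1 : T1 ∈ X) :
    ∃ O ∈ Code, O.card = 8 ∧ ∀ T ∈ X, ∃ T' ⊆ O, T ∆ T' ∈ Code := by
  obtain ⟨g, hg, e⟩ := exists_smul_eq_of_card_eq (card_T4.trans (h4 _ h1).symm) (by rw [card_T4]; decide)
  obtain ⟨O, o1, o2, k⟩ := std (X := {T | g • T ∈ X})
    (fun T hT => (Finset.card_smul_finset g T).symm.trans (h4 _ hT))
    (fun T hT T' hT' d hd h8 s => by
      have := hev _ hT _ hT' _ ((smul_mem_code hg).2 hd) ((Finset.card_smul_finset g d).trans h8)
        (Finset.smul_finset_subset_smul_finset_iff.2 s)
      rwa [← Finset.smul_finset_inter, Finset.card_smul_finset] at this) (by rwa [Set.mem_setOf_eq, e])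
  refine ⟨g • O, (smul_mem_code hg).2 o1, (Finset.card_smul_finset g O).trans o2, fun T hT => ?_⟩
  obtain ⟨T', s, c⟩ := k (g⁻¹ • T) (by rwa [Set.mem_setOf_eq, smul_inv_smul])
  refine ⟨g • T', Finset.smul_finset_subset_smul_finset_iff.2 s, ?_⟩
  have := (smul_mem_code hg).2 c
  rwa [Finset.smul_finset_symmDiff, smul_inv_smul] at this

theorem sing_golay {X : Set (Finset GolayPt)} (h4 : ∀ T ∈ X, T.card = 4)
    (hev : ∀ T ∈ X, ∀ T' ∈ X, ∀ d ∈ Code, d.card = 8 → T ⊆ d → Even (T' ∩ d).card)
    {T1 T2 : Finset GolayPt} (h1 : T1 ∈ X) (_h2 : T2 ∈ X) (_ne : T1 ∆ T2 ∉ Code) :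
    ∃ O ∈ Code, O.card = 8 ∧ ∀ T ∈ X, ∃ T' ⊆ O, T ∆ T' ∈ Code :=
  sing_golay' h4 hev h1

end CL.ML.SingB2
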