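import Cfsg.Agent.SPOR.ML.FourA
import Cfsg.Agent.SPOR.ML.FrC
import Cfsg.Agent.SPOR.ML.Comm

/-!
Maximal 2-local subgroups of the Monster: if the image of `F` in `C(x) / Q_x` has order four then `F` lies in
the product of two commuting arks.
-/

set_option autoImplicit false
set_option linter.dupNamespace false

namespace CL.ML.Two2

open Cfsg CL.Leech CL.MT CL.LX CL.MSS CL.MP Subgroup

variable {G : Type*} [Group G] [Finite G] {z : G} {Q : Subgroup G} {R : leechLattice → G → Prop}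
  {A : Co0 → G → Prop} {D : Set G} {F P : Subgroup G} {x y y1 y2 : G}

theorem cent_Ak (h : MH z Q R A D) (c : Cfg F P) (m : Mn z F x) (hy : y ∈ F) (n : y ∉ O2C x) {f : G}
    (hf : f ∈ F) (e : f ∈ O2C x ∨ y * f ∈ O2C x) : f ∈ centralizer (Ak x y : Set G) := by
  have o := c.octT h m hy n
  have k : ∀ f ∈ F, f ∈ O2C x → f ∈ centralizer (Ak x y : Set G) := fun f hf e =>
    o.cent_of_Q h e (Or.inl (mul_inv_eq_of_eq_mul (c.comm' hy hf)))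
  rcases e with e | e
  · exact k f hf e
  · exact (mul_mem_cancel_left (o.cent_self h (c.sq y hy))).1 (k _ (mul_mem hy hf) e)

theorem comm12 (h : MH z Q R A D) (c : Cfg F P) (m : Mn z F x) (m1 : y1 ∈ F) (m2 : y2 ∈ F)
    (n1 : y1 ∉ O2C x) (n2 : y2 ∉ O2C x) (n3 : y1 * y2 ∉ O2C x) :
    Ak x y2 ≤ centralizer (Ak x y1 : Set G) ∧ Ak x y1 ≠ Ak x y2 := by
  obtain ⟨e1, x1, -, b1, hb1, k1, l1⟩ := (c.octT h m m1 n1).ark h
  obtain ⟨e2, x2, -, b2, hb2, k2, l2⟩ := (c.octT h m m2 n2).ark h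
  have hL := lx_of h m.cj
  refine ⟨comm_of_triv e1 e2 x1 x2 m.cj hb2 k2 fun w hw hw' => ?_, fun e => n3 ?_⟩
  · have hx := c.comm' m2 m.mem
    have h1 : y2 * w * y2⁻¹ ∈ O2C x := conj_mem_O2C hx hw'
    have h2 : b2 * w * b2⁻¹ = b2 * y2 * (y2 * w * y2⁻¹) * (b2 * y2)⁻¹ := by
      calc _ = b2 * (y2 * y2) * w * (y2 * y2)⁻¹ * b2⁻¹ := by rw [c.sq y2 m2]; group
        _ = _ := by group
    rw [h2]
    rcases hL.conj_cases h1 l2 with e | e <;> rcases c.no_four h m m1 m2 n1 n2 n3 w hw hw' with e' | e' <;>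
      rw [e, e']
    · exact Or.inl rfl
    · exact Or.inr rfl
    · exact Or.inr rfl
    · exact Or.inl (by rw [mul_assoc, hL.z_sq, mul_one])
  · have h1 := e2.mul_mem_O2C x2 m.cj hb2 (e ▸ hb1) k2 k1
    have h4 := mul_mem (mul_mem (inv_mem l1) (inv_mem h1)) l2
    rwa [show (b1 * y1)⁻¹ * (b2 * b1)⁻¹ * (b2 * y2) = y1⁻¹ * (b1 * b1)⁻¹ * y2 by group, e1.sq hb1, inv_one, mul_one,
      inv_eq_of_mul_eq_one_right (c.sq y1 m1)] at h4

/-- `five` in general position -/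
theorem five' {h : MH z Q R A D} {s b p : G} {E1 E2 : Subgroup G} (hx : IsConj z x) (hs : IsConj z s)
    (sx : s ∈ O2C x) (ne : s ≠ x) (e1 : IsArk h E1) (e2 : IsArk h E2) (n12 : E1 ≠ E2)
    (hc : E2 ≤ centralizer (E1 : Set G)) (x1 : x ∈ E1) (x2 : x ∈ E2) (s1 : s ∈ E1) (s2 : s ∈ E2)
    (hy : y ∈ centralizer (E1 : Set G)) (yy : y * y = 1) (hp : p ∈ E1) (p1 : p ∉ O2C x) (p2 : p * y ∈ O2C x)
    (hb : b ∈ E2) (e : y * b * y⁻¹ * b⁻¹ = s ∨ y * b * y⁻¹ * b⁻¹ = s * x) : y ∈ O2C s ∨ y ∈ O2C (s * x) := by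
  obtain ⟨k, hk, hs'⟩ : ∃ k, k * x * k⁻¹ = z ∧ R (e8 none) (k * s * k⁻¹) := by
    obtain ⟨g, rfl⟩ := isConj_iff.1 hx
    obtain ⟨s, rfl⟩ := ArkA.ex_cj g s
    obtain ⟨c, cz, hc⟩ := move h (by rwa [mem_O2C_conj, O2C_z h] at sx)
      (hs.trans (isConj_iff.2 ⟨g, rfl⟩).symm) (fun e => ne (by rw [e]))
    refine ⟨c * g⁻¹, ?_, by convert hc using 1; group⟩
    calc _ = c * z * c⁻¹ := by group
      _ = z := by rw [cz]; group
  have hQ : ∀ {a}, k * a * k⁻¹ ∈ Q ↔ a ∈ O2C x := by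
    intro a
    rw [← O2C_z h, ← hk, mem_O2C_conj]
  obtain ⟨O1, O2, o1, o2, hd⟩ := frame3 (e1.conj k) (e2.conj k) (mt (cj_inj k).1 n12) (Comm.cj_cent hc k)
    (hk ▸ conj_mem_cj x1) (hk ▸ conj_mem_cj x2) hs' (conj_mem_cj s1) (conj_mem_cj s2)
  have ha := h.A_mul (o1.ovr _ (conj_mem_cj hp) (mt hQ.1 p1)) (h.toMT.A_one (hQ.2 p2))
  rw [mul_one, show k * p * k⁻¹ * (k * (p * y) * k⁻¹) = k * (p * p * y) * k⁻¹ by group, e1.sq hp, one_mul] at ha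
  have e0 : k * y * k⁻¹ * (k * b * k⁻¹) * (k * y * k⁻¹)⁻¹ * (k * b * k⁻¹)⁻¹ = k * (y * b * y⁻¹ * b⁻¹) * k⁻¹ := by
    group
  have e3 : k * s * k⁻¹ * z = k * (s * x) * k⁻¹ := by rw [← hk]; group
  have := five hs' o1 o2 hd (Comm.cj_cent hc k) (cj_centralizer k E1 ▸ conj_mem_cj hy)
    (by rw [show k * y * k⁻¹ * (k * y * k⁻¹) = k * (y * y) * k⁻¹ by group, yy]; group) ha (conj_mem_cj hb)
    (by rw [e0, e3]; exact e.imp (fun e => by rw [e]) fun e => by rw [e])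
  rwa [e3, mem_O2C_conj, mem_O2C_conj] at this

omit [Finite G] in
theorem cover {U V W : Subgroup G} (m1 : y1 ∈ F) (m2 : y2 ∈ F) (yy : y2 * y2 = 1) (n1 : y1 ∉ W) (n2 : y2 ∉ W)
    (n3 : y1 * y2 ∉ W) (h1 : ∀ f ∈ F, f ∉ W → f ∈ U ∨ f ∈ V) (h2 : ∀ g ∈ U, g ∈ V → g ∈ W) : F ≤ U ∨ F ≤ V := by
  have key : ∀ {U V : Subgroup G}, (∀ f ∈ F, f ∉ W → f ∈ U ∨ f ∈ V) → (∀ g ∈ U, g ∈ V → g ∈ W) → y1 ∈ U →
      y2 ∈ U → F ≤ U := fun {U V} h1 h2 u1 u2 f hf => by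
    by_contra hn
    have k : ∀ g ∈ F, g ∉ U → g ∈ V ∨ g ∈ W := fun g hg n => by
      by_cases e : g ∈ W
      exacts [Or.inr e, Or.inl ((h1 g hg e).resolve_left n)]
    have a : ∀ {T : Subgroup G}, T = V ∨ T = W → ∀ g ∈ U, g ∈ T → g ∈ W := by
      rintro _ (rfl | rfl) g a b
      exacts [h2 g a b, b]
    have k1 : ∀ {T : Subgroup G}, T = V ∨ T = W → f ∈ T → y1 * f ∈ T → False := fun e b d =>
      n1 (a e _ u1 ((mul_mem_cancel_right b).1 d))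
    have k2 : ∀ {T : Subgroup G}, T = V ∨ T = W → f ∈ T → y2 * f ∈ T → False := fun e b d =>
      n2 (a e _ u2 ((mul_mem_cancel_right b).1 d))
    have k3 : ∀ {T : Subgroup G}, T = V ∨ T = W → y1 * f ∈ T → y2 * f ∈ T → False := fun e b d =>
      n3 (a e _ (mul_mem u1 u2) (by
        simpa [mul_assoc, inv_eq_of_mul_eq_one_right yy] using mul_mem b (inv_mem d)))
    rcases k f hf hn with a0 | a0 <;>
      rcases k _ (mul_mem m1 hf) (fun e => hn ((mul_mem_cancel_left u1).1 e)) with a1 | a1 <;>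
      rcases k _ (mul_mem m2 hf) (fun e => hn ((mul_mem_cancel_left u2).1 e)) with a2 | a2
    exacts [k1 (.inl rfl) a0 a1, k1 (.inl rfl) a0 a1, k2 (.inl rfl) a0 a2, k3 (.inr rfl) a1 a2,
      k3 (.inl rfl) a1 a2, k2 (.inr rfl) a0 a2, k1 (.inr rfl) a0 a1, k1 (.inr rfl) a0 a1]
  have h1' : ∀ f ∈ F, f ∉ W → f ∈ V ∨ f ∈ U := fun f a b => (h1 f a b).symm
  have h2' : ∀ g ∈ V, g ∈ U → g ∈ W := fun g a b => h2 g b a
  rcases h1 _ m1 n1 with a | a <;> rcases h1 _ m2 n2 with b | b <;> rcases h1 _ (mul_mem m1 m2) n3 with d | d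
  exacts [.inl (key h1 h2 a b), .inl (key h1 h2 a b), .inl (key h1 h2 a ((mul_mem_cancel_left a).1 d)),
    .inr (key h1' h2' ((mul_mem_cancel_right b).1 d) b), .inl (key h1 h2 ((mul_mem_cancel_right b).1 d) b),
    .inr (key h1' h2' a ((mul_mem_cancel_left a).1 d)), .inr (key h1' h2' a b), .inr (key h1' h2' a b)]

theorem fin (h : MH z Q R A D) (c : Cfg F P) (m : Mn z F x) (hy : y ∈ F) (n : y ∉ O2C x) {u : G}
    (hu : IsConj z u) (ux : u ∈ O2C x) (ne : u ≠ x) (hP : ∀ g ∈ P, g * u * g⁻¹ = u ∨ g * u * g⁻¹ = u * x)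
    (hF : F ≤ O2C u) : False := by
  have h1 : u ∈ F := c.cl u (sq_of h hu).1 fun g hg => by
    refine (mul_inv_eq_iff_eq_mul.1 ((hP g hg).resolve_right fun e => n (tri' h m.cj hu ux ne (hF hy) ?_))).symm
    have := (mem_O2C_conj g).2 (hF hy)
    rwa [e, ← c.comm y hy g hg, mul_inv_cancel_right] at this
  have h2 := m.min u h1 hu
  rw [relIndex_eq_one.2 hF] at h2
  have h3 : (O2C x).relIndex F ≠ 0 := FiniteIndex.index_ne_zero
  exact n (relIndex_eq_one.1 (by omega) hy)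

theorem cent12 (h : MH z Q R A D) (c : Cfg F P) (m : Mn z F x) (m1 : y1 ∈ F) (m2 : y2 ∈ F)
    (n1 : y1 ∉ O2C x) (n2 : y2 ∉ O2C x) (n3 : y1 * y2 ∉ O2C x)
    (h3 : ∀ f ∈ F, f ∈ O2C x ∨ y1 * f ∈ O2C x ∨ y2 * f ∈ O2C x ∨ y1 * y2 * f ∈ O2C x) :
    y1 ∈ centralizer (Ak x y2 : Set G) := by
  by_contra hn
  have m3 := mul_mem m1 m2
  have hL := lx_of h m.cj
  obtain ⟨e1, x1, -, p, hp, k1, l1⟩ := (c.octT h m m1 n1).ark h
  obtain ⟨e2, x2, -, b, hb, k2, l2⟩ := (c.octT h m m2 n2).ark h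
  obtain ⟨e3, x3, -, d, hd, k3, l3⟩ := (c.octT h m m3 n3).ark h
  have s1 := c.sq y1 m1
  have s2 := c.sq y2 m2
  have cc := c.comm' m1 m2
  obtain ⟨c12, n12⟩ := comm12 h c m m1 m2 n1 n2 n3
  obtain ⟨c13, -⟩ := comm12 h c m m1 m3 n1 n3 (by rwa [← mul_assoc, s1, one_mul])
  obtain ⟨c32, n32⟩ := comm12 h c m m3 m2 n3 n2 (by rwa [mul_assoc, s2, mul_one])
  have c23 := le_centralizer_iff.1 c32
  have z1 := cent_Ak h c m m1 n1 m1 (.inr (s1 ▸ one_mem _))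
  have z2 := cent_Ak h c m m2 n2 m2 (.inr (s2 ▸ one_mem _))
  have z3 := cent_Ak h c m m3 n3 m3 (.inr (c.sq _ m3 ▸ one_mem _))
  have zp : p ∈ centralizer (Ak x y1 : Set G) := fun a ha => e1.comm ha hp
  have zq := mul_mem zp z1
  have lA : ∀ g ∈ centralizer (Ak x y1 : Set G),
      y1 * g * y1⁻¹ * g⁻¹ = p * y1 * g * (p * y1)⁻¹ * g⁻¹ := fun g hg => by
    have := mul_mem (mul_mem z1 hg) (inv_mem z1) p hp
    calc _ = p⁻¹ * p * (y1 * g * y1⁻¹) * g⁻¹ := by group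
      _ = p * (p * (y1 * g * y1⁻¹)) * g⁻¹ := by rw [inv_eq_of_mul_eq_one_right (e1.sq hp)]; group
      _ = p * (y1 * g * y1⁻¹ * p) * g⁻¹ := by rw [this]
      _ = _ := by rw [mul_inv_rev, inv_eq_of_mul_eq_one_right (e1.sq hp)]; group
  generalize hs : y1 * b * y1⁻¹ * b⁻¹ = s
  have hq := (lA b (c12 hb)).symm.trans hs
  generalize hq0 : p * y1 = q at l1 zq lA hq
  have bx := e2.comm hb x2
  have sx : s ∈ O2C x := by
    simpa [← hq, mul_assoc] using mul_mem l1 (conj_mem_O2C bx (inv_mem l1))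
  have t1 : s ∈ Ak x y1 := hq ▸ e1.comm_mem zq (c12 hb)
  have t2 : s ∈ Ak x y2 := hq ▸ mul_mem ((mem_normalizer_iff.1 (e2.O2C_le x2 m.cj l1) b).1 hb) (inv_mem hb)
  have yb : ∀ f, f * b = b * f → y1 * f * b * (y1 * f)⁻¹ * b⁻¹ = s := fun f e => by
    calc _ = y1 * (f * b) * f⁻¹ * y1⁻¹ * b⁻¹ := by group
      _ = _ := by rw [e, ← hs]; group
  have t3 : s ∈ Ak x (y1 * y2) := yb y2 (z2 b hb).symm ▸ e3.comm_mem z3 (c32 hb)
  have ns : ¬(s = 1 ∨ s = x) := fun e => hn (by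
    have bb : b * b ∈ O2C x := e2.sq hb ▸ one_mem _
    have := (e2.octT x2 m.cj hb k2 bb).cent_of_Q h (inv_mem l1) (by
      rw [show b * q⁻¹ * b⁻¹ = q⁻¹ * s by rw [← hq]; group]
      exact e.imp (fun e => by rw [e, mul_one]) fun e => by rw [e])
    rw [(e2.eq_Ak x2 m.cj hb k2 bb).1] at this
    have := mul_mem (inv_mem (le_centralizer_iff.1 c12 hp)) (inv_mem this)
    rwa [← hq0, inv_inv, inv_mul_cancel_left] at this)
  have ne : s ≠ x := fun e => ns (.inr e)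
  have zs := ((wt_sing e1 e2 n12 c12).1 s ⟨t1, t2⟩ fun e => ns (.inl e)).1
  have lB : ∀ p' ∈ Ak x y1, ∀ r ∈ O2C x, ∀ g, g = p' * b * r → g ∈ centralizer (Ak x y1 : Set G) →
      y1 * g * y1⁻¹ * g⁻¹ = s ∨ y1 * g * y1⁻¹ * g⁻¹ = s * x := by
    rintro p' hp' r hr _ rfl hc
    have e : q * (p' * b * r) * q⁻¹ * (p' * b * r)⁻¹ = p' * (s * (b * (q * r * q⁻¹ * r⁻¹) * b⁻¹)) * p'⁻¹ := by
      calc _ = q * p' * (b * r * q⁻¹ * (p' * b * r)⁻¹) := by group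
        _ = _ := by rw [← zq p' hp', ← hq]; group
    rw [lA _ hc, e]
    rcases hL.commutator_cases l1 hr with a | a <;> rw [a]
    · left; rw [mul_one, mul_inv_cancel, mul_one, e1.comm hp' t1, mul_inv_cancel_right]
    · right; rw [bx, mul_inv_cancel_right, e1.comm hp' (mul_mem t1 x1), mul_inv_cancel_right]
  have hr : b⁻¹ * p⁻¹ * d ∈ O2C x := by
    convert mul_mem (conj_mem_O2C (c.comm' m2 m.mem) (inv_mem l2))
      (conj_mem_O2C (c.comm' m3 m.mem) (mul_mem (inv_mem l1) l3)) using 1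
    calc _ = b⁻¹ * (y2⁻¹ * (y2 * y1) * y1⁻¹) * p⁻¹ * d := by group
      _ = _ := by rw [← cc, ← hq0]; group
  have h1 : ∀ g ∈ F, g ∉ O2C x → g ∈ O2C s ∨ g ∈ O2C (s * x) := fun g hg n => by
    have ex : ∀ {y}, y ∈ F → y * g ∈ O2C x → ∃ f ∈ F, f ∈ O2C x ∧ g = y * f := fun {y} a e =>
      ⟨y * g, mul_mem a hg, e, by rw [← mul_assoc, c.sq y a, one_mul]⟩
    have gg := c.sq g hg
    rcases (h3 g hg).resolve_left n with e | e | e
    · obtain ⟨f, hf, w, rfl⟩ := ex m1 e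
      exact five' m.cj zs sx ne e1 e2 n12 c12 x1 x2 t1 t2 (mul_mem z1 (cent_Ak h c m m1 n1 hf (.inl w))) gg hp k1
        (by rw [← mul_assoc, hq0]; exact mul_mem l1 w) hb (.inl (yb f (cent_Ak h c m m2 n2 hf (.inl w) b hb).symm))
    · obtain ⟨f, hf, w, rfl⟩ := ex m2 e
      refine five' m.cj zs sx ne e2 e3 n32.symm c23 x2 x3 t2 t3 (mul_mem z2 (cent_Ak h c m m2 n2 hf (.inl w))) gg hb
        k2 (by rw [← mul_assoc]; exact mul_mem l2 w) hd ?_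
      have a : y2 * f * d * (y2 * f)⁻¹ = y1 * d * y1⁻¹ := by
        calc _ = y1⁻¹ * (y1 * y2 * (f * d) * f⁻¹ * (y1 * y2)⁻¹) * y1⁻¹⁻¹ := by group
          _ = y1⁻¹ * (y1 * y2 * d * (y1 * y2)⁻¹) * y1⁻¹⁻¹ := by
            rw [← cent_Ak h c m m3 n3 hf (.inl w) d hd]; group
          _ = _ := by rw [← z3 d hd, mul_inv_cancel_right, inv_eq_of_mul_eq_one_right s1,
            inv_eq_of_mul_eq_one_right s1]
      rw [a]
      exact lB p hp _ hr d (by group) (c13 hd)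
    · obtain ⟨f, hf, w, rfl⟩ := ex m3 e
      refine five' m.cj zs sx ne e3 e2 n32 c32 x3 x2 t3 t2 (mul_mem z3 (cent_Ak h c m m3 n3 hf (.inl w))) gg hd k3
        (by rw [← mul_assoc]; exact mul_mem l3 w) hb (.inl ?_)
      rw [mul_assoc y1 y2]
      exact yb _ (mul_mem z2 (cent_Ak h c m m2 n2 hf (.inl w)) b hb).symm
  have hP : ∀ g ∈ P, g * s * g⁻¹ = s ∨ g * s * g⁻¹ = s * x := fun g hg => by
    have gx := (c.comm x m.mem g hg).symm
    have hb' := (mem_normalizer_iff.1 (norm_Ak gx (c.comm y2 m2 g hg).symm) b).1 hb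
    have a : g * s * g⁻¹ = y1 * (g * b * g⁻¹) * y1⁻¹ * (g * b * g⁻¹)⁻¹ := by
      calc _ = g * y1 * b * (g * y1)⁻¹ * (g * b * g⁻¹)⁻¹ := by rw [← hs]; group
        _ = _ := by rw [← c.comm y1 m1 g hg]; group
    rw [a]
    exact lB 1 (one_mem _) _ (e2.mul_mem_O2C x2 m.cj hb hb' k2 fun e =>
      k2 ((mem_O2C_conj g).1 (by rwa [gx, mul_inv_cancel_right]))) _
      (by rw [one_mul, ← mul_assoc b b, e2.sq hb, one_mul]) (c12 hb')
  rcases cover m1 m2 s2 n1 n2 n3 h1 fun g => tri' h m.cj zs sx ne with hF | hF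
  · exact fin h c m m1 n1 zs sx ne hP hF
  · refine fin h c m m1 n1 (isConj_mul h m.cj zs sx ne) (mul_mem sx hL.z_mem)
      (fun e => ns (.inl (mul_eq_right.1 e))) (fun g hg => ?_) hF
    rw [show g * (s * x) * g⁻¹ = g * s * g⁻¹ * x by
      rw [← mul_assoc, mul_assoc _ x, c.comm x m.mem _ (inv_mem hg), ← mul_assoc]]
    exact (hP g hg).imp (fun e => by rw [e]) fun e => by rw [e]

theorem le_B (h : MH z Q R A D) (c : Cfg F P) (m : Mn z F x) (m1 : y1 ∈ F) (m2 : y2 ∈ F)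
    (n1 : y1 ∉ O2C x) (n2 : y2 ∉ O2C x) (n3 : y1 * y2 ∉ O2C x)
    (h3 : ∀ f ∈ F, f ∈ O2C x ∨ y1 * f ∈ O2C x ∨ y2 * f ∈ O2C x ∨ y1 * y2 * f ∈ O2C x) :
    F ≤ Ak x y1 ⊔ Ak x y2 := by
  have cc := c.comm' m1 m2
  obtain ⟨c12, n12⟩ := comm12 h c m m1 m2 n1 n2 n3
  have a := cent12 h c m m1 m2 n1 n2 n3 h3
  have b := cent12 h c m m2 m1 n2 n1 (cc ▸ n3) fun f hf => by
    rw [← cc]; rcases h3 f hf with e | e | e | e <;> simp [e]
  have a1 := cent_Ak h c m m1 n1 m1 (.inr (c.sq _ m1 ▸ one_mem _))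
  have b2 := cent_Ak h c m m2 n2 m2 (.inr (c.sq _ m2 ▸ one_mem _))
  have key : ∀ {y}, y ∈ F → y ∉ O2C x → y1 ∈ centralizer (Ak x y : Set G) → y2 ∈ centralizer (Ak x y : Set G) →
      F ≤ centralizer (Ak x y : Set G) := fun hy n u v f hf => by
    rcases h3 f hf with e | e | e | e
    · exact cent_Ak h c m hy n hf (.inl e)
    · exact (mul_mem_cancel_left u).1 (cent_Ak h c m hy n (mul_mem m1 hf) (.inl e))
    · exact (mul_mem_cancel_left v).1 (cent_Ak h c m hy n (mul_mem m2 hf) (.inl e))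
    · exact (mul_mem_cancel_left (mul_mem u v)).1 (cent_Ak h c m hy n (mul_mem (mul_mem m1 m2) hf) (.inl e))
  exact fun f hf => max_B ((c.octT h m m1 n1).ark h).1 ((c.octT h m m2 n2).ark h).1 n12 c12 (c.sq f hf)
    (key m1 n1 a1 b hf) (key m2 n2 a b2 hf)

end CL.ML.Two2
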