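import Cfsg.Agent.SPOR.ML.FourA
import Cfsg.Agent.SPOR.ML.FrC2

/-!
Maximal 2-local subgroups of the Monster: two elements generate the image of `F` in `C(x) / Q_x`.
-/

set_option autoImplicit false
set_option linter.dupNamespace false

namespace CL.ML.TwoT

open Cfsg CL.Leech CL.MT CL.LX CL.MSS CL.MP Subgroup
open CL.Golay (Code)
open scoped symmDiff

variable {G : Type*} [Group G] [Finite G] {z : G} {Q : Subgroup G} {R : leechLattice → G → Prop}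
  {A : Co0 → G → Prop} {D : Set G}

/-- a code word that is constant on two octads of a trio -/
theorem trio {O1 O2 c : Finset GolayPt} (m1 : O1 ∈ Code) (m2 : O2 ∈ Code) (mc : c ∈ Code) (c1 : O1.card = 8)
    (c2 : O2.card = 8) (hd : Disjoint O1 O2) (h1 : O1 ⊆ c ∨ Disjoint O1 c) (h2 : O2 ⊆ c ∨ Disjoint O2 c) :
    (c = ∅ ∨ c = Finset.univ) ∨ (O1 ∆ c = ∅ ∨ O1 ∆ c = Finset.univ) ∨ (O2 ∆ c = ∅ ∨ O2 ∆ c = Finset.univ) ∨
      (O1 ∆ O2 ∆ c = ∅ ∨ O1 ∆ O2 ∆ c = Finset.univ) := by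
  have k : ∀ O ∈ Code, O ⊆ c ∨ Disjoint O c → O ∩ c ∈ Code := fun O m h => h.elim
    (fun h => by rwa [Finset.inter_eq_left.2 h]) fun h => by
      rw [Finset.disjoint_iff_inter_eq_empty.1 h]; exact Golay.empty_mem_code
  have h3 := FrC2.sub8 (O := (O1 ∪ O2)ᶜ) (Golay.symmDiff_mem_code (Golay.symmDiff_mem_code mc (k _ m1 h1)) (k _ m2 h2))
    (fun i => by
      have : i ∈ O1 → i ∉ O2 := fun a => Finset.disjoint_left.1 hd a
      simp only [Finset.mem_symmDiff, Finset.mem_inter, Finset.mem_compl, Finset.mem_union]; grind)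
    (by rw [Finset.card_compl, Finset.card_union_of_disjoint hd, c1, c2]; rfl)
  rw [Finset.disjoint_left] at hd h1 h2
  simp only [Finset.subset_iff, Finset.ext_iff, Finset.mem_symmDiff, Finset.mem_inter, Finset.mem_compl,
    Finset.mem_union, Finset.notMem_empty, Finset.mem_univ] at h1 h2 h3 ⊢
  rcases h1 with h1 | h1 <;> rcases h2 with h2 | h2 <;> rcases h3 with h3 | h3
  exacts [.inr (.inr (.inr (.inl fun i => by grind))),
    .inl (.inr fun i => by grind),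
    .inr (.inl (.inl fun i => by grind)),
    .inr (.inr (.inl (.inr fun i => by grind))),
    .inr (.inr (.inl (.inl fun i => by grind))),
    .inr (.inl (.inr fun i => by grind)),
    .inl (.inl fun i => by grind),
    .inr (.inr (.inr (.inr fun i => by grind)))]

theorem core {h : MH z Q R A D} {O1 O2 : Code} {E1 E2 : Subgroup G} (o1 : OA h O1 E1) (o2 : OA h O2 E2)
    (hd : Disjoint O1.1 O2.1) {y1 y2 f : G} (a1 : A (sgn O1) y1) (a2 : A (sgn O2) y2) (fz : f * z = z * f)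
    (t1 : ∀ w ∈ E1, w ∈ Q → f * w * f⁻¹ = w ∨ f * w * f⁻¹ = w * z)
    (t2 : ∀ w ∈ E2, w ∈ Q → f * w * f⁻¹ = w ∨ f * w * f⁻¹ = w * z) :
    f ∈ Q ∨ y1 * f ∈ Q ∨ y2 * f ∈ Q ∨ y1 * y2 * f ∈ Q := by
  obtain ⟨k, hk⟩ := h.ex_g f fz
  obtain ⟨σ, c, rfl, s1, u1⟩ := o1.fix hk t1
  obtain ⟨σ', c', e, s2, u2⟩ := o2.fix hk t2
  obtain ⟨rfl, rfl⟩ := Prod.mk.inj (mono_injective (a₁ := (σ, c)) (a₂ := (σ', c')) e)
  obtain rfl : σ = 1 := Subtype.ext (Golay.eq_one_of_fix (s := O1.1 ∪ O2.1) (Golay.mem_Fix.2 ⟨σ.2, fun i hi =>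
    (Finset.mem_union.1 hi).elim (s1 i) (s2 i)⟩) (by rw [Finset.card_union_of_disjoint hd, o1.card, o2.card]; norm_num))
  have m : ∀ {d : Code} {y : G}, A (sgn d) y → d.1 ∆ c.1 = ∅ ∨ d.1 ∆ c.1 = Finset.univ → y * f ∈ Q := fun a =>
    (mem_Q_iff_sgn h (A_sgn_mul h (e := ⟨_, Golay.symmDiff_mem_code (Subtype.prop _) c.2⟩) a hk rfl)).2
  exact (trio O1.2 O2.2 c.2 o1.card o2.card hd u1 u2).imp (mem_Q_iff_sgn h hk).2 fun e => e.imp (m a1) fun e =>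
    e.imp (m a2) (m (A_sgn_mul h (e := ⟨_, Golay.symmDiff_mem_code O1.2 O2.2⟩) a1 a2 rfl))

theorem three (h : MH z Q R A D) {F P : Subgroup G} {x y1 y2 : G} (c : Cfg F P) (m : Mn z F x) (m1 : y1 ∈ F)
    (m2 : y2 ∈ F) (n1 : y1 ∉ O2C x) (n2 : y2 ∉ O2C x) (_n3 : y1 * y2 ∉ O2C x)
    (c12 : Ak x y2 ≤ centralizer (Ak x y1 : Set G) ∧ Ak x y1 ≠ Ak x y2) {f : G} (hf : f ∈ F) :
    f ∈ O2C x ∨ y1 * f ∈ O2C x ∨ y2 * f ∈ O2C x ∨ y1 * y2 * f ∈ O2C x := by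
  refine or_iff_not_imp_left.2 fun n => or_iff_not_imp_left.2 fun n1' => or_iff_not_imp_left.2 fun n2' => ?_
  obtain ⟨e1, x1, -, b1⟩ := (c.octT h m m1 n1).ark h
  obtain ⟨e2, x2, -, b2⟩ := (c.octT h m m2 n2).ark h
  obtain ⟨g, hg⟩ := isConj_iff.1 m.cj.symm
  obtain ⟨d, O1, O2, dz, o1, o2, hd⟩ := frame2 (e1.conj g) (e2.conj g) (mt (cj_inj g).1 c12.2) (Comm.cj_cent c12.1 g)
    (hg ▸ conj_mem_cj x1) (hg ▸ conj_mem_cj x2)
  rw [← cj_mul] at o1 o2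
  have hk : d * g * x * (d * g)⁻¹ = z := by
    calc _ = d * (g * x * g⁻¹) * d⁻¹ := by group
      _ = z := by rw [hg, dz, mul_inv_cancel_right]
  generalize d * g = k at o1 o2 hk
  have q : ∀ u, k * u * k⁻¹ ∈ Q ↔ u ∈ O2C x := fun u => by rw [← mem_O2C_conj k, hk, O2C_z h]
  have mu : ∀ u v : G, k * u * k⁻¹ * (k * v * k⁻¹) = k * (u * v) * k⁻¹ := fun u v => by group
  have a : ∀ {O : Code} {E : Subgroup G} {y : G}, OA h O (k •ᶜ E) → (∃ b ∈ E, b ∉ O2C x ∧ b * y ∈ O2C x) →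
      A (sgn O) (k * y * k⁻¹) := fun o ⟨b, b1, b2, b3⟩ => by
    have := h.A_mul (o.ovr _ (conj_mem_cj b1) (mt (q b).1 b2)) (h.A_of (one_mem _) ((q _).2 b3))
    rwa [mul_one, ← mu, ← mul_assoc _ (k * b * k⁻¹), o.ark.sq (conj_mem_cj b1), one_mul] at this
  have t : ∀ {E : Subgroup G}, (∀ w ∈ E, w ∈ O2C x → f * w * f⁻¹ = w ∨ f * w * f⁻¹ = w * x) → ∀ w ∈ k •ᶜ E, w ∈ Q →
      k * f * k⁻¹ * w * (k * f * k⁻¹)⁻¹ = w ∨ k * f * k⁻¹ * w * (k * f * k⁻¹)⁻¹ = w * z := fun t w hw hQ => by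
    obtain ⟨w, hw', rfl⟩ := mem_cj'.1 hw
    rw [show k * f * k⁻¹ * (k * w * k⁻¹) * (k * f * k⁻¹)⁻¹ = k * (f * w * f⁻¹) * k⁻¹ by group, ← hk, mu]
    exact (t w hw' ((q w).1 hQ)).imp (fun e => by rw [e]) fun e => by rw [e]
  have := core o1 o2 hd (a o1 b1) (a o2 b2) (f := k * f * k⁻¹) (by rw [← hk, mu, mu, c.comm' hf m.mem])
    (t (c.no_four h m m1 hf n1 n n1')) (t (c.no_four h m m2 hf n2 n n2'))
  simp only [mu, q] at this
  tauto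

end CL.ML.TwoT
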