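import Cfsg.Agent.SPOR.ML.Two1
import Cfsg.Agent.SPOR.ML.TwoT
import Cfsg.Agent.SPOR.ML.Two2

/-!
Maximal 2-local subgroups of the Monster: the image of `F` in `C(x) / Q_x` has order at most four.
-/

set_option autoImplicit false
set_option linter.dupNamespace false

namespace CL.ML

open Cfsg CL.Leech CL.MT CL.LX CL.MSS CL.MP Subgroup
open CL.Golay (Code)
open scoped symmDiff

variable {G : Type*} [Group G] [Finite G] {z : G} {Q : Subgroup G} {R : leechLattice → G → Prop}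
  {A : Co0 → G → Prop} {D : Set G}

variable {F P : Subgroup G} {x y y1 y2 : G}

/-- `x = z`, `frame2`; `f` acts trivially on both `E_i ∩ Q` modulo `z` (`no_four`), `OA.fix`: the permutation
fixes sixteen points, so it is trivial, and the sign change is constant on `O₁`, `O₂` and on the third octad -/
theorem Cfg.three (h : MH z Q R A D) (c : Cfg F P) (m : Mn z F x) (m1 : y1 ∈ F) (m2 : y2 ∈ F)
    (n1 : y1 ∉ O2C x) (n2 : y2 ∉ O2C x) (n3 : y1 * y2 ∉ O2C x) {f : G} (hf : f ∈ F) :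
    f ∈ O2C x ∨ y1 * f ∈ O2C x ∨ y2 * f ∈ O2C x ∨ y1 * y2 * f ∈ O2C x :=
  TwoT.three h c m m1 m2 n1 n2 n3 (c.comm12 h m m1 m2 n1 n2 n3) hf

theorem Cfg.cases (h : MH z Q R A D) (c : Cfg F P) (m : Mn z F x) :
    F ≤ O2C x ∨ (O2C x).relIndex F = 2 ∨ (O2C x).relIndex F = 4 := by
  refine or_iff_not_imp_left.2 fun h1 => or_iff_not_imp_left.2 fun h2 => ?_
  have h3 : ¬ G1 F x := fun g => by
    have k := g.relIndex_le
    have k0 : (O2C x).relIndex F ≠ 0 := FiniteIndex.index_ne_zero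
    have k1 : (O2C x).relIndex F ≠ 1 := fun e => h1 (relIndex_eq_one.1 e)
    omega
  unfold G1 at h3
  push Not at h3
  obtain ⟨y1, m1, y2, m2, n1, n2, n3⟩ := h3
  have cm : ∀ a b : F, a * b = b * a := fun a b => Subtype.ext (c.comm' a.2 b.2)
  have sq : ∀ a : F, a * a = 1 := fun a => Subtype.ext (c.sq a a.2)
  let N := (O2C x).subgroupOf F
  have : N.Normal := ⟨fun a ha b => by rwa [cm b, mul_inv_cancel_right]⟩
  have iv : ∀ a : F, a⁻¹ = a := fun a => inv_eq_of_mul_eq_one_right (sq a)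
  have eq : ∀ a b : F, (a : F ⧸ N) = b ↔ (a : G) * b ∈ O2C x := fun a b => by
    rw [QuotientGroup.eq, iv]; rfl
  have e1 : ∀ a : F, (1 : F ⧸ N) = a ↔ (a : G) ∈ O2C x := fun a => by
    rw [eq_comm, QuotientGroup.eq_one_iff]; rfl
  have u : (Set.univ : Set (F ⧸ N)) =
      {1, ((⟨y1, m1⟩ : F) : F ⧸ N), ((⟨y2, m2⟩ : F) : F ⧸ N), ((⟨y1 * y2, mul_mem m1 m2⟩ : F) : F ⧸ N)} := by
    refine (Set.eq_univ_of_forall fun q => ?_).symm
    obtain ⟨f, rfl⟩ := QuotientGroup.mk_surjective q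
    simp only [Set.mem_insert_iff, Set.mem_singleton_iff, eq_comm (a := (f : F ⧸ N)), eq, e1]
    exact c.three h m m1 m2 n1 n2 n3 f.2
  have a1 : y1 * (y1 * y2) = y2 := by rw [← mul_assoc, c.sq y1 m1, one_mul]
  have a2 : y2 * (y1 * y2) = y1 := by rw [c.comm' m1 m2, ← mul_assoc, c.sq y2 m2, one_mul]
  change Nat.card (F ⧸ N) = 4
  rw [← Set.ncard_univ, u, Set.ncard_insert_of_notMem (by simp [e1, n1, n2, n3]),
    Set.ncard_insert_of_notMem (by simp [eq, a1, n2, n3]), Set.ncard_pair (by simp [eq, a2, n1])]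

/-- `x = z`, `E_i = Ak z y_i`, `E₃ = Ak z (y₁ y₂)`, pairwise commuting and different. It suffices that
`y₁ ∈ C(E₂)` for every such pair (`max_B`, `three`, `cent_Ak`). Otherwise write `y₁ = p q`, `p ∈ E₁ \ Q`,
`q ∈ Q ∩ C(E₁)`, take `b ∈ E₂ \ Q`: `w = [y₁, b] = [q, b] ∉ ⟨z⟩` (`OctT.cent_of_Q`), `w ∈ E₂` (`Q` normalises
`E₂`), `w ∈ E₁` (`IsArk.comm_mem`), so `w` is 2B (`wt_sing`), `w ∈ Q`; `move` it to `s` over `e8`, `frame3`
for the three pairs. `five` applies to `(E₁, E₂, y₁ f, b)`, `(E₃, E₂, y₁ y₂ f, b)`, `(E₂, E₃, y₂ f, p b)`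
(`p b ∈ E₃`... or any `b₃ ∈ E₃ \ Q`: `b₃ ∈ p b Q`, `[y₂ f, b₃] = [y₁, b₃]` up to `z`) for all `f ∈ F ∩ Q`. So
`F \ Q ⊆ Q_s ∪ Q_{s z}`, and `tri'` gives `F ≤ Q_u` for exactly one `u ∈ {s, s z}`. `P` permutes `{s, s z}`
(`n b n⁻¹ ∈ b (E₂ ∩ Q)`), so it centralises `u`, `u ∈ F`, index one, against `Mn.min`. -/
theorem Cfg.le_B (h : MH z Q R A D) (c : Cfg F P) (m : Mn z F x) (m1 : y1 ∈ F) (m2 : y2 ∈ F)
    (n1 : y1 ∉ O2C x) (n2 : y2 ∉ O2C x) (n3 : y1 * y2 ∉ O2C x) : F ≤ Ak x y1 ⊔ Ak x y2 :=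
  Two2.le_B h c m m1 m2 n1 n2 n3 fun _ hf => c.three h m m1 m2 n1 n2 n3 hf

end CL.ML
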