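import Cfsg.Agent.SPOR.ML.FourA

/-!
Maximal 2-local subgroups of the Monster: the arks of two elements of `F` commute.
-/

set_option autoImplicit false
set_option linter.dupNamespace false

namespace CL.ML

open Cfsg CL.Leech CL.MT CL.LX CL.MSS CL.MP Subgroup
open CL.Golay (Code)
open scoped symmDiff

variable {G : Type*} [Group G] [Finite G] {z : G} {Q : Subgroup G} {R : leechLattice → G → Prop}
  {A : Co0 → G → Prop} {D : Set G}

variable {F P : Subgroup G} {x y y1 y2 : G}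

theorem Cfg.cent_Ak (h : MH z Q R A D) (c : Cfg F P) (m : Mn z F x) (hy : y ∈ F) (n : y ∉ O2C x) {f : G}
    (hf : f ∈ F) (e : f ∈ O2C x ∨ y * f ∈ O2C x) : f ∈ centralizer (Ak x y : Set G) := by
  have o := c.octT h m hy n
  rcases e with e | e
  · exact o.cent_of_Q h e (.inl (mul_inv_eq_iff_eq_mul.2 (c.comm' hy hf)))
  · have h1 := mul_mem (o.cent_self h (c.sq y hy))
      (o.cent_of_Q h e (.inl (mul_inv_eq_iff_eq_mul.2 (c.comm' hy (mul_mem hy hf)))))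
    rwa [← mul_assoc, c.sq y hy, one_mul] at h1

namespace Two1

/-- `q ∈ Q_x` acts trivially on `Q_x / ⟨x⟩` -/
theorem triv (h : MH z Q R A D) (hx : IsConj z x) {q w : G} (hq : q ∈ O2C x) (hw : w ∈ O2C x) :
    q * w * q⁻¹ = w ∨ q * w * q⁻¹ = w * x := by
  rcases (lx_of h hx).comm q hq w hw with e | e
  · exact .inl (mul_inv_eq_iff_eq_mul.2 e)
  · refine .inr (mul_inv_eq_iff_eq_mul.2 ?_)
    rw [e, mul_assoc, (lx_of h hx).z_comm q hq, mul_assoc]

omit [Finite G] in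
/-- products of elements that act trivially modulo `x` -/
theorem triv_mul {a b w : G} (x2 : x * x = 1) (ax : a * x = x * a)
    (ha : a * w * a⁻¹ = w ∨ a * w * a⁻¹ = w * x) (hb : b * w * b⁻¹ = w ∨ b * w * b⁻¹ = w * x) :
    a * b * w * (a * b)⁻¹ = w ∨ a * b * w * (a * b)⁻¹ = w * x := by
  have e : a * b * w * (a * b)⁻¹ = a * (b * w * b⁻¹) * a⁻¹ := by group
  have e' : a * (w * x) * a⁻¹ = a * w * a⁻¹ * x := by
    rw [← mul_assoc, mul_assoc _ x, mul_assoc _ a⁻¹, (Commute.inv_left ax).eq]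
  rw [e]
  rcases hb with hb | hb <;> rw [hb]
  · exact ha
  · rw [e']
    rcases ha with ha | ha <;> rw [ha]
    · exact .inr rfl
    · exact .inl (by rw [mul_assoc, x2, mul_one])

end Two1

theorem Cfg.comm12 (h : MH z Q R A D) (c : Cfg F P) (m : Mn z F x) (m1 : y1 ∈ F) (m2 : y2 ∈ F)
    (n1 : y1 ∉ O2C x) (n2 : y2 ∉ O2C x) (n3 : y1 * y2 ∉ O2C x) :
    Ak x y2 ≤ centralizer (Ak x y1 : Set G) ∧ Ak x y1 ≠ Ak x y2 := by
  obtain ⟨a1, x1, -, b1, c1, d1, e1⟩ := (c.octT h m m1 n1).ark h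
  obtain ⟨a2, x2, -, b2, c2, d2, e2⟩ := (c.octT h m m2 n2).ark h
  refine ⟨comm_of_triv a1 a2 x1 x2 m.cj c2 d2 fun w hw hq => ?_, fun e => n3 ?_⟩
  · have := Two1.triv_mul (sq_of h m.cj).1 (comm_of_mem e2).symm (Two1.triv h m.cj e2 hq)
      (c.no_four h m m1 m2 n1 n2 n3 w hw hq)
    rwa [mul_assoc b2, c.sq y2 m2, mul_one] at this
  · have h1 := a2.mul_mem_O2C x2 m.cj c2 (e ▸ c1) d2 d1
    have h2 := mul_mem (mul_mem (conj_mem_O2C (c := b1⁻¹) (Commute.inv_left (a1.comm c1 x1)).eq e1) (inv_mem h1)) e2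
    rwa [show b1⁻¹ * (b1 * y1) * b1⁻¹⁻¹ * (b2 * b1)⁻¹ * (b2 * y2) = y1 * y2 by group] at h2

set_option linter.unusedSectionVars false in
theorem exists_of_two (e : (O2C x).relIndex F = 2) :
    ∃ y ∈ F, y ∉ O2C x ∧ ∀ f ∈ F, f ∈ O2C x ∨ y * f ∈ O2C x := by
  obtain ⟨y, hy⟩ : ∃ y : F, y ∉ (O2C x).subgroupOf F := by
    by_contra! k
    rw [relIndex, show (O2C x).subgroupOf F = ⊤ from eq_top_iff.2 fun y _ => k y, index_top] at e
    omega
  refine ⟨y, y.2, hy, fun f hf => or_iff_not_imp_left.2 fun k => ?_⟩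
  exact (mul_mem_iff_of_index_two (H := (O2C x).subgroupOf F) e (a := y) (b := ⟨f, hf⟩)).2 (iff_of_false hy k)

theorem exists_of_four (sq : ∀ f ∈ F, f * f = 1) (e : (O2C x).relIndex F = 4) :
    ∃ y1 ∈ F, ∃ y2 ∈ F, y1 ∉ O2C x ∧ y2 ∉ O2C x ∧ y1 * y2 ∉ O2C x := by
  by_contra! k
  have := G1.relIndex_le (F := F) (u := x) fun f hf g hg => k f hf g hg
  omega

end CL.ML
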