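import Cfsg.Agent.SPOR.ML.Two
import Cfsg.Agent.SPOR.ML.A3

/-!
Maximal 2-local subgroups of the Monster: index four, the group `B(x)` seen from a second point.
-/

set_option autoImplicit false
set_option linter.dupNamespace false

namespace CL.ML

open Cfsg CL.Leech CL.MT CL.LX CL.MSS CL.MP Subgroup
open CL.Golay (Code)
open scoped symmDiff

variable {G : Type*} [Group G] [Finite G] {z : G} {Q : Subgroup G} {R : leechLattice → G → Prop}
  {A : Co0 → G → Prop} {D : Set G}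

namespace TwoB2

theorem surj {H F B : Subgroup G} (FB : F ≤ B) (hi : H.relIndex B ≤ H.relIndex F) {b : G} (hb : b ∈ B) :
    ∃ f ∈ F, b⁻¹ * f ∈ H := by
  have bij := (quotientSubgroupOfEmbeddingOfLE H FB).injective.bijective_of_nat_card_le hi
  obtain ⟨q, e⟩ := bij.2 (QuotientGroup.mk ⟨b, hb⟩)
  obtain ⟨f, rfl⟩ := QuotientGroup.mk_surjective q
  rw [quotientSubgroupOfEmbeddingOfLE_apply_mk] at e
  exact ⟨f, f.2, mem_subgroupOf.1 (QuotientGroup.eq.1 e.symm)⟩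

theorem four (h : MH z Q R A D) {F P : Subgroup G} (c : Cfg F P) {x y1 y2 : G} (m : Mn z F x)
    (m1 : y1 ∈ F) (m2 : y2 ∈ F) (n1 : y1 ∉ O2C x) (n2 : y2 ∉ O2C x) (n3 : y1 * y2 ∉ O2C x) :
    (O2C x).relIndex F = 4 := by
  rcases c.cases h m with e | e | e
  · exact absurd (e m1) n1
  · obtain ⟨y, -, -, k⟩ := exists_of_two e
    have := (O2C x).mul_mem ((O2C x).inv_mem ((k y1 m1).resolve_left n1)) ((k y2 m2).resolve_left n2)
    rw [mul_inv_rev, mul_assoc, inv_mul_cancel_left, inv_eq_of_mul_eq_one_right (c.sq y1 m1)] at this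
    exact absurd this n3
  · exact e

theorem ak_le (h : MH z Q R A D) {F P : Subgroup G} (c : Cfg F P) {x y1 y2 u y : G} (m : Mn z F x)
    (m1 : y1 ∈ F) (m2 : y2 ∈ F) (n1 : y1 ∉ O2C x) (n2 : y2 ∉ O2C x) (n3 : y1 * y2 ∉ O2C x)
    (uF : u ∈ F) (u0 : u ≠ 1) (u1 : u ∈ Ak x y1) (u2 : u ∈ Ak x y2) :
    Mn z F u ∧ (∃ f ∈ F, f ∉ O2C u ∧ Ak u f = Ak x y1) ∧ (∃ f ∈ F, f ∉ O2C u ∧ Ak u f = Ak x y2) ∧
      (y ∈ F → y ∉ O2C u → Ak u y ≤ Ak x y1 ⊔ Ak x y2) := by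
  have e1 := ((c.octT h m m1 n1).ark h).1
  have e2 := ((c.octT h m m2 n2).ark h).1
  obtain ⟨hc, ne⟩ := c.comm12 h m m1 m2 n1 n2 n3
  have FB := c.le_B h m m1 m2 n1 n2 n3
  have hu : IsConj z u := ((wt_sing e1 e2 ne hc).1 u ⟨u1, u2⟩ u0).1
  have i4 := four h c m m1 m2 n1 n2 n3
  have iB := index_B e1 e2 hc u1 u2 hu
  have iF : (O2C u).relIndex F ≤ (O2C u).relIndex (Ak x y1 ⊔ Ak x y2) :=
    relIndex_le_of_le_right FB index_ne_zero_of_finite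
  have mu : Mn z F u := ⟨hu, uF, fun v hv zv => (iF.trans iB).trans (i4 ▸ m.min v hv zv)⟩
  have key : ∀ E, IsArk h E → u ∈ E → E ≤ Ak x y1 ⊔ Ak x y2 → ∃ f ∈ F, f ∉ O2C u ∧ Ak u f = E ∧
      (y ∈ F → y ∉ O2C u → Ak u y = E ∨ Ak u y ≤ centralizer (E : Set G)) := fun E e uE le => by
    obtain ⟨b, hb, -, nb⟩ := e.exists_not_mem uE hu
    obtain ⟨f, hf, k⟩ := surj FB (iB.trans (i4 ▸ m.min u uF hu)) (le hb)
    have nb' : b⁻¹ ∉ O2C u := fun k' => nb ((O2C u).inv_mem_iff.1 k')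
    have nf : f ∉ O2C u := fun k' => nb' (((O2C u).mul_mem_cancel_right k').1 k)
    have ef := (e.eq_Ak uE hu (E.inv_mem hb) nb' k).1
    refine ⟨f, hf, nf, ef, fun hy ny => ?_⟩
    by_cases fy : f * y ∈ O2C u
    · refine Or.inl (e.eq_Ak uE hu (E.inv_mem hb) nb' ?_).1
      have := (O2C u).mul_mem k fy
      rwa [mul_assoc, ← mul_assoc f, c.sq f hf, one_mul] at this
    · exact Or.inr (ef ▸ (c.comm12 h mu hf hy nf ny fy).1)
  obtain ⟨f1, a1, b1, c1, d1⟩ := key _ e1 u1 le_sup_left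
  obtain ⟨f2, a2, b2, c2, d2⟩ := key _ e2 u2 le_sup_right
  refine ⟨mu, ⟨f1, a1, b1, c1⟩, ⟨f2, a2, b2, c2⟩, fun hy ny => ?_⟩
  rcases d1 hy ny with k1 | k1
  · exact k1.le.trans le_sup_left
  rcases d2 hy ny with k2 | k2
  · exact k2.le.trans le_sup_right
  exact fun w hw => max_B e1 e2 ne hc (((c.octT h mu hy ny).ark h).1.sq hw) (k1 hw) (k2 hw)

end TwoB2

end CL.ML
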